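import Mathlib

/-!
The integer inequalities behind the eigenvalue counts.
-/

set_option autoImplicit false
set_option linter.style.haveILetI false
set_option linter.unusedSectionVars false

namespace CfsgLib.FitTuran

theorem le_sub_one_or_le {r d : ℕ} (hr : r.Prime) (hd : 2 ≤ d) (h : r ∣ d ^ 2 - 1) :
    d = r - 1 ∨ r + 1 ≤ d := by
  have h1 : r ∣ (d + 1) * (d - 1) := by rwa [← Nat.sq_sub_sq, one_pow]
  rcases hr.dvd_mul.1 h1 with h2 | h2
  · have := Nat.le_of_dvd (by omega) h2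
    rcases Nat.lt_or_ge (r + 2) (d + 2) with h3 | h3
    · exact Or.inr (by omega)
    · obtain ⟨t, ht⟩ := h2
      rcases Nat.lt_or_ge t 2 with ht2 | ht2
      · interval_cases t <;> omega
      · exact Or.inr (by nlinarith [hr.two_le])
  · have := Nat.le_of_dvd (by omega) h2
    omega

theorem sub_one_le_of_dvd {r d : ℕ} (hr : r.Prime) (hd : 2 ≤ d) (h : r ∣ d ^ 2 - 1) : r - 1 ≤ d := by
  rcases le_sub_one_or_le hr hd h with h | h <;> omega

/-- The fixed space of a fixed-point-free operator lies near the average. -/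
theorem mul_fix_le {r d m T S : ℕ} (hr : 1 ≤ r) (hd : T + m = d) (hcs : T ^ 2 ≤ (r - 1) * S)
    (hS : r * (m ^ 2 + S) ≤ d ^ 2 + (r - 1)) : r * m ≤ d + (r - 1) ∧ d ≤ r * m + (r - 1) := by
  obtain ⟨R, rfl⟩ : ∃ R, r = R + 1 := ⟨r - 1, by omega⟩
  simp only [Nat.add_sub_cancel] at *
  subst hd
  have h : (((T : ℤ) + m) - ((R : ℤ) + 1) * m) ^ 2 ≤ (R : ℤ) ^ 2 := by
    zify at hcs hS
    nlinarith [mul_le_mul_of_nonneg_left hS (Int.natCast_nonneg R),
      mul_le_mul_of_nonneg_left hcs (show (0 : ℤ) ≤ (R : ℤ) + 1 by positivity)]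
  obtain ⟨h1, h2⟩ := abs_le.1 (abs_le_of_sq_le_sq h (Int.natCast_nonneg R))
  constructor <;> · zify; linarith

/-- The rank of a fixed-point-free operator on the acting side. -/
theorem rank_lower {r d m T S : ℕ} (hr : r.Prime) (hd : T + m = d) (hd2 : 2 ≤ d)
    (hdvd : r ∣ d ^ 2 - 1) (hcs : T ^ 2 ≤ (r - 1) * S)
    (hS : r * (m ^ 2 + S) ≤ d ^ 2 + (r - 1)) : r - 2 ≤ T ∧ (Odd d → r - 1 ≤ T) := by
  obtain ⟨h1, -⟩ := mul_fix_le hr.one_le hd hcs hS
  have hr2 := hr.two_le
  obtain ⟨R, rfl⟩ : ∃ R, r = R + 2 := ⟨r - 2, by omega⟩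
  have e1 : R + 2 - 1 = R + 1 := by omega
  have e2 : R + 2 - 2 = R := by omega
  rw [e1] at h1 ⊢
  rw [e2]
  rcases le_sub_one_or_le hr hd2 hdvd with h | h
  · rw [e1] at h
    refine ⟨?_, fun ho => ?_⟩
    · by_contra hlt
      push Not at hlt
      nlinarith
    · rcases hr.eq_two_or_odd' with h2 | h2
      · omega
      · rw [h] at ho
        exact absurd ho (Nat.not_odd_iff_even.2 (by
          rcases h2 with ⟨t, ht⟩
          exact ⟨t, by omega⟩))
  · have : R + 1 ≤ T := by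
      by_contra hlt
      push Not at hlt
      nlinarith
    exact ⟨by omega, fun _ => this⟩

/-- An operator without fixed vectors moves few classes. -/
theorem null_bound {r n f g S : ℕ} (hr : 2 ≤ r) (hn : n = f * g) (hf : 0 < f) (hcs : n ≤ (r - 1) * S)
    (hS : r * S ≤ n + (r - 1) * f) : g ≤ (r - 1) ^ 2 := by
  obtain ⟨R, rfl⟩ : ∃ R, r = R + 1 := ⟨r - 1, by omega⟩
  simp only [Nat.add_sub_cancel] at *
  subst hn
  have h1 : f * g ≤ R ^ 2 * f := by nlinarith [Nat.mul_le_mul_left R hS, Nat.mul_le_mul_left (R + 1) hcs]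
  by_contra hlt
  push Not at hlt
  nlinarith

/-- A proper nondegenerate fixed part is impossible. -/
theorem no_fixed_part {r φ e m : ℕ} (hr : r.Prime) (hφ : 2 ≤ φ) (he : 2 ≤ e)
    (hφd : r ∣ φ ^ 2 - 1) (hed : r ∣ e ^ 2 - 1) (hex : e ^ 2 ≠ r + 1)
    (hlow : φ * e ≤ r * m + (r - 1)) (hup : r * m ^ 2 ≤ r + (φ ^ 2 - 1)) : False := by
  have hφ1 := sub_one_le_of_dvd hr hφ hφd
  have he1 := sub_one_le_of_dvd hr he hed
  have h1φ : 1 ≤ φ ^ 2 := Nat.one_le_pow _ _ (by omega)
  obtain ⟨P, hP⟩ : ∃ P, φ ^ 2 = P + 1 := ⟨φ ^ 2 - 1, by omega⟩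
  rw [hP, Nat.add_sub_cancel] at hup
  rcases Nat.lt_or_ge r 5 with h5 | h5
  · have hr2 := hr.two_le
    have h4 : r ≠ 4 := fun h => by rw [h] at hr; norm_num at hr
    interval_cases r
    · have : 3 ≤ φ := by
        by_contra hh
        have : φ = 2 := by omega
        subst this; norm_num at hφd
      have : 3 ≤ e := by
        by_contra hh
        have : e = 2 := by omega
        subst this; norm_num at hed
      simp only [show (2 : ℕ) - 1 = 1 from rfl] at hlow
      nlinarith [Nat.mul_le_mul hlow hlow, Nat.mul_le_mul_left φ this]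
    · have : 4 ≤ e := by
        by_contra hh
        interval_cases e
        · exact hex (by norm_num)
        · norm_num at hed
      simp only [show (3 : ℕ) - 1 = 2 from rfl] at hlow
      nlinarith [Nat.mul_le_mul hlow hlow, Nat.mul_le_mul_left φ this]
    · exact absurd rfl h4
  · obtain ⟨R, rfl⟩ : ∃ R, r = R + 5 := ⟨r - 5, by omega⟩
    simp only [show R + 5 - 1 = R + 4 by omega] at hφ1 he1 hlow
    obtain ⟨a, rfl⟩ : ∃ a, φ = R + 4 + a := ⟨φ - (R + 4), by omega⟩
    obtain ⟨b, rfl⟩ : ∃ b, e = R + 4 + b := ⟨e - (R + 4), by omega⟩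
    have hX : (R + 4) * (R + 3 + a) ≤ (R + 5) * m := by nlinarith
    have hPe : P = R ^ 2 + 2 * R * a + a ^ 2 + 8 * R + 8 * a + 15 := by
      have : (R + 4 + a) ^ 2 = R ^ 2 + 2 * R * a + a ^ 2 + 8 * R + 8 * a + 16 := by ring
      omega
    have hdiff : (R + 4) * (R + 3 + a) * ((R + 4) * (R + 3 + a)) = (R + 5) * (R + 5 + P) +
        (R ^ 4 + 13 * R ^ 3 + 59 * R ^ 2 + 103 * R + 44 + a * (2 * R ^ 3 + 20 * R ^ 2 + 62 * R + 56) +
          a ^ 2 * (R ^ 2 + 7 * R + 11)) := by rw [hPe]; ring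
    have h1 := Nat.mul_le_mul hX hX
    have h2 := Nat.mul_le_mul_left (R + 5) hup
    have h3 : (R + 5) * m * ((R + 5) * m) = (R + 5) * ((R + 5) * m ^ 2) := by ring
    have h4 : 44 ≤ R ^ 4 + 13 * R ^ 3 + 59 * R ^ 2 + 103 * R + 44 +
        a * (2 * R ^ 3 + 20 * R ^ 2 + 62 * R + 56) + a ^ 2 * (R ^ 2 + 7 * R + 11) :=
      le_trans (Nat.le_add_left 44 _) (le_trans (Nat.le_add_right _ _) (Nat.le_add_right _ _))
    omega

/-- The possible dimensions when the fixed space is at most a line. -/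
theorem dims {r d m T S o₁ : ℕ} (hr : r.Prime) (hm : m ≤ 1) (hd : T + m = d) (hd2 : 2 ≤ d)
    (ho : d ^ 2 = 1 + o₁ * r) (hS : m ^ 2 + S = 1 + o₁) (hcs : T ^ 2 ≤ (r - 1) * S) :
    (d = r - 1 ∧ S = T) ∨ (m = 1 ∧ d = r + 1 ∧ S = T + 2) ∨
      (m = 1 ∧ d + 1 = 2 * r ∧ S = 2 * T) := by
  have hr2 := hr.two_le
  have hdvd : r ∣ d ^ 2 - 1 := ⟨o₁, by rw [ho, Nat.add_sub_cancel_left, mul_comm]⟩
  have hup : d + 1 ≤ 2 * r ∧ (m = 0 → d ≤ r - 1) := by
    obtain ⟨R, rfl⟩ : ∃ R, r = R + 1 := ⟨r - 1, by omega⟩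
    simp only [Nat.add_sub_cancel] at *
    interval_cases m
    · refine (fun h : d ≤ R => ⟨by omega, fun _ => h⟩) ?_
      simp only [Nat.add_zero] at hd
      subst hd
      have h1 : o₁ + 1 ≤ R := by nlinarith
      have h2 : T ^ 2 ≤ R ^ 2 := by nlinarith
      exact (Nat.pow_le_pow_iff_left two_ne_zero).1 h2
    · refine ⟨?_, fun h => absurd h (by omega)⟩
      subst hd
      obtain rfl : S = o₁ := by omega
      have h0 : R * (T + 1) ^ 2 = R * (1 + S * (R + 1)) := by rw [ho]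
      have h1 : T * T ≤ T * (2 * R) := by nlinarith [Nat.mul_le_mul_left (R + 1) hcs]
      have h2 := Nat.le_of_mul_le_mul_left h1 (by omega)
      omega
  rcases le_sub_one_or_le hr hd2 hdvd with h | h
  · refine Or.inl ⟨h, ?_⟩
    obtain ⟨R, rfl⟩ : ∃ R, r = R + 2 := ⟨r - 2, by omega⟩
    simp only [show R + 2 - 1 = R + 1 from rfl] at *
    subst h
    have : o₁ = R := by nlinarith
    subst this
    interval_cases m
    · omega
    · omega
  · have hm1 : m = 1 := by
      by_contra hh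
      have := hup.2 (by omega)
      omega
    subst hm1
    have hcase : d = r + 1 ∨ d + 1 = 2 * r := by
      have h1 : r ∣ (d + 1) * (d - 1) := by rwa [← Nat.sq_sub_sq, one_pow]
      rcases hr.dvd_mul.1 h1 with ⟨t, ht⟩ | ⟨t, ht⟩
      · right
        have : t = 2 := by
          have := hup.1
          rcases Nat.lt_or_ge t 2 with h2 | h2
          · interval_cases t <;> omega
          · by_contra hh
            have : 3 ≤ t := by omega
            nlinarith
        subst this; linarith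
      · left
        have : t = 1 := by
          have := hup.1
          rcases Nat.lt_or_ge t 2 with h2 | h2
          · interval_cases t <;> omega
          · nlinarith [show d - 1 + 1 = d by omega]
        subst this; omega
    rcases hcase with h2 | h2
    · refine Or.inr (Or.inl ⟨rfl, h2, ?_⟩)
      subst h2
      have : o₁ = r + 2 := by nlinarith
      omega
    · refine Or.inr (Or.inr ⟨rfl, h2, ?_⟩)
      have : o₁ + 4 = 4 * r := by nlinarith
      omega

/-- The count that bounds the order of a commuting operator. -/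
theorem order_le_two {r d m T o o₁ : ℕ} (hr : r.Prime) (hd : T + m = d) (hd2 : 2 ≤ d) (ho : 2 ≤ o)
    (ho₁ : d ^ 2 = 1 + o₁ * r) (hm : m ≤ 1)
    (hL : o * (m ^ 2 + T) ≤ o + o₁) (hcase : d = r - 1 ∨ (m = 1 ∧ d = r + 1) ∨ (m = 1 ∧ d + 1 = 2 * r)) :
    o = 2 ∧ m = 1 := by
  have hr2 := hr.two_le
  rcases hcase with h | ⟨rfl, h⟩ | ⟨rfl, h⟩
  · exfalso
    obtain ⟨R, rfl⟩ : ∃ R, r = R + 2 := ⟨r - 2, by omega⟩
    simp only [show R + 2 - 1 = R + 1 from rfl] at *
    subst h
    have : o₁ = R := by nlinarith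
    subst this
    interval_cases m <;> simp_all <;> nlinarith
  · subst h
    have : o₁ = r + 2 := by nlinarith
    subst this
    have hT : T = r := by omega
    subst hT
    refine ⟨?_, rfl⟩
    by_contra hh
    have : 3 ≤ o := by omega
    nlinarith
  · have : o₁ + 4 = 4 * r := by nlinarith
    refine ⟨?_, rfl⟩
    by_contra hh
    have : 3 ≤ o := by omega
    nlinarith

end CfsgLib.FitTuran
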