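import Cfsg.Agent.Lib.BG.FixedLine.Eigen
import Cfsg.Agent.Lib.BG.FixedLine.Mono

/-!
Block decompositions of commutants and lower bounds for centralizers of one operator.
-/

set_option autoImplicit false
set_option linter.style.haveILetI false
set_option linter.unusedSectionVars false

namespace CfsgLib.FitTuran

open CfsgLib.BG.FixedLine

variable {K W : Type*} [Field K] [AddCommGroup W] [Module K W]

/-- The operators preserving every member of a family of subspaces. -/
def blk {ι : Type*} (U : ι → Submodule K W) : Submodule K (Module.End K W) where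
  carrier := {f | ∀ i, ∀ v ∈ U i, f v ∈ U i}
  add_mem' {a b} ha hb i v hv := (U i).add_mem (ha i v hv) (hb i v hv)
  zero_mem' i v _ := (U i).zero_mem
  smul_mem' t a ha i v hv := (U i).smul_mem t (ha i v hv)

/-- A decomposition with its projections. -/
structure Decomp {ι : Type*} [Fintype ι] (U : ι → Submodule K W) (e : ι → Module.End K W) : Prop where
  hmem : ∀ i v, e i v ∈ U i
  hsum : ∀ v, ∑ i, e i v = v
  hself : ∀ i, ∀ v ∈ U i, e i v = v
  hother : ∀ i k, i ≠ k → ∀ v ∈ U k, e i v = 0

variable [FiniteDimensional K W]

theorem Decomp.finrank_sum {ι : Type*} [Fintype ι] {U : ι → Submodule K W}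
    {e : ι → Module.End K W} (h : Decomp U e) :
    ∑ i, Module.finrank K (U i) = Module.finrank K W := by
  classical
  let equiv : W ≃ₗ[K] Π i, U i :=
    { toFun := fun v i => ⟨e i v, h.hmem i v⟩
      map_add' := fun a b => funext fun i => Subtype.ext (map_add _ a b)
      map_smul' := fun c a => funext fun i => Subtype.ext (map_smul _ c a)
      invFun := fun w => ∑ i, (w i : W)
      left_inv := h.hsum
      right_inv := fun w => funext fun i => Subtype.ext (by
        show e i (∑ k, (w k : W)) = w i
        rw [map_sum, Finset.sum_eq_single i]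
        · exact h.hself i _ (w i).2
        · exact fun k _ hk => h.hother i k (Ne.symm hk) _ (w k).2
        · exact fun hh => absurd (Finset.mem_univ _) hh) }
  rw [equiv.finrank_eq, Module.finrank_pi_fintype]

/-- The block operators commuting with a block operator. -/
theorem Decomp.finrank_blk {ι : Type*} [Fintype ι] {U : ι → Submodule K W}
    {e : ι → Module.End K W} (h : Decomp U e) (Y : Module.End K W)
    (hY : ∀ i, ∀ v ∈ U i, Y v ∈ U i) :
    Module.finrank K ↥(blk U ⊓ comm Y) = ∑ i, Module.finrank K (comm (Y.restrict (hY i))) := by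
  classical
  have hcY : ∀ i v, e i (Y v) = Y (e i v) := by
    intro i v
    conv_lhs => rw [← h.hsum v, map_sum, map_sum]
    rw [Finset.sum_eq_single i]
    · exact h.hself i _ (hY i _ (h.hmem i v))
    · exact fun k _ hk => h.hother i k (Ne.symm hk) _ (hY k _ (h.hmem k v))
    · exact fun hh => absurd (Finset.mem_univ _) hh
  have hblk : ∀ f : ↥(blk U ⊓ comm Y), (f : Module.End K W) ∈ blk U := fun f =>
    (Submodule.mem_inf.1 f.2).1
  let equiv : ↥(blk U ⊓ comm Y) ≃ₗ[K] Π i, comm (Y.restrict (hY i)) :=
    { toFun := fun f i => ⟨(f : Module.End K W).restrict (hblk f i), mem_comm.2 (LinearMap.ext fun v =>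
        Subtype.ext (LinearMap.congr_fun (mem_comm.1 (Submodule.mem_inf.1 f.2).2) (v : W)))⟩
      map_add' := fun a b => funext fun i => Subtype.ext (LinearMap.ext fun v => Subtype.ext rfl)
      map_smul' := fun c a => funext fun i => Subtype.ext (LinearMap.ext fun v => Subtype.ext rfl)
      invFun := fun g => ⟨∑ i, (U i).subtype ∘ₗ (g i : Module.End K (U i)) ∘ₗ
          LinearMap.codRestrict (U i) (e i) (h.hmem i), by
        refine Submodule.mem_inf.2 ⟨fun k v hv => ?_, mem_comm.2 (LinearMap.ext fun v => ?_)⟩
        · rw [LinearMap.sum_apply]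
          refine (U k).sum_mem fun i _ => ?_
          simp only [LinearMap.comp_apply, Submodule.subtype_apply]
          by_cases hik : i = k
          · subst hik; exact Subtype.prop _
          · rw [show LinearMap.codRestrict (U i) (e i) (h.hmem i) v = 0 from
              Subtype.ext (h.hother i k hik v hv), map_zero, Submodule.coe_zero]
            exact (U k).zero_mem
        · simp only [Module.End.mul_apply, LinearMap.sum_apply, map_sum, LinearMap.comp_apply,
            Submodule.subtype_apply]
          refine Finset.sum_congr rfl fun i _ => ?_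
          have h1 := congrArg Subtype.val (LinearMap.congr_fun (mem_comm.1 (g i).2)
            (LinearMap.codRestrict (U i) (e i) (h.hmem i) v))
          simp only [Module.End.mul_apply, LinearMap.coe_restrict_apply] at h1
          rw [h1]
          congr 2
          exact Subtype.ext (hcY i v).symm⟩
      left_inv := fun f => Subtype.ext (LinearMap.ext fun v => by
        simp only [LinearMap.sum_apply, LinearMap.comp_apply, Submodule.subtype_apply,
          LinearMap.coe_restrict_apply, LinearMap.codRestrict_apply]
        rw [← map_sum, h.hsum])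
      right_inv := fun g => funext fun i => Subtype.ext (LinearMap.ext fun v => Subtype.ext (by
        simp only [LinearMap.coe_restrict_apply, LinearMap.sum_apply, LinearMap.comp_apply,
          Submodule.subtype_apply]
        rw [Finset.sum_eq_single i]
        · rw [show LinearMap.codRestrict (U i) (e i) (h.hmem i) (v : W) = v from
            Subtype.ext (h.hself i _ v.2)]
        · intro k _ hk
          rw [show LinearMap.codRestrict (U k) (e k) (h.hmem k) (v : W) = 0 from
            Subtype.ext (h.hother k i hk _ v.2), map_zero, Submodule.coe_zero]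
        · exact fun hh => absurd (Finset.mem_univ _) hh)) }
  rw [equiv.finrank_eq, Module.finrank_pi_fintype]

omit [FiniteDimensional K W] in
theorem comm_one : comm (1 : Module.End K W) = ⊤ :=
  eq_top_iff.2 fun f _ => mem_comm.2 (by rw [one_mul, mul_one])

omit [FiniteDimensional K W] in
theorem finrank_comm_one : Module.finrank K (comm (1 : Module.End K W)) = Module.finrank K (Module.End K W) := by
  rw [comm_one, finrank_top]

/-- Iterated kernels. -/
theorem finrank_ker_pow_le {V : Type*} [AddCommGroup V] [Module K V] [FiniteDimensional K V]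
    (L : Module.End K V) : ∀ n : ℕ,
    Module.finrank K (LinearMap.ker (L ^ n)) ≤ n * Module.finrank K (LinearMap.ker L) := by
  intro n
  induction n with
  | zero => simp [Module.End.one_eq_id]
  | succ n ih =>
    let g : LinearMap.ker (L ^ (n + 1)) →ₗ[K] LinearMap.ker (L ^ n) :=
      LinearMap.codRestrict _ (L ∘ₗ Submodule.subtype _) fun v => by
        rw [LinearMap.mem_ker]
        show (L ^ n) (L v) = 0
        rw [← Module.End.mul_apply, ← pow_succ]
        exact v.2
    have h1 := LinearMap.finrank_range_add_finrank_ker g
    have h2 : Module.finrank K (LinearMap.range g) ≤ Module.finrank K (LinearMap.ker (L ^ n)) :=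
      Submodule.finrank_le _
    have h3 : Module.finrank K (LinearMap.ker g) ≤ Module.finrank K (LinearMap.ker L) := by
      let i : LinearMap.ker g →ₗ[K] LinearMap.ker L :=
        LinearMap.codRestrict _ ((Submodule.subtype _) ∘ₗ (Submodule.subtype _)) fun v => by
          rw [LinearMap.mem_ker]
          exact congrArg Subtype.val (v.2 : g v.1 = 0)
      refine LinearMap.finrank_le_finrank_of_injective (f := i) fun a b e => ?_
      apply Subtype.ext
      apply Subtype.ext
      exact congrArg (fun z : LinearMap.ker L => (z : V)) e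
    nlinarith

/-- An operator of prime order has a large centralizer. -/
theorem sq_le_mul_finrank_comm [IsAlgClosed K] (T : Module.End K W) {o : ℕ} (ho : o.Prime)
    (hT : T ^ o = 1) : Module.finrank K W ^ 2 ≤ o * Module.finrank K (comm T) := by
  haveI : NeZero o := ⟨ho.ne_zero⟩
  by_cases h0 : (o : K) = 0
  · rcases subsingleton_or_nontrivial W with hW | hW
    · rw [Module.finrank_zero_of_subsingleton]; simp
    haveI : Fact o.Prime := ⟨ho⟩
    haveI : CharP K o := (CharP.charP_iff_prime_eq_zero ho).2 h0
    haveI : CharP (Module.End K (Module.End K W)) o :=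
      charP_of_injective_algebraMap (algebraMap K (Module.End K (Module.End K W))).injective o
    set L : Module.End K (Module.End K W) := LinearMap.mulLeft K T - LinearMap.mulRight K T with hL
    have hpow : L ^ o = 0 := by
      rw [hL, sub_pow_char_of_commute, LinearMap.pow_mulLeft, LinearMap.pow_mulRight, hT]
      · ext f : 1; simp
      · exact LinearMap.commute_mulLeft_right T T
    have h1 := finrank_ker_pow_le L o
    rw [hpow, LinearMap.ker_zero, finrank_top, Module.finrank_linearMap, ← sq] at h1
    have hk : LinearMap.ker L = comm T := by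
      ext f
      rw [LinearMap.mem_ker, mem_comm, hL, LinearMap.sub_apply, sub_eq_zero]
      rfl
    rwa [hk] at h1
  · haveI : NeZero (o : K) := ⟨h0⟩
    obtain ⟨ω, hω⟩ := HasEnoughRootsOfUnity.exists_primitiveRoot K o
    obtain ⟨hN, hM⟩ := exists_eigen_dims T hT h0 hω
    rw [← hN]
    refine le_trans sq_sum_le_card_mul_sum_sq ?_
    rw [Finset.card_univ, Fintype.card_fin]
    exact Nat.mul_le_mul le_rfl hM

/-- The centralizer of an operator on a plane is at least two-dimensional. -/
theorem le_finrank_comm (T : Module.End K W) (h2 : Module.finrank K W ≤ 2) :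
    Module.finrank K W ≤ Module.finrank K (comm T) := by
  rcases Nat.eq_zero_or_pos (Module.finrank K W) with h0 | hpos
  · rw [h0]; exact Nat.zero_le _
  haveI : Nontrivial W := Module.finrank_pos_iff.1 hpos
  by_cases hsc : ∃ c : K, T = c • 1
  · obtain ⟨c, rfl⟩ := hsc
    rw [show comm (c • (1 : Module.End K W)) = ⊤ from eq_top_iff.2 fun f _ => mem_comm.2 (by
      rw [smul_mul_assoc, mul_smul_comm, one_mul, mul_one]), finrank_top, Module.finrank_linearMap]
    nlinarith
  · have hli : LinearIndependent K ![(⟨1, mem_comm.2 (by rw [mul_one, one_mul])⟩ : comm T),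
        ⟨T, mem_comm.2 rfl⟩] := by
      rw [LinearIndependent.pair_iff]
      intro a b hab
      have h1 : a • (1 : Module.End K W) + b • T = 0 := congrArg Subtype.val hab
      by_cases hb : b = 0
      · subst hb
        rw [zero_smul, add_zero, smul_eq_zero] at h1
        exact ⟨h1.resolve_right one_ne_zero, rfl⟩
      · exact absurd ⟨-(b⁻¹ * a), by
          rw [add_eq_zero_iff_neg_eq] at h1
          rw [neg_smul, mul_smul, ← smul_neg, h1, inv_smul_smul₀ hb]⟩ hsc
    have := hli.fintype_card_le_finrank
    rw [Fintype.card_fin] at this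
    exact h2.trans this

section Cyclic

variable {Y : Type*} [Group Y] [Finite Y] (ρ : Y →* Module.End K W) [IsAlgClosed K]

/-- The eigenspace decomposition of an element of order prime to the characteristic. -/
theorem exists_decomp (s : Y) (hs : (orderOf s : K) ≠ 0) :
    ∃ hf : Fintype (Chi K (Subgroup.zpowers s)), ∃ e,
      @Decomp K W _ _ _ _ hf (fun μ => comp ρ (Subgroup.zpowers s) μ) e ∧
      blk (fun μ : Chi K (Subgroup.zpowers s) => comp ρ (Subgroup.zpowers s) μ) = comm (ρ s) ∧
      comp ρ (Subgroup.zpowers s) (1 : Chi K (Subgroup.zpowers s)) = fix ρ s ∧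
      @Fintype.card _ hf = orderOf s := by
  set A := Subgroup.zpowers s with hA
  have hcomm : ∀ a ∈ A, ∀ b ∈ A, a * b = b * a := by
    intro a ha b hb
    obtain ⟨i, rfl⟩ := Subgroup.mem_zpowers_iff.1 ha
    obtain ⟨j, rfl⟩ := Subgroup.mem_zpowers_iff.1 hb
    exact (Commute.zpow_zpow_self s i j).eq
  have hA0 : (Nat.card A : K) ≠ 0 := by rw [hA, Nat.card_zpowers]; exact hs
  obtain ⟨hf, hsum⟩ := sum_proj ρ A hcomm hA0
  letI := hf
  refine ⟨hf, fun μ => (Nat.card A : K)⁻¹ • proj ρ A μ, ⟨fun μ v => ?_, fun v => ?_, fun μ v hv => ?_,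
    fun μ ν hne v hv => ?_⟩, ?_, ?_, ?_⟩
  · exact Submodule.smul_mem _ _ (proj_mem ρ A μ v)
  · simp only [LinearMap.smul_apply, ← Finset.smul_sum]
    rw [hsum, inv_smul_smul₀ hA0]
  · rw [LinearMap.smul_apply, proj_self ρ A hv, inv_smul_smul₀ hA0]
  · rw [LinearMap.smul_apply, proj_other ρ A hne hv, smul_zero]
  · ext f
    constructor
    · intro hf'
      refine mem_comm.2 (eq_of_eq_on_comp ρ A hcomm hA0 fun μ v hv => ?_)
      rw [Module.End.mul_apply, Module.End.mul_apply, hv ⟨s, Subgroup.mem_zpowers s⟩, map_smul]
      exact hf' μ v hv ⟨s, Subgroup.mem_zpowers s⟩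
    · intro hf' μ v hv a
      obtain ⟨i, hi⟩ := Subgroup.mem_zpowers_iff.1 a.2
      obtain ⟨j, hj⟩ := (isOfFinOrder_of_finite s).mem_powers_iff_mem_zpowers.2 a.2
      have hc : Commute (ρ (a : Y)) f := by
        rw [← show s ^ j = (a : Y) from hj, map_pow]
        exact (show Commute (ρ s) f from mem_comm.1 hf').pow_left j
      rw [← Module.End.mul_apply, hc.eq, Module.End.mul_apply, hv a, map_smul]
  · ext v
    rw [mem_comp, mem_fix]
    constructor
    · intro hv
      simpa using hv ⟨s, Subgroup.mem_zpowers s⟩
    · intro hv a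
      obtain ⟨j, hj⟩ := (isOfFinOrder_of_finite s).mem_powers_iff_mem_zpowers.2 a.2
      have hj' : s ^ j = (a : Y) := hj
      rw [← hj', MonoidHom.one_apply, Units.val_one, one_smul]
      clear hj hj'
      induction j with
      | zero => simp
      | succ j ih => rw [pow_succ, rho_mul, hv, ih]
  · letI : CommGroup A := { (inferInstance : Group A) with mul_comm := fun a b => Subtype.ext (hcomm a a.2 b b.2) }
    haveI := Fintype.ofFinite A
    haveI : NeZero ((Monoid.exponent A : ℕ) : K) := ⟨fun h0 => by
      obtain ⟨k, hk⟩ := (Group.exponent_dvd_nat_card (G := A))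
      exact hA0 (by rw [hk, Nat.cast_mul, h0, zero_mul])⟩
    rw [← Nat.card_eq_fintype_card]
    exact (CommGroup.card_monoidHom_of_hasEnoughRootsOfUnity A K).trans (by rw [hA, Nat.card_zpowers])

end Cyclic

end CfsgLib.FitTuran
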