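import Cfsg.Agent.Lib.FitTuran.Stable
import Cfsg.Agent.Lib.FitTuran.Arith

/-!
Eigenvalue bounds for operators on a stable component.
-/

set_option autoImplicit false
set_option linter.style.haveILetI false
set_option linter.unusedSectionVars false

open scoped commutatorElement

namespace CfsgLib.FitTuran

open CfsgLib.BG.FixedLine CfsgLib.HallHigman

variable {K W Y : Type*} [Field K] [IsAlgClosed K] [AddCommGroup W] [Module K W]
  [FiniteDimensional K W] [Nontrivial W] [Group Y] [Finite Y]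
  {ρ : Y →* Module.End K W}

/-- An element fixed by two coprime powers of a permutation is fixed by it. -/
theorem apply_eq_of_coprime_pow {ι : Type*} (π : Equiv.Perm ι) {a b : ℕ} (hab : a.Coprime b) {i : ι}
    (ha : (π ^ a) i = i) (hb : (π ^ b) i = i) : π i = i := by
  have e := Nat.gcd_eq_gcd_ab a b
  rw [hab.gcd_eq_one, Nat.cast_one] at e
  conv_lhs => rw [← zpow_one π, e, zpow_add, zpow_mul, zpow_mul, zpow_natCast, zpow_natCast,
    Equiv.Perm.mul_apply, Equiv.Perm.zpow_apply_eq_self_of_apply_eq_self hb,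
    Equiv.Perm.zpow_apply_eq_self_of_apply_eq_self ha]

namespace Stable

variable {Q Z : Subgroup Y} {lam : Y → K} (h : Stable ρ Q Z lam)

include h

omit [IsAlgClosed K] [FiniteDimensional K W] [Nontrivial W] in
theorem conj_mem_Z {v z : Y} (hv : v ∈ Q) (hz : z ∈ Z) : v * z * v⁻¹ ∈ Z := by
  have := Z.mul_mem (h.hcomm v hv z (h.hZQ hz)) hz
  simpa [commutatorElement_def, mul_assoc] using this

/-- The elements of `Q` fixed modulo `Z`. -/
def fixMod {g : Y} (_hg : Normalizes Q Z g) : Subgroup Y where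
  carrier := {u | u ∈ Q ∧ u⁻¹ * (g * u * g⁻¹) ∈ Z}
  one_mem' := ⟨Q.one_mem, by simpa using Z.one_mem⟩
  mul_mem' := fun {u v} hu hv => ⟨Q.mul_mem hu.1 hv.1, by
    have := Z.mul_mem (h.conj_mem_Z (Q.inv_mem hv.1) hu.2) hv.2
    convert this using 1
    group⟩
  inv_mem' := fun {u} hu => ⟨Q.inv_mem hu.1, by
    have := h.conj_mem_Z hu.1 (Z.inv_mem hu.2)
    convert this using 1
    group⟩

omit [IsAlgClosed K] [FiniteDimensional K W] [Nontrivial W] in
theorem mem_fixMod {g : Y} (hg : Normalizes Q Z g) {u : Y} :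
    u ∈ h.fixMod hg ↔ u ∈ Q ∧ u⁻¹ * (g * u * g⁻¹) ∈ Z := Iff.rfl

omit [IsAlgClosed K] [FiniteDimensional K W] [Nontrivial W] in
theorem le_fixMod {g : Y} (hg : Normalizes Q Z g) : Z ≤ h.fixMod hg := fun z hz =>
  ⟨h.hZQ hz, Z.mul_mem (Z.inv_mem hz) ((Subgroup.mem_normalizer_iff.1 hg.2 z).1 hz)⟩

omit [IsAlgClosed K] [FiniteDimensional K W] [Nontrivial W] in
theorem fixMod_invariant {g : Y} (hg : Normalizes Q Z g) {k : Y} (hk : Normalizes Q Z k)
    (hcom : g * k = k * g) : ∀ u ∈ h.fixMod hg, k * u * k⁻¹ ∈ h.fixMod hg := by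
  rintro u ⟨hu, hu'⟩
  refine ⟨(Subgroup.mem_normalizer_iff.1 hk.1 u).1 hu, ?_⟩
  convert (Subgroup.mem_normalizer_iff.1 hk.2 _).1 hu' using 1
  calc (k * u * k⁻¹)⁻¹ * (g * (k * u * k⁻¹) * g⁻¹) = k * u⁻¹ * k⁻¹ * ((g * k) * u * (g * k)⁻¹) := by group
    _ = k * u⁻¹ * k⁻¹ * ((k * g) * u * (k * g)⁻¹) := by rw [hcom]
    _ = _ := by group

omit [IsAlgClosed K] [FiniteDimensional K W] [Nontrivial W] in
theorem fix_of_coprime {g : Y} (hg : Normalizes Q Z g) {a b : ℕ} (hab : a.Coprime b) {u : Y}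
    (hu : u ∈ Q) (ha : u⁻¹ * (g ^ a * u * (g ^ a)⁻¹) ∈ Z) (hb : u⁻¹ * (g ^ b * u * (g ^ b)⁻¹) ∈ Z) :
    u ∈ h.fixMod hg := by
  have h1 := apply_eq_of_coprime_pow _ hab ((classPerm_pow_eq_iff h.hnormal hg a ⟨u, hu⟩).2 ha)
    ((classPerm_pow_eq_iff h.hnormal hg b ⟨u, hu⟩).2 hb)
  refine ⟨hu, ?_⟩
  have h2 := (classPerm_pow_eq_iff h.hnormal hg 1 ⟨u, hu⟩).1 (by rw [pow_one]; exact h1)
  rwa [pow_one] at h2

omit [FiniteDimensional K W] [Nontrivial W] in
theorem cast_orderOf_ne_zero {s : Y} {r : ℕ} (hr0 : (r : K) ≠ 0) (hsr : s ^ r = 1) :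
    (orderOf s : K) ≠ 0 := by
  obtain ⟨t, ht⟩ := orderOf_dvd_of_pow_eq_one hsr
  intro e
  exact hr0 (by rw [ht, Nat.cast_mul, e, zero_mul])

omit [Nontrivial W] in
/-- The eigenspace dimensions of an element of prime order. -/
theorem exists_eigen {s : Y} {r : ℕ} (hr : r.Prime) (hr0 : (r : K) ≠ 0) (hsr : s ^ r = 1) :
    ∃ T S : ℕ, T + Module.finrank K (fix ρ s) = Module.finrank K W ∧ T ^ 2 ≤ (r - 1) * S ∧
      Module.finrank K (comm (ρ s)) = Module.finrank K (fix ρ s) ^ 2 + S := by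
  classical
  obtain ⟨hf, e, hdec, hblk, hfix, hcard⟩ := exists_decomp ρ s (h.cast_orderOf_ne_zero hr0 hsr)
  letI := hf
  set U := fun μ : Chi K (Subgroup.zpowers s) => comp ρ (Subgroup.zpowers s) μ
  refine ⟨∑ μ ∈ Finset.univ.erase 1, Module.finrank K (U μ),
    ∑ μ ∈ Finset.univ.erase 1, Module.finrank K (U μ) ^ 2, ?_, ?_, ?_⟩
  · rw [← hfix, Finset.sum_erase_add _ _ (Finset.mem_univ _), hdec.finrank_sum]
  · refine sq_sum_le_card_mul_sum_sq.trans (Nat.mul_le_mul ?_ le_rfl)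
    rw [Finset.card_erase_of_mem (Finset.mem_univ _), Finset.card_univ, hcard]
    exact Nat.sub_le_sub_right (Nat.le_of_dvd hr.pos (orderOf_dvd_of_pow_eq_one hsr)) 1
  · have h1 := hdec.finrank_blk (1 : Module.End K W) (fun i v hv => hv)
    rw [comm_one, inf_top_eq, hblk] at h1
    rw [h1, ← hfix, add_comm, ← Finset.add_sum_erase _ _ (Finset.mem_univ (1 : Chi K (Subgroup.zpowers s))),
      add_comm]
    congr 1
    · refine Finset.sum_congr rfl fun i _ => ?_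
      rw [show (1 : Module.End K W).restrict (fun v (hv : v ∈ U i) => hv) = 1 from
        LinearMap.ext fun v => rfl, finrank_comm_one, Module.finrank_linearMap, sq]
    · rw [show (1 : Module.End K W).restrict (fun v (hv : v ∈ U 1) => hv) = 1 from
        LinearMap.ext fun v => rfl, finrank_comm_one, Module.finrank_linearMap, sq]

/-- An operator without fixed vectors moves few classes. -/
theorem relIndex_le_of_no_fixed (hirr : IsIrr (ρ.comp Q.subtype)) {s : Y} (hs : Normalizes Q Z s)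
    {r : ℕ} (hr : r.Prime) (hr0 : (r : K) ≠ 0) (hsr : s ^ r = 1) (hfix : fix ρ s = ⊥) :
    (h.fixMod hs).relIndex Q ≤ (r - 1) ^ 2 := by
  obtain ⟨T, S, hT, hcs, hcomm⟩ := h.exists_eigen hr hr0 hsr
  rw [hfix, finrank_bot, add_zero] at hT
  rw [hfix, finrank_bot, zero_pow two_ne_zero, zero_add] at hcomm
  have hFQ : h.fixMod hs ≤ Q := fun u hu => hu.1
  obtain ⟨x, y, hx, hy, hle⟩ := h.mul_finrank_comm_le hirr hs (h.le_fixMod hs) hFQ
    (h.fixMod_invariant hs hs rfl) (a := 1) (b := r) one_pos hr.pos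
    (fun u hu => by rw [pow_one]; exact hu.2)
    (fun u hu => by rw [hsr]; simp)
    (fun u _ _ j hj hj1 => by omega)
    (fun u hu huF j hj hjr e => huF (h.fix_of_coprime hs (a := j) (b := r) ((hr.coprime_iff_not_dvd.2
      fun hd => absurd (Nat.le_of_dvd hj hd) (by omega)).symm) hu e (by rw [hsr]; simp)))
  rw [hcomm, one_mul] at *
  have hmul := Subgroup.relIndex_mul_relIndex Z (h.fixMod hs) Q (h.le_fixMod hs) hFQ
  have hn := h.sq_finrank hirr
  refine null_bound (n := Z.relIndex Q) (f := Z.relIndex (h.fixMod hs)) (S := S) hr.two_le hmul.symm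
    ?_ ?_ ?_
  · omega
  · rw [← hn, ← hT]; exact hcs
  · obtain ⟨R, rfl⟩ : ∃ R, r = R + 1 := ⟨r - 1, by have := hr.one_le; omega⟩
    simp only [Nat.add_sub_cancel]
    rw [← hx] at hy ⊢
    rw [← hy]
    nlinarith

/-- The exact count for a fixed-point-free element. -/
theorem exists_fpf_data (hirr : IsIrr (ρ.comp Q.subtype)) {s : Y} (hs : Normalizes Q Z s)
    {r : ℕ} (hr : r.Prime) (hr0 : (r : K) ≠ 0) (hsr : s ^ r = 1)
    (hfpf : ∀ u ∈ Q, u⁻¹ * (s * u * s⁻¹) ∈ Z → u ∈ Z) :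
    ∃ o T S : ℕ, Module.finrank K W ^ 2 = 1 + o * r ∧ T + Module.finrank K (fix ρ s) = Module.finrank K W ∧
      T ^ 2 ≤ (r - 1) * S ∧ Module.finrank K (fix ρ s) ^ 2 + S = 1 + o := by
  obtain ⟨T, S, hT, hcs, hcomm⟩ := h.exists_eigen hr hr0 hsr
  obtain ⟨o, hd, ho⟩ := h.finrank_comm_fpf hirr hs hr (by rw [← map_pow, hsr, map_one])
    (fun u hu => by rw [hsr]; simp) hfpf
  exact ⟨o, T, S, hd, hT, hcs, by omega⟩

/-- The rank of a fixed-point-free element. -/
theorem rank_sub_one (hirr : IsIrr (ρ.comp Q.subtype)) {s : Y} (hs : Normalizes Q Z s)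
    {r : ℕ} (hr : r.Prime) (hr0 : (r : K) ≠ 0) (hsr : s ^ r = 1)
    (hfpf : ∀ u ∈ Q, u⁻¹ * (s * u * s⁻¹) ∈ Z → u ∈ Z) (hne : ¬ Q ≤ Z) :
    r - 2 ≤ Module.finrank K (LinearMap.range (ρ s - 1)) ∧
      (Odd (Module.finrank K W) → r - 1 ≤ Module.finrank K (LinearMap.range (ρ s - 1))) := by
  obtain ⟨o, T, S, hd, hT, hcs, hS⟩ := h.exists_fpf_data hirr hs hr hr0 hsr hfpf
  have hrk := LinearMap.finrank_range_add_finrank_ker (ρ s - 1)
  have hker : LinearMap.ker (ρ s - 1) = fix ρ s := by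
    ext v
    rw [LinearMap.mem_ker, mem_fix, LinearMap.sub_apply, Module.End.one_apply, sub_eq_zero]
  rw [hker] at hrk
  have hT' : Module.finrank K (LinearMap.range (ρ s - 1)) = T := by omega
  rw [hT']
  refine rank_lower hr hT ?_ ⟨o, by rw [hd, Nat.add_sub_cancel_left, mul_comm]⟩ hcs ?_
  · have hpos : 0 < Module.finrank K W := Module.finrank_pos
    by_contra hlt
    have h1 : Module.finrank K W = 1 := by omega
    have := h.sq_finrank hirr
    rw [h1, one_pow] at this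
    exact hne (Subgroup.relIndex_eq_one.1 this.symm)
  · rw [hS, hd, mul_add, mul_one, mul_comm r o]
    have := hr.one_le
    omega

omit [FiniteDimensional K W] [IsAlgClosed K] in
/-- An element trivial on the classes and commuting with a fixed-point-free one commutes with `Q`. -/
theorem commute_of_trivial {s : Y} (hs : Normalizes Q Z s) (hsz : ∀ z ∈ Z, ρ s * ρ z = ρ z * ρ s)
    (hfpf : ∀ u ∈ Q, u⁻¹ * (s * u * s⁻¹) ∈ Z → u ∈ Z)
    {g : Y} (hgs : g * s = s * g) (hgz : ∀ z ∈ Z, ρ g * ρ z = ρ z * ρ g)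
    (hg : ∀ u ∈ Q, u⁻¹ * (g * u * g⁻¹) ∈ Z) : ∀ u ∈ Q, ρ g * ρ u = ρ u * ρ g := by
  classical
  let χ : Y → K := fun u => lam (u⁻¹ * (g * u * g⁻¹))
  have hχ : ∀ u ∈ Q, ρ (g * u * g⁻¹) = χ u • ρ u := by
    intro u hu
    conv_lhs => rw [show g * u * g⁻¹ = u * (u⁻¹ * (g * u * g⁻¹)) by group, map_mul,
      h.hlam _ (hg u hu), mul_smul_comm, mul_one]
  have hinj : ∀ {u : Y} {a b : K}, a • ρ u = b • ρ u → a = b := fun {u a b} e => by
    have := congrArg (fun f => f * ρ u⁻¹) e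
    simp only [smul_mul_assoc, ← map_mul, mul_inv_cancel, map_one] at this
    exact smul_left_injective K one_ne_zero this
  have hmul : ∀ u ∈ Q, ∀ v ∈ Q, χ (u * v) = χ u * χ v := by
    intro u hu v hv
    refine hinj (u := u * v) ?_
    rw [← hχ _ (Q.mul_mem hu hv), map_mul ρ u v, ← smul_mul_smul_comm, ← hχ u hu, ← hχ v hv, ← map_mul]
    congr 1
    group
  have hz : ∀ z ∈ Z, χ z = 1 := by
    intro z hz
    refine hinj (u := z) ?_
    rw [one_smul, ← hχ z (h.hZQ hz), map_mul, map_mul, hgz z hz, mul_assoc, ← map_mul, mul_inv_cancel,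
      map_one, mul_one]
  have hs' : ∀ u ∈ Q, χ (s * u * s⁻¹) = χ u := by
    intro u hu
    refine hinj (u := s * u * s⁻¹) ?_
    rw [← hχ _ ((Subgroup.mem_normalizer_iff.1 hs.1 u).1 hu)]
    have e : g * (s * u * s⁻¹) * g⁻¹ = s * (g * u * g⁻¹) * s⁻¹ := by
      calc g * (s * u * s⁻¹) * g⁻¹ = (g * s) * u * (g * s)⁻¹ := by group
        _ = (s * g) * u * (s * g)⁻¹ := by rw [hgs]
        _ = _ := by group
    rw [e, map_mul, map_mul, hχ u hu, map_mul, map_mul, mul_smul_comm, smul_mul_assoc]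
  -- every class is a value of `u ↦ u⁻¹ s u s⁻¹`
  haveI : Fintype (Q ⧸ Z.subgroupOf Q) := Fintype.ofFinite _
  let D : (Q ⧸ Z.subgroupOf Q) → (Q ⧸ Z.subgroupOf Q) := fun i =>
    ((i.out⁻¹ * autQ hs i.out : Q) : Q ⧸ Z.subgroupOf Q)
  have hD : Function.Injective D := by
    intro i j e
    rw [← QuotientGroup.out_eq' i, ← QuotientGroup.out_eq' j, QuotientGroup.eq]
    refine Subgroup.mem_subgroupOf.2 (hfpf _ (i.out⁻¹ * j.out).2 ?_)
    haveI := h.hnormal
    have hc : ∀ x y : Q ⧸ Z.subgroupOf Q, x * y = y * x := by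
      intro x y
      induction x using QuotientGroup.induction_on with | _ x => ?_
      induction y using QuotientGroup.induction_on with | _ y => ?_
      rw [← QuotientGroup.mk_mul, ← QuotientGroup.mk_mul, QuotientGroup.eq, Subgroup.mem_subgroupOf]
      have := h.hcomm ((y : Y)⁻¹) (Q.inv_mem y.2) ((x : Y)⁻¹) (Q.inv_mem x.2)
      simpa [commutatorElement_def, mul_assoc] using this
    letI : CommGroup (Q ⧸ Z.subgroupOf Q) := { (inferInstance : Group (Q ⧸ Z.subgroupOf Q)) with mul_comm := hc }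
    have hz' : (((i.out⁻¹ * j.out)⁻¹ * autQ hs (i.out⁻¹ * j.out) : Q) : Q ⧸ Z.subgroupOf Q) = 1 := by
      have e' : ((i.out⁻¹ * autQ hs i.out : Q) : Q ⧸ Z.subgroupOf Q) =
          ((j.out⁻¹ * autQ hs j.out : Q) : Q ⧸ Z.subgroupOf Q) := e
      simp only [QuotientGroup.mk_mul, QuotientGroup.mk_inv, map_mul, map_inv, mul_inv_rev, inv_inv] at e' ⊢
      rw [← inv_mul_cancel ((i.out : Q ⧸ Z.subgroupOf Q)⁻¹ * (autQ hs i.out : Q))]
      conv_rhs => arg 2; rw [e']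
      rw [mul_inv_rev, inv_inv]
      have hlc : ∀ a b c : Q ⧸ Z.subgroupOf Q, a * (b * c) = b * (a * c) := fun a b c => by
        rw [← mul_assoc, hc a b, mul_assoc]
      simp only [mul_assoc]
      exact (hlc _ _ _).trans ((congrArg _ (hlc _ _ _)).trans (hlc _ _ _))
    have h1 := Subgroup.mem_subgroupOf.1 ((QuotientGroup.eq_one_iff _).1 hz')
    simp only [Subgroup.coe_mul, Subgroup.coe_inv, coe_autQ] at h1 ⊢
    exact h1
  intro u hu
  suffices χ u = 1 by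
    have h1 := hχ u hu
    rw [this, one_smul, map_mul, map_mul] at h1
    calc ρ g * ρ u = ρ g * ρ u * (ρ g⁻¹ * ρ g) := by rw [← map_mul ρ g⁻¹, inv_mul_cancel, map_one, mul_one]
      _ = _ := by rw [← mul_assoc, h1]
  obtain ⟨i, hi⟩ := (Finite.injective_iff_bijective.1 hD).2 ((⟨u, hu⟩ : Q) : Q ⧸ Z.subgroupOf Q)
  have e := QuotientGroup.eq.1 hi
  rw [Subgroup.mem_subgroupOf] at e
  simp only [Subgroup.coe_mul, Subgroup.coe_inv, coe_autQ] at e
  set a := ((i.out : Q) : Y) with ha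
  have haQ : a ∈ Q := i.out.2
  have hsaQ : s * a * s⁻¹ ∈ Q := (Subgroup.mem_normalizer_iff.1 hs.1 a).1 haQ
  have h1 : χ (a⁻¹ * (s * a * s⁻¹)) = 1 := by
    rw [hmul _ (Q.inv_mem haQ) _ hsaQ, hs' a haQ, ← hmul _ (Q.inv_mem haQ) _ haQ, inv_mul_cancel]
    exact hz 1 Z.one_mem
  calc χ u = χ ((a⁻¹ * (s * a * s⁻¹)) * ((a⁻¹ * (s * a * s⁻¹))⁻¹ * u)) := by rw [mul_inv_cancel_left]
    _ = 1 := by rw [hmul _ (Q.mul_mem (Q.inv_mem haQ) hsaQ) _ (h.hZQ e), h1, hz _ e, one_mul]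

end Stable

end CfsgLib.FitTuran
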