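import Cfsg.Agent.Lib.HallHigman.Schur

/-!
A group of class two acting irreducibly with scalar radical: the endomorphism basis, uniqueness of
the module, and irreducibility under cyclic extensions.
-/

set_option autoImplicit false
set_option linter.style.haveILetI false
set_option linter.unusedSectionVars false

open scoped commutatorElement

namespace CfsgLib.FitTuran

open CfsgLib.HallHigman

variable {K W Q : Type*} [Field K] [AddCommGroup W] [Module K W] [Group Q]

/-- Class two with scalar radical `Z`. -/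
structure Heis (ρ : Q →* Module.End K W) (Z : Subgroup Q) (lam : Q → K) : Prop where
  hcomm : ∀ u v : Q, ⁅u, v⁆ ∈ Z
  hlam : ∀ z ∈ Z, ρ z = lam z • (1 : Module.End K W)
  hrad : ∀ u : Q, (∀ v, ρ u * ρ v = ρ v * ρ u) → u ∈ Z

theorem rho_mul_inv (ρ : Q →* Module.End K W) (g : Q) : ρ g * ρ g⁻¹ = 1 := by
  rw [← map_mul, mul_inv_cancel, map_one]

theorem rho_inv_mul (ρ : Q →* Module.End K W) (g : Q) : ρ g⁻¹ * ρ g = 1 := by
  rw [← map_mul, inv_mul_cancel, map_one]

namespace Heis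

variable {ρ : Q →* Module.End K W} {Z : Subgroup Q} {lam : Q → K} (h : Heis ρ Z lam)

include h

theorem normal : Z.Normal := ⟨fun z hz g => by
  have := Z.mul_mem (h.hcomm g z) hz
  simpa [commutatorElement_def, mul_assoc] using this⟩

theorem conj_rho (u v : Q) : ρ u * ρ v * ρ u⁻¹ = lam ⁅u, v⁆ • ρ v := by
  rw [← map_mul, ← map_mul, show u * v * u⁻¹ = ⁅u, v⁆ * v by rw [commutatorElement_def]; group,
    map_mul, h.hlam _ (h.hcomm u v), smul_mul_assoc, one_mul]

theorem smul_inj [Nontrivial W] {a b : K} {g : Q} (e : a • ρ g = b • ρ g) : a = b := by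
  have := congrArg (fun f => f * ρ g⁻¹) e
  simp only [smul_mul_assoc, rho_mul_inv] at this
  exact smul_left_injective K one_ne_zero this

theorem lam_mul_left [Nontrivial W] (u u' v : Q) : lam ⁅u * u', v⁆ = lam ⁅u, v⁆ * lam ⁅u', v⁆ := by
  refine h.smul_inj (g := v) ?_
  rw [← h.conj_rho, mul_comm, mul_smul, ← h.conj_rho u v, mul_inv_rev, map_mul, map_mul,
    show ρ u * ρ u' * ρ v * (ρ u'⁻¹ * ρ u⁻¹) = ρ u * (ρ u' * ρ v * ρ u'⁻¹) * ρ u⁻¹ by
      simp only [mul_assoc], h.conj_rho, mul_smul_comm, smul_mul_assoc]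

theorem lam_one [Nontrivial W] : lam 1 = 1 := by
  have := h.hlam 1 Z.one_mem
  rw [map_one] at this
  exact smul_left_injective K (one_ne_zero (α := Module.End K W)) (this.symm.trans (one_smul K 1).symm)

theorem lam_ne_zero [Nontrivial W] {z : Q} (hz : z ∈ Z) : lam z ≠ 0 := fun e => by
  have := h.hlam z hz
  rw [e, zero_smul] at this
  exact one_ne_zero (α := Module.End K W) (by rw [← rho_mul_inv ρ z, this, zero_mul])

/-- The representatives are linearly independent. -/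
theorem independent [Nontrivial W] : LinearIndependent K fun i : Q ⧸ Z => ρ i.out := by
  classical
  let χ : (Q ⧸ Z) → (Q →* K) := fun i =>
    { toFun := fun u => lam ⁅u, i.out⁆
      map_one' := by rw [commutatorElement_one_left]; exact h.lam_one
      map_mul' := fun u u' => h.lam_mul_left u u' i.out }
  have hχ : Function.Injective χ := by
    intro i j e
    rw [← QuotientGroup.out_eq' i, ← QuotientGroup.out_eq' j, QuotientGroup.eq]
    refine h.hrad _ fun u => ?_
    have e1 : lam ⁅u, i.out⁆ = lam ⁅u, j.out⁆ := DFunLike.congr_fun e u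
    have hi := h.conj_rho u i.out
    have hj := h.conj_rho u j.out
    rw [← e1] at hj
    set a := i.out
    set b := j.out
    set c := lam ⁅u, a⁆ with hc
    have hc0 : c ≠ 0 := h.lam_ne_zero (h.hcomm u a)
    have h1 : ρ u * ρ a = c • (ρ a * ρ u) := by
      rw [← smul_mul_assoc, ← hi, mul_assoc _ (ρ u⁻¹), rho_inv_mul, mul_one]
    have h2 : ρ u * ρ b = c • (ρ b * ρ u) := by
      rw [← smul_mul_assoc, ← hj, mul_assoc _ (ρ u⁻¹), rho_inv_mul, mul_one]
    have h3 : ρ a⁻¹ * ρ u = c • (ρ u * ρ a⁻¹) := by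
      have := congrArg (fun f => ρ a⁻¹ * f * ρ a⁻¹) h1
      simp only [mul_smul_comm, smul_mul_assoc] at this
      rw [← mul_assoc (ρ a⁻¹) (ρ a) (ρ u), rho_inv_mul, one_mul, ← mul_assoc (ρ a⁻¹) (ρ u) (ρ a),
        mul_assoc _ (ρ a) (ρ a⁻¹), rho_mul_inv, mul_one] at this
      exact this
    rw [map_mul, mul_assoc, ← mul_assoc (ρ u), ← smul_right_inj hc0]
    calc c • (ρ a⁻¹ * (ρ b * ρ u)) = ρ a⁻¹ * (c • (ρ b * ρ u)) := (mul_smul_comm _ _ _).symm
      _ = ρ a⁻¹ * ρ u * ρ b := by rw [← h2, mul_assoc]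
      _ = c • (ρ u * ρ a⁻¹ * ρ b) := by rw [h3, smul_mul_assoc]
  rw [linearIndependent_iff']
  intro s g hg i hi
  by_contra hgi
  have hli := (linearIndependent_monoidHom Q K).comp χ hχ
  have hne : ρ (i.out) ≠ 0 := fun e => one_ne_zero (α := Module.End K W) (by
    rw [← rho_mul_inv ρ i.out, e, zero_mul])
  obtain ⟨φ, hφ⟩ := Module.Projective.exists_dual_ne_zero K hne
  have h0 : ∑ j ∈ s, (g j * φ (ρ j.out)) • ((χ j : Q →* K) : Q → K) = 0 := by
    funext u
    have h1 := congrArg (fun f => φ (ρ u * f * ρ u⁻¹)) hg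
    simp only [Finset.mul_sum, Finset.sum_mul, mul_smul_comm, smul_mul_assoc, h.conj_rho, map_sum,
      map_smul, smul_eq_mul, mul_zero, zero_mul, map_zero] at h1
    simp only [Finset.sum_apply, Pi.smul_apply, smul_eq_mul, Pi.zero_apply]
    rw [← h1]
    exact Finset.sum_congr rfl fun j _ => by simp only [χ, MonoidHom.coe_mk, OneHom.coe_mk]; ring
  exact mul_ne_zero hgi hφ (linearIndependent_iff'.1 hli s _ h0 i hi)

/-- Collapsing a combination to representatives. -/
theorem comb_eq [Fintype Q] [Fintype (Q ⧸ Z)] [DecidableEq (Q ⧸ Z)] (c : Q → K) :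
    ∑ g, c g • ρ g = ∑ i : Q ⧸ Z,
      (∑ g ∈ Finset.univ.filter (fun g : Q => (g : Q ⧸ Z) = i), c g * lam (i.out⁻¹ * g)) • ρ i.out := by
  rw [← Finset.sum_fiberwise Finset.univ (fun g : Q => (g : Q ⧸ Z))]
  refine Finset.sum_congr rfl fun i _ => ?_
  rw [Finset.sum_smul]
  refine Finset.sum_congr rfl fun g hg => ?_
  have hz : i.out⁻¹ * g ∈ Z := by
    rw [← QuotientGroup.eq, QuotientGroup.out_eq']
    exact ((Finset.mem_filter.1 hg).2).symm
  have e : ρ g = lam (i.out⁻¹ * g) • ρ i.out := by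
    conv_lhs => rw [← mul_inv_cancel_left i.out g, map_mul, h.hlam _ hz, mul_smul_comm, mul_one]
  rw [e, smul_smul]

variable [Finite Q] [IsAlgClosed K] [FiniteDimensional K W] [Fintype (Q ⧸ Z)]

/-- The basis of the endomorphisms. -/
theorem exists_basis (hQ0 : (Nat.card Q : K) ≠ 0) (hρ : IsIrr ρ) :
    ∃ b : Module.Basis (Q ⧸ Z) K (Module.End K W), ∀ i, b i = ρ i.out := by
  classical
  haveI := Fintype.ofFinite Q
  haveI := hρ.1
  rw [Nat.card_eq_fintype_card] at hQ0
  have hN := (schur_avg hρ hQ0).1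
  refine ⟨Module.Basis.mk h.independent ?_, fun i => Module.Basis.mk_apply _ _ i⟩
  intro f _
  have h1 := congrArg (fun t => ((Module.finrank K W : K) / (Fintype.card Q : K)) • t)
    (sum_trace_smul hρ hQ0 f)
  simp only [smul_smul] at h1
  rw [div_mul_div_cancel₀ hQ0, div_self hN, one_smul] at h1
  rw [← h1, h.comb_eq]
  exact Submodule.smul_mem _ _ (Submodule.sum_mem _ fun i _ =>
    Submodule.smul_mem _ _ (Submodule.subset_span ⟨i, rfl⟩))

theorem sq_finrank (hQ0 : (Nat.card Q : K) ≠ 0) (hρ : IsIrr ρ) :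
    Module.finrank K W ^ 2 = Z.index := by
  obtain ⟨b, -⟩ := h.exists_basis hQ0 hρ
  have := Module.finrank_eq_card_basis b
  rw [Module.finrank_linearMap] at this
  rw [Subgroup.index, Nat.card_eq_fintype_card, sq]
  exact this

/-- Two modules with the same scalars on the radical are linked. -/
theorem exists_intw (hQ0 : (Nat.card Q : K) ≠ 0) (hρ : IsIrr ρ) {W' : Type*} [AddCommGroup W']
    [Module K W'] [Nontrivial W'] {ρ' : Q →* Module.End K W'} (h' : Heis ρ' Z lam) :
    ∃ f : W →ₗ[K] W', Intw ρ ρ' f ∧ f ≠ 0 := by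
  classical
  haveI := Fintype.ofFinite Q
  haveI := hρ.1
  rw [Nat.card_eq_fintype_card] at hQ0
  have hN := (schur_avg hρ hQ0).1
  obtain ⟨w, hw⟩ := exists_ne (0 : W)
  obtain ⟨φ, hφ⟩ := Module.Projective.exists_dual_ne_zero K hw
  have hne : coeffOp ρ φ w ρ ≠ 0 := by
    intro e
    have h1 := sum_trace_smul hρ hQ0 (φ.smulRight w)
    have h2 : ∀ g, LinearMap.trace K W (φ.smulRight w * ρ g⁻¹) = φ (ρ g⁻¹ w) := fun g => by
      rw [LinearMap.trace_mul_comm, show ρ g⁻¹ * φ.smulRight w = φ.smulRight (ρ g⁻¹ w) from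
        LinearMap.ext fun v => by simp [LinearMap.smulRight_apply], LinearMap.trace_smulRight]
    simp only [h2] at h1
    rw [show ∑ g, φ (ρ g⁻¹ w) • ρ g = coeffOp ρ φ w ρ from rfl, e, eq_comm, smul_eq_zero] at h1
    rcases h1 with h1 | h1
    · exact div_ne_zero hQ0 hN h1
    · have := LinearMap.congr_fun h1 w
      simp only [LinearMap.smulRight_apply, LinearMap.zero_apply, smul_eq_zero] at this
      exact this.elim hφ hw
  have hne' : coeffOp ρ φ w ρ' ≠ 0 := by
    intro e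
    unfold coeffOp at e hne
    rw [h'.comb_eq] at e
    rw [h.comb_eq] at hne
    refine hne (Finset.sum_eq_zero fun i _ => ?_)
    rw [Fintype.linearIndependent_iff.1 h'.independent _ e i, zero_smul]
  obtain ⟨w', hw'⟩ : ∃ w', coeffOp ρ φ w ρ' w' ≠ 0 := by
    by_contra hh
    push Not at hh
    exact hne' (LinearMap.ext fun v => by rw [hh v, LinearMap.zero_apply])
  let f : W →ₗ[K] W' :=
    { toFun := fun u => coeffOp ρ φ u ρ' w'
      map_add' := fun u v => by
        simp [coeffOp, LinearMap.sum_apply, add_smul, Finset.sum_add_distrib]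
      map_smul' := fun t u => by
        simp [coeffOp, LinearMap.sum_apply, mul_smul, Finset.smul_sum] }
  refine ⟨f, fun q u => ?_, fun e => hw' (LinearMap.congr_fun e w)⟩
  show coeffOp ρ φ (ρ q u) ρ' w' = ρ' q (coeffOp ρ φ u ρ' w')
  simp only [coeffOp, LinearMap.sum_apply, LinearMap.smul_apply, map_sum, map_smul]
  refine (Fintype.sum_equiv (Equiv.mulLeft q) _ _ fun g => ?_).symm
  simp only [Equiv.coe_mulLeft, mul_inv_rev, map_mul, Module.End.mul_apply]
  rw [← Module.End.mul_apply (ρ q⁻¹) (ρ q), rho_inv_mul, Module.End.one_apply]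

end Heis

/-- A module irreducible under a cyclic extension that fixes the scalars is irreducible. -/
theorem irr_of_cyclic [Finite Q] [IsAlgClosed K] [FiniteDimensional K W] [Nontrivial W]
    {ρ : Q →* Module.End K W} {Z : Subgroup Q} {lam : Q → K} (h : Heis ρ Z lam)
    (hQ0 : (Nat.card Q : K) ≠ 0) (φ : Q ≃* Q) (hφZ : ∀ z, φ z ∈ Z ↔ z ∈ Z)
    (hφlam : ∀ z ∈ Z, lam (φ z) = lam z) (G : Module.End K W) (hG : ∀ q, G * ρ q = ρ (φ q) * G)
    (hGu : Function.Injective G)
    (hirr : ∀ U : Submodule K W, (∀ q, ∀ v ∈ U, ρ q v ∈ U) → (∀ v ∈ U, G v ∈ U) → U = ⊥ ∨ U = ⊤) :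
    IsIrr ρ := by
  classical
  haveI : Fintype (Q ⧸ Z) := Fintype.ofFinite _
  obtain ⟨U₀, -, hmin⟩ := exists_minimal_le_of_wellFoundedLT
    (fun X : Submodule K W => X ≠ ⊥ ∧ ∀ q, ∀ v ∈ X, ρ q v ∈ X) ⊤
    ⟨top_ne_bot, fun _ _ _ => Submodule.mem_top⟩
  have hU₀ := hmin.prop.2
  let ρ₀ : Q →* Module.End K U₀ :=
    { toFun := fun q => (ρ q).restrict (hU₀ q)
      map_one' := LinearMap.ext fun v => Subtype.ext (by simp)
      map_mul' := fun a b => LinearMap.ext fun v => Subtype.ext (by simp) }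
  haveI hnt : Nontrivial U₀ := Submodule.nontrivial_iff_ne_bot.2 hmin.prop.1
  have hirr₀ : IsIrr ρ₀ := by
    refine ⟨hnt, fun X hX => ?_⟩
    by_cases hX0 : X = ⊥
    · exact Or.inl hX0
    · right
      have hle := hmin.le_of_le (y := X.map U₀.subtype) ⟨fun e => hX0 ((Submodule.eq_bot_iff _).2
          fun v hv => Subtype.ext (by
            have := Submodule.mem_map_of_mem (f := U₀.subtype) hv
            rw [e, Submodule.mem_bot] at this
            exact this)),
        by rintro q _ ⟨v, hv, rfl⟩; exact ⟨_, hX q v hv, rfl⟩⟩ (Submodule.map_subtype_le _ _)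
      rw [eq_top_iff]
      intro v _
      obtain ⟨v', hv', e⟩ := hle v.2
      exact (Subtype.ext e : v' = v) ▸ hv'
  have hlam₀ : ∀ z ∈ Z, ρ₀ z = lam z • 1 := fun z hz => LinearMap.ext fun v => Subtype.ext (by
    show ρ z (v : W) = lam z • (v : W)
    rw [h.hlam z hz]; rfl)
  have h₀ : Heis ρ₀ Z lam := by
    refine ⟨h.hcomm, hlam₀, fun u hu => h.hrad u fun v => ?_⟩
    have hc : lam ⁅u, v⁆ = 1 := by
      have e0 : ρ₀ u * ρ₀ v * ρ₀ u⁻¹ = lam ⁅u, v⁆ • ρ₀ v := by
        rw [← map_mul, ← map_mul, show u * v * u⁻¹ = ⁅u, v⁆ * v by rw [commutatorElement_def]; group,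
          map_mul, hlam₀ _ (h.hcomm u v), smul_mul_assoc, one_mul]
      rw [hu v, mul_assoc, rho_mul_inv, mul_one] at e0
      have e1 := congrArg (fun f => f * ρ₀ v⁻¹) e0
      simp only [smul_mul_assoc, rho_mul_inv] at e1
      exact smul_left_injective K (one_ne_zero (α := Module.End K U₀)) (e1.symm.trans (one_smul K 1).symm)
    have e := h.conj_rho u v
    rw [hc, one_smul] at e
    conv_rhs => rw [← e]
    rw [mul_assoc, mul_assoc (ρ u) (ρ v), rho_inv_mul, mul_one]
  let ρ₁ : Q →* Module.End K U₀ := ρ₀.comp φ.toMonoidHom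
  have h₁ : Heis ρ₁ Z lam := ⟨h.hcomm, fun z hz => by
      show ρ₀ (φ z) = _
      rw [hlam₀ _ ((hφZ z).2 hz), hφlam z hz],
    fun u hu => (hφZ u).1 (h₀.hrad _ fun v => by simpa [ρ₁] using hu (φ.symm v))⟩
  have hirr₁ : IsIrr ρ₁ := ⟨hnt, fun X hX => hirr₀.2 X fun q v hv => by
    simpa [ρ₁] using hX (φ.symm q) v hv⟩
  obtain ⟨T, hT, hT0⟩ := h₀.exists_intw hQ0 hirr₀ h₁
  let Te := LinearEquiv.ofBijective T (hT.bijective hirr₀ hirr₁ hT0)
  have hTe : ∀ q v, Te.symm (ρ₀ (φ q) v) = ρ₀ q (Te.symm v) := fun q v => by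
    apply Te.injective
    rw [LinearEquiv.apply_symm_apply]
    conv_lhs => rw [← Te.apply_symm_apply v]
    exact (hT q (Te.symm v)).symm
  let H : Submodule K (U₀ →ₗ[K] W) :=
    { carrier := {f | Intw ρ₀ ρ f}
      add_mem' := fun {a b} ha hb q v => by simp [ha q v, hb q v]
      zero_mem' := fun q v => by simp
      smul_mem' := fun t a ha q v => by simp [ha q v] }
  have hH : ∀ f ∈ H, G ∘ₗ f ∘ₗ (Te.symm : U₀ →ₗ[K] U₀) ∈ H := by
    intro f hf q v
    show G (f (Te.symm (ρ₀ q v))) = ρ q (G (f (Te.symm v)))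
    conv_lhs => rw [show q = φ (φ.symm q) from (φ.apply_symm_apply q).symm, hTe, hf]
    rw [← Module.End.mul_apply, hG, φ.apply_symm_apply]
    rfl
  let Θ : Module.End K H :=
    { toFun := fun f => ⟨G ∘ₗ (f : U₀ →ₗ[K] W) ∘ₗ (Te.symm : U₀ →ₗ[K] U₀), hH f f.2⟩
      map_add' := fun a b => Subtype.ext (by simp [LinearMap.add_comp, LinearMap.comp_add])
      map_smul' := fun t a => Subtype.ext (by simp [LinearMap.smul_comp, LinearMap.comp_smul]) }
  haveI : Nontrivial H := ⟨⟨U₀.subtype, fun q v => rfl⟩, 0, fun e => by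
    obtain ⟨v, hv⟩ := exists_ne (0 : U₀)
    exact hv (Subtype.ext (LinearMap.congr_fun (congrArg Subtype.val e) v))⟩
  obtain ⟨μ, hμ⟩ := Module.End.exists_eigenvalue Θ
  obtain ⟨f, hf, hf0⟩ := hμ.exists_hasEigenvector
  have hf0' : (f : U₀ →ₗ[K] W) ≠ 0 := fun e => hf0 (Subtype.ext e)
  have heig : ∀ v, G ((f : U₀ →ₗ[K] W) (Te.symm v)) = μ • (f : U₀ →ₗ[K] W) v := fun v =>
    LinearMap.congr_fun (congrArg Subtype.val (Module.End.mem_eigenspace_iff.1 hf)) v
  have hfinj := (f.2 : Intw ρ₀ ρ _).injective hirr₀ hf0'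
  have hrange : LinearMap.range (f : U₀ →ₗ[K] W) = ⊤ := by
    refine (hirr _ ?_ ?_).resolve_left fun e => hf0' (LinearMap.range_eq_bot.1 e)
    · rintro q _ ⟨v, rfl⟩
      exact ⟨ρ₀ q v, f.2 q v⟩
    · rintro _ ⟨v, rfl⟩
      refine ⟨μ • Te v, ?_⟩
      rw [map_smul, ← heig, LinearEquiv.symm_apply_apply]
  refine ⟨inferInstance, fun X hX => ?_⟩
  have hX' := hirr₀.2 (X.comap (f : U₀ →ₗ[K] W)) fun q v hv => by
    rw [Submodule.mem_comap] at hv ⊢
    rw [f.2 q v]; exact hX q _ hv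
  have hmc := Submodule.map_comap_eq (f : U₀ →ₗ[K] W) X
  rw [hrange, top_inf_eq] at hmc
  rcases hX' with e | e
  · left; rw [← hmc, e, Submodule.map_bot]
  · right; rw [← hmc, e, Submodule.map_top, hrange]

end CfsgLib.FitTuran
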