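import Mathlib

/-!
Linear forms on an abelian group that vanish on translates of fixed points outside a proper
subgroup of the acting group vanish on the fixed points themselves.
-/

set_option autoImplicit false
set_option linter.style.haveILetI false
set_option linter.unusedSectionVars false

namespace CfsgLib.FitTuran

variable {A : Type*} [CommGroup A] {M : Type*} [Group M] (α : M →* MulAut A)
variable {κ : Type*} [CommGroup κ] (ν : A →* κ)
variable (E H : Subgroup M) (s : M) (r : ℕ)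

/-- The operator `s` of prime order acts on `E` without fixed cosets of the proper subgroup `H`. -/
structure FpfMod : Prop where
  hr : r.Prime
  hsr : s ^ r = 1
  hle : H ≤ E
  hne : ¬ E ≤ H
  hsE : ∀ g ∈ E, s * g * s⁻¹ ∈ E
  hsH : ∀ g ∈ H, s * g * s⁻¹ ∈ H
  hfpf : ∀ g ∈ E, g⁻¹ * (s * g * s⁻¹) ∈ H → g ∈ H

theorem alpha_mul (a b : M) (v : A) : α (a * b) v = α a (α b v) := by
  rw [map_mul, MulAut.mul_apply]

variable {E H s r} (h : FpfMod E H s r)

include h

theorem FpfMod.pow_mem (i : ℕ) {g : M} (hg : g ∈ E) : s ^ i * g * (s ^ i)⁻¹ ∈ E := by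
  induction i with
  | zero => simpa using hg
  | succ i ih => rw [pow_succ']; simpa [mul_assoc] using h.hsE _ ih

theorem FpfMod.pow_fpf {g : M} (hg : g ∈ E) (hgH : g ∉ H) {i : ℕ} (hi : ¬ r ∣ i) :
    g⁻¹ * (s ^ i * g * (s ^ i)⁻¹) ∉ H := by
  intro hmem
  have key : ∀ m : ℕ, g⁻¹ * (s ^ (i * m) * g * (s ^ (i * m))⁻¹) ∈ H := by
    intro m
    induction m with
    | zero => simp
    | succ m ih =>
      have hp : ∀ (j : ℕ) (a : M), a ∈ H → s ^ j * a * (s ^ j)⁻¹ ∈ H := by
        intro j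
        induction j with
        | zero => intro a ha; simpa using ha
        | succ j ihj => intro a ha; rw [pow_succ']; simpa [mul_assoc] using h.hsH _ (ihj a ha)
      have h2 := H.mul_mem hmem (hp i _ ih)
      rw [Nat.mul_succ, add_comm, pow_add]
      convert h2 using 1
      group
  obtain ⟨m, -, hm⟩ := Nat.exists_mul_mod_eq_one_of_coprime
    (Nat.Coprime.symm (h.hr.coprime_iff_not_dvd.2 hi)) h.hr.one_lt
  have hk := key m
  have : s ^ (i * m) = s := by
    rw [pow_eq_pow_mod (i * m) h.hsr, hm, pow_one]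
  rw [this] at hk
  exact hgH (h.hfpf g hg hk)

theorem FpfMod.orbitProd_fixed {v : A} (hv : α s v = v) (g : M) :
    α s (∏ i ∈ Finset.range r, α (s ^ i * g) v) = ∏ i ∈ Finset.range r, α (s ^ i * g) v := by
  rw [map_prod]
  have h1 : ∀ i, α s (α (s ^ i * g) v) = α (s ^ (i + 1) * g) v := fun i => by
    rw [← alpha_mul, ← mul_assoc, ← pow_succ']
  simp only [h1]
  have e1 := Finset.prod_range_succ' (fun i => α (s ^ i * g) v) r
  have e2 := Finset.prod_range_succ (fun i => α (s ^ i * g) v) r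
  simp only [pow_zero, h.hsr] at e1 e2
  exact mul_right_cancel (e1.symm.trans e2)

theorem FpfMod.pow_fix {v : A} (hv : α s v = v) (i : ℕ) : α (s ^ i) v = v := by
  induction i with
  | zero => simp
  | succ i ih => rw [pow_succ', alpha_mul, ih, hv]

/-- The terms of a translated orbit product. -/
theorem FpfMod.orbit_term {v : A} (hv : α s v = v) (e g : M) (i : ℕ) :
    α e (α (s ^ i * g) v) = α (e * (s ^ i * g * (s ^ i)⁻¹)) v := by
  conv_rhs => rw [alpha_mul]
  congr 1
  conv_rhs => rw [show v = α (s ^ i) v from (h.pow_fix α hv i).symm]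
  rw [← alpha_mul, inv_mul_cancel_right]

/-- The case of all fixed points. -/
theorem FpfMod.eq_one_of_fixed (Cs : Set A) (hCs : ∀ c ∈ Cs, α s c = c)
    (horb : ∀ c ∈ Cs, ∀ g ∈ E, ∏ i ∈ Finset.range r, α (s ^ i * g) c ∈ Cs)
    (hν : ∀ c ∈ Cs, ∀ e ∈ E, e ∉ H → ν (α e c) = 1) : ∀ c ∈ Cs, ν c = 1 := by
  intro c hc
  obtain ⟨g, hg, hgH⟩ := SetLike.not_le_iff_exists.1 h.hne
  have hinv : g⁻¹ ∉ H := fun hh => hgH (by simpa using H.inv_mem hh)
  have h0 := hν _ (horb c hc g hg) g⁻¹ (E.inv_mem hg) hinv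
  rw [map_prod, map_prod, Finset.prod_eq_single 0] at h0
  · rw [h.orbit_term α (hCs c hc)] at h0
    simpa using h0
  · intro i hi hi0
    rw [h.orbit_term α (hCs c hc)]
    refine hν c hc _ (E.mul_mem (E.inv_mem hg) (h.pow_mem i hg)) (h.pow_fpf hg hgH ?_)
    exact fun hd => hi0 (Nat.eq_zero_of_dvd_of_lt hd (Finset.mem_range.1 hi))
  · intro hh; exact absurd (Finset.mem_range.2 h.hr.pos) hh

variable {y : M} {n : ℕ}

/-- The case of the commutators of the fixed points with an operator `y` commuting with `s`. -/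
theorem FpfMod.eq_one_of_commutator [Finite M]
    (hys : y * s = s * y) (hyn : y ^ n = 1) (hrn : ¬ r ∣ n) (hyE : ∀ g ∈ E, y * g * y⁻¹ ∈ E)
    (hgood : (∀ g ∈ E, (orderOf g).Coprime n) ∨
      ∀ e ∈ E, ∀ a ∈ E, ∀ v : A, α (e⁻¹ * (y * e * y⁻¹) * a) v = α (a * (e⁻¹ * (y * e * y⁻¹))) v)
    (hcop : (Nat.card E).Coprime (Nat.card A)) (hnorm : ∀ e ∈ E, ∀ g ∈ H, e * g * e⁻¹ ∈ H)
    (hν : ∀ c, α s c = c → ∀ e ∈ E, e ∉ H → ν (α e (α y c * c⁻¹)) = 1)
    {c : A} (hc : α s c = c) : ν (α y c * c⁻¹) = 1 := by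
  classical
  haveI := Fintype.ofFinite M
  by_contra hne
  have hn0 : n ≠ 0 := fun e => hrn (e ▸ dvd_zero r)
  have hyfix : ∀ d : A, α s d = d → α s (α y d) = α y d := fun d hd => by
    rw [← alpha_mul, ← hys, alpha_mul, hd]
  have hXfix : ∀ d : A, α s d = d → α s (α y d * d⁻¹) = α y d * d⁻¹ := fun d hd => by
    rw [map_mul, map_inv, hyfix d hd, hd]
  -- the identity attached to an orbit product
  have hid : ∀ d : A, α s d = d → ∀ e ∈ E, e ∉ H → ∀ g ∈ E,
      ∏ i ∈ Finset.range r, ν (α (e * (s ^ i * (y * g * y⁻¹) * (s ^ i)⁻¹)) (α y (α y d * d⁻¹))) =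
      ∏ i ∈ Finset.range r, ν (α (e * (s ^ i * g * (s ^ i)⁻¹)) (α y d * d⁻¹)) := by
    intro d hd e he heH g hg
    have hx := hXfix d hd
    set x := α y d * d⁻¹ with hxdef
    have hu := h.orbitProd_fixed α hx g
    have h0 := hν _ hu e he heH
    rw [map_mul, map_mul, map_inv, map_inv, mul_inv_eq_one] at h0
    simp only [map_prod] at h0
    convert h0 using 1
    · refine Finset.prod_congr rfl fun i _ => ?_
      congr 1
      rw [← h.orbit_term α (hyfix x hx)]
      simp only [← alpha_mul]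
      congr 2
      have : Commute y (s ^ i) := (show Commute y s from hys).pow_right i
      calc e * (s ^ i * (y * g * y⁻¹) * y) = e * ((s ^ i * y) * g) := by group
        _ = e * ((y * s ^ i) * g) := by rw [this.eq]
        _ = _ := by group
    · exact Finset.prod_congr rfl fun i _ => by rw [h.orbit_term α hx]
  have hx := hXfix c hc
  have hvanish : ∀ d, α s d = d → ∀ e ∈ E, e ∉ H → ν (α e (α y (α y d * d⁻¹))) = 1 := by
    intro d hd e he heH
    rw [map_mul, map_inv]
    exact hν _ (hyfix d hd) e he heH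
  have horbit : ∀ g ∈ E, g ∉ H → ∃ i < r, g⁻¹ * (s ^ i * (y * g * y⁻¹) * (s ^ i)⁻¹) ∈ H := by
    intro g hg hgH
    have hinv : g⁻¹ ∉ H := fun hh => hgH (by simpa using H.inv_mem hh)
    have h0 := hid c hc g⁻¹ (E.inv_mem hg) hinv g hg
    rw [Finset.prod_eq_single (s := Finset.range r) (f := fun i =>
      ν (α (g⁻¹ * (s ^ i * g * (s ^ i)⁻¹)) (α y c * c⁻¹))) 0] at h0
    · simp only [pow_zero, one_mul, inv_one, mul_one, inv_mul_cancel, map_one, MulAut.one_apply] at h0
      by_contra hno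
      push Not at hno
      refine hne (h0 ▸ Finset.prod_eq_one fun i hi => ?_)
      exact hvanish c hc _ (E.mul_mem (E.inv_mem hg) (h.pow_mem i (hyE g hg)))
        (hno i (Finset.mem_range.1 hi))
    · intro i hi hi0
      refine hν c hc _ (E.mul_mem (E.inv_mem hg) (h.pow_mem i hg)) (h.pow_fpf hg hgH ?_)
      exact fun hd => hi0 (Nat.eq_zero_of_dvd_of_lt hd (Finset.mem_range.1 hi))
    · intro hh; exact absurd (Finset.mem_range.2 h.hr.pos) hh
  have hpowH : ∀ (j : ℕ) (a : M), a ∈ H → s ^ j * a * (s ^ j)⁻¹ ∈ H := by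
    intro j
    induction j with
    | zero => intro a ha; simpa using ha
    | succ j ihj => intro a ha; rw [pow_succ']; simpa [mul_assoc] using h.hsH _ (ihj a ha)
  -- `y` normalizes `H`
  obtain ⟨g₀, hg₀, hg₀H⟩ := SetLike.not_le_iff_exists.1 h.hne
  have hyH : ∀ b ∈ H, y * b * y⁻¹ ∈ H := by
    intro b hb
    by_contra hbH
    have hbE := hyE b (h.hle hb)
    have hsy : ∀ j : ℕ, s ^ j * (y * b * y⁻¹) * (s ^ j)⁻¹ = y * (s ^ j * b * (s ^ j)⁻¹) * y⁻¹ := by
      intro j
      have hj : Commute y (s ^ j) := (show Commute y s from hys).pow_right j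
      calc s ^ j * (y * b * y⁻¹) * (s ^ j)⁻¹ = (s ^ j * y) * b * (s ^ j * y)⁻¹ := by group
        _ = (y * s ^ j) * b * (y * s ^ j)⁻¹ := by rw [hj.eq]
        _ = _ := by group
    let β : Option (Fin r) → M := fun o => o.elim 1 fun j => s ^ (j : ℕ) * b * (s ^ (j : ℕ))⁻¹
    have hβH : ∀ o, β o ∈ H := by
      rintro (_ | j)
      · exact H.one_mem
      · exact hpowH _ b hb
    have hgβ : ∀ o, g₀ * β o ∈ E ∧ g₀ * β o ∉ H := fun o =>
      ⟨E.mul_mem hg₀ (h.hle (hβH o)), fun hh => hg₀H ((H.mul_mem_cancel_right (hβH o)).1 hh)⟩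
    choose idx hidx hmem using fun o => horbit _ (hgβ o).1 (hgβ o).2
    let f : Option (Fin r) → Fin r := fun o => ⟨idx o, hidx o⟩
    obtain ⟨o, o', hoo, hf⟩ := Fintype.exists_ne_map_eq_of_card_lt f (by simp)
    have hii : idx o = idx o' := congrArg Fin.val hf
    set i := idx o with hi
    have hz : ∀ o, idx o = i → g₀⁻¹ * (s ^ i * (y * (g₀ * β o) * y⁻¹) * (s ^ i)⁻¹) ∈ H := fun o e => by
      have h1 := H.mul_mem (hβH o) (e ▸ hmem o)
      convert h1 using 1
      group
    have hdiff : y * ((β o)⁻¹ * β o') * y⁻¹ ∈ H := by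
      have h1 := H.mul_mem (H.inv_mem (hz o rfl)) (hz o' hii.symm)
      have h2 : s ^ i * (y * ((β o)⁻¹ * β o') * y⁻¹) * (s ^ i)⁻¹ ∈ H := by
        convert h1 using 1
        group
      have h3 := hpowH (r - i) _ h2
      have e : s ^ (r - i) * s ^ i = 1 := by rw [← pow_add, Nat.sub_add_cancel (hidx o).le, h.hsr]
      convert h3 using 1
      calc _ = (s ^ (r - i) * s ^ i) * (y * ((β o)⁻¹ * β o') * y⁻¹) * (s ^ (r - i) * s ^ i)⁻¹ := by
            rw [e]; simp
        _ = _ := by group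
    rcases o with _ | j <;> rcases o' with _ | j'
    · exact hoo rfl
    · have h4 := hpowH (r - (j' : ℕ)) _ hdiff
      have e : s ^ (r - (j' : ℕ)) * s ^ (j' : ℕ) = 1 := by
        rw [← pow_add, Nat.sub_add_cancel j'.2.le, h.hsr]
      refine hbH ?_
      simp only [β, Option.elim, inv_one, one_mul] at h4
      rw [← hsy] at h4
      convert h4 using 1
      calc y * b * y⁻¹ = (s ^ (r - (j' : ℕ)) * s ^ (j' : ℕ)) * (y * b * y⁻¹) *
            (s ^ (r - (j' : ℕ)) * s ^ (j' : ℕ))⁻¹ := by rw [e]; simp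
        _ = _ := by group
    · have h4 := hpowH (r - (j : ℕ)) _ (H.inv_mem hdiff)
      have e : s ^ (r - (j : ℕ)) * s ^ (j : ℕ) = 1 := by
        rw [← pow_add, Nat.sub_add_cancel j.2.le, h.hsr]
      refine hbH ?_
      simp only [β, Option.elim, mul_one] at h4
      rw [show (y * (s ^ (j : ℕ) * b * (s ^ (j : ℕ))⁻¹)⁻¹ * y⁻¹)⁻¹ =
        y * (s ^ (j : ℕ) * b * (s ^ (j : ℕ))⁻¹) * y⁻¹ by group, ← hsy] at h4
      convert h4 using 1
      calc y * b * y⁻¹ = (s ^ (r - (j : ℕ)) * s ^ (j : ℕ)) * (y * b * y⁻¹) *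
            (s ^ (r - (j : ℕ)) * s ^ (j : ℕ))⁻¹ := by rw [e]; simp
        _ = _ := by group
    · set v := y * b * y⁻¹ with hv
      have hdiff' : (s ^ (j : ℕ) * v * (s ^ (j : ℕ))⁻¹)⁻¹ * (s ^ (j' : ℕ) * v * (s ^ (j' : ℕ))⁻¹) ∈ H := by
        rw [hv, hsy, hsy]
        simp only [β, Option.elim] at hdiff
        convert hdiff using 1
        group
      have key : ∀ a a' : Fin r, (a : ℕ) < a' →
          (s ^ (a : ℕ) * v * (s ^ (a : ℕ))⁻¹)⁻¹ * (s ^ (a' : ℕ) * v * (s ^ (a' : ℕ))⁻¹) ∈ H → False := by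
        intro a a' hlt hd'
        have h4 := hpowH (r - (a : ℕ)) _ hd'
        have e : s ^ (r - (a : ℕ)) * s ^ (a : ℕ) = 1 := by
          rw [← pow_add, Nat.sub_add_cancel a.2.le, h.hsr]
        have e' : s ^ (r - (a : ℕ)) * s ^ (a' : ℕ) = s ^ ((a' : ℕ) - a) := by
          rw [← pow_add, show r - (a : ℕ) + a' = r + (a' - a) by omega, pow_add, h.hsr, one_mul]
        refine h.pow_fpf hbE hbH (i := (a' : ℕ) - a) (fun hd => ?_) ?_
        · have := Nat.le_of_dvd (by omega) hd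
          omega
        · convert h4 using 1
          rw [← e']
          calc v⁻¹ * (s ^ (r - (a : ℕ)) * s ^ (a' : ℕ) * v * (s ^ (r - (a : ℕ)) * s ^ (a' : ℕ))⁻¹) =
              ((s ^ (r - (a : ℕ)) * s ^ (a : ℕ)) * v * (s ^ (r - (a : ℕ)) * s ^ (a : ℕ))⁻¹)⁻¹ *
                (s ^ (r - (a : ℕ)) * s ^ (a' : ℕ) * v * (s ^ (r - (a : ℕ)) * s ^ (a' : ℕ))⁻¹) := by
                rw [e]; simp
            _ = _ := by group
      rcases lt_trichotomy (j : ℕ) j' with hlt | heq | hgt
      · exact key j j' hlt hdiff'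
      · exact hoo (by rw [Fin.ext heq])
      · exact key j' j hgt (by simpa [mul_assoc] using H.inv_mem hdiff')
  -- `y` centralizes `E` modulo `H`
  have hyg : ∀ g ∈ E, g⁻¹ * (y * g * y⁻¹) ∈ H := by
    intro g hg
    by_cases hgH : g ∈ H
    · exact H.mul_mem (H.inv_mem hgH) (hyH g hgH)
    obtain ⟨i, hi, hmem⟩ := horbit g hg hgH
    have hiter : ∀ m : ℕ, g⁻¹ * (s ^ (i * m) * (y ^ m * g * (y ^ m)⁻¹) * (s ^ (i * m))⁻¹) ∈ H := by
      intro m
      induction m with
      | zero => simp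
      | succ m ih =>
        have h1 := H.mul_mem hmem (hpowH i _ (hyH _ ih))
        have hc1 : Commute y (s ^ (i * m)) := (show Commute y s from hys).pow_right _
        convert h1 using 1
        rw [Nat.mul_succ, add_comm, pow_add, pow_succ' y]
        calc g⁻¹ * (s ^ i * s ^ (i * m) * (y * y ^ m * g * (y * y ^ m)⁻¹) *
              (s ^ i * s ^ (i * m))⁻¹) =
            g⁻¹ * (s ^ i * ((s ^ (i * m) * y) * (y ^ m * g * (y ^ m)⁻¹) *
              (s ^ (i * m) * y)⁻¹) * (s ^ i)⁻¹) := by group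
          _ = g⁻¹ * (s ^ i * ((y * s ^ (i * m)) * (y ^ m * g * (y ^ m)⁻¹) *
              (y * s ^ (i * m))⁻¹) * (s ^ i)⁻¹) := by rw [hc1.eq]
          _ = _ := by group
    have h1 := hiter n
    rw [hyn] at h1
    simp only [one_mul, inv_one, mul_one] at h1
    by_cases hi0 : r ∣ i
    · obtain rfl := Nat.eq_zero_of_dvd_of_lt hi0 hi
      simpa using hmem
    exact absurd h1 (h.pow_fpf hg hgH fun hd => ((Nat.Prime.dvd_mul h.hr).1 hd).elim hi0 hrn)
  -- the test vectors
  let W : Set A := {w | ∃ a ∈ H, ∃ d, α s d = d ∧ w = α a (α y d * d⁻¹)}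
  have hWy : ∀ w ∈ W, α y w ∈ W := by
    rintro w ⟨a, ha, d, hd, rfl⟩
    refine ⟨y * a * y⁻¹, hyH a ha, α y d, hyfix d hd, ?_⟩
    rw [← alpha_mul, ← map_inv, ← map_mul, ← alpha_mul, inv_mul_cancel_right]
  have hstep : ∀ g ∈ E, g ∉ H → ∀ b ∈ H, ∀ w ∈ W,
      ν (α (b * (g⁻¹ * (y * g * y⁻¹))) (α y w)) = ν (α b w) := by
    rintro g hg hgH b hb w ⟨a, ha, d, hd, rfl⟩
    set g' := g * a with hg'
    have hgE : g' ∈ E := E.mul_mem hg (h.hle ha)
    have hgH' : g' ∉ H := fun hh => hgH ((H.mul_mem_cancel_right ha).1 hh)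
    set e := b * g⁻¹ with he
    have heE : e ∈ E := E.mul_mem (h.hle hb) (E.inv_mem hg)
    have heH : e ∉ H := fun hh => hgH (by simpa using H.inv_mem ((H.mul_mem_cancel_left hb).1 hh))
    have hbase : e * g' = b * a := by rw [he, hg']; group
    have hout : ∀ i ∈ Finset.range r, i ≠ 0 → e * (s ^ i * g' * (s ^ i)⁻¹) ∉ H := by
      intro i hi hi0 hh
      refine h.pow_fpf hgE hgH' (i := i) ?_ ?_
      · exact fun hd => hi0 (Nat.eq_zero_of_dvd_of_lt hd (Finset.mem_range.1 hi))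
      · have := H.mul_mem (H.inv_mem (hbase ▸ H.mul_mem hb ha : e * g' ∈ H)) hh
        simpa [mul_assoc] using this
    have h0 := hid d hd e heE heH g' hgE
    rw [Finset.prod_eq_single 0, Finset.prod_eq_single 0] at h0
    · simp only [pow_zero, one_mul, inv_one, mul_one] at h0
      rw [hbase] at h0
      rw [← alpha_mul, ← alpha_mul, ← alpha_mul]
      rw [← alpha_mul] at h0
      convert h0 using 4
      rw [he, hg']
      group
    all_goals first
      | (intro hh; exact absurd (Finset.mem_range.2 h.hr.pos) hh)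
      | (intro i hi hi0
         exact hν d hd _ (E.mul_mem heE (h.pow_mem i hgE)) (hout i hi hi0))
      | (intro i hi hi0
         refine hvanish d hd _ (E.mul_mem heE (h.pow_mem i (hyE _ hgE))) fun hh => hout i hi hi0 ?_
         have h1 := H.mul_mem hh (hpowH i _ (H.inv_mem (hyg g' hgE)))
         convert h1 using 1
         group)
  have hWyi : ∀ w ∈ W, α y⁻¹ w ∈ W := by
    intro w hw
    have hp : ∀ m, α (y ^ m) w ∈ W := by
      intro m
      induction m with
      | zero => simpa using hw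
      | succ m ih => rw [pow_succ', alpha_mul]; exact hWy _ ih
    obtain ⟨m, rfl⟩ : ∃ m, n = m + 1 := ⟨n - 1, by omega⟩
    rw [pow_succ'] at hyn
    rw [← eq_inv_of_mul_eq_one_right hyn]
    exact hp m
  have hshift : ∀ g ∈ E, g ∉ H → ∀ b ∈ H, ∀ w ∈ W,
      ν (α (b * (g⁻¹ * (y * g * y⁻¹))) w) = ν (α b (α y⁻¹ w)) := fun g hg hgH b hb w hw => by
    rw [← hstep g hg hgH b hb _ (hWyi w hw), ← alpha_mul α y, mul_inv_cancel, map_one, MulAut.one_apply]
  -- the translations by `g⁻¹ (y g y⁻¹)` are invisible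
  have htriv : ∀ g ∈ E, g ∉ H → ∀ b ∈ H, ∀ w ∈ W,
      ν (α (b * (g⁻¹ * (y * g * y⁻¹))) w) = ν (α b w) := by
    intro g hg hgH b hb w hw
    set z := g⁻¹ * (y * g * y⁻¹) with hz
    have hzE : z ∈ E := E.mul_mem (E.inv_mem hg) (hyE g hg)
    have hzH : z ∈ H := hyg g hg
    rcases hgood with hco | hcen
    · have hm : ∀ m : ℕ, ∀ b ∈ H, ∀ w ∈ W,
          ν (α (b * z ^ m) w) = ν (α b (α (y⁻¹ ^ m) w)) := by
        intro m
        induction m with
        | zero => intro b _ w _; simp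
        | succ m ih =>
          intro b hb w hw
          rw [pow_succ, ← mul_assoc, hshift g hg hgH _ (H.mul_mem hb (H.pow_mem hzH m)) w hw,
            ih b hb _ (hWyi w hw), ← alpha_mul α (y⁻¹ ^ m), ← pow_succ]
      obtain ⟨m, hm1, hm2⟩ := Nat.chineseRemainder (hco z hzE) 1 0
      have e1 : z ^ m = z := by
        conv_rhs => rw [← pow_one z]
        exact pow_eq_pow_iff_modEq.2 hm1
      have e2 : y⁻¹ ^ m = 1 := by
        obtain ⟨t, rfl⟩ := Nat.modEq_zero_iff_dvd.1 hm2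
        rw [pow_mul, inv_pow, hyn, inv_one, one_pow]
      have := hm m b hb w hw
      rw [e1, e2, map_one, MulAut.one_apply] at this
      exact this
    · obtain ⟨g', hg', hg'H, hgg'⟩ : ∃ g' ∈ E, g' ∉ H ∧ g * g' ∉ H := by
        by_cases hsq : g * g ∈ H
        · refine ⟨s * g * s⁻¹, h.hsE g hg, fun hh => hgH ?_, fun hh => hgH (h.hfpf g hg ?_)⟩
          · have h3 := hpowH (r - 1) _ hh
            have e : s ^ (r - 1) * s = 1 := by rw [← pow_succ, Nat.sub_add_cancel h.hr.one_le, h.hsr]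
            convert h3 using 1
            calc g = (s ^ (r - 1) * s) * g * (s ^ (r - 1) * s)⁻¹ := by rw [e]; simp
              _ = _ := by group
          · have := H.mul_mem (H.inv_mem hsq) hh
            convert this using 1
            group
        · exact ⟨g, hg, hgH, hsq⟩
      have hgg'E : g * g' ∈ E := E.mul_mem hg hg'
      set z' := g'⁻¹ * (y * g' * y⁻¹) with hz'
      have hz'H : z' ∈ H := hyg g' hg'
      have hyy : ∀ w ∈ W, ν (α b (α y⁻¹ w)) = ν (α b (α y⁻¹ (α y⁻¹ w))) := by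
        intro w hw
        rw [← hshift g hg hgH b hb _ (hWyi w hw), ← hshift g' hg' hg'H _ (H.mul_mem hb hzH) w hw,
          ← hshift (g * g') hgg'E hgg' b hb w hw]
        have hsplit : b * ((g * g')⁻¹ * (y * (g * g') * y⁻¹)) = b * (g'⁻¹ * (z * (g' * z'))) := by
          rw [hz, hz']; group
        have hc := hcen g hg g' hg' (α z' w)
        rw [← hz] at hc
        rw [hsplit, alpha_mul, alpha_mul α g'⁻¹, ← mul_assoc z, alpha_mul α (z * g'), hc,
          ← alpha_mul α g'⁻¹, inv_mul_cancel_left, alpha_mul α (b * z), alpha_mul α b z]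
      rw [hshift g hg hgH b hb w hw]
      have := hyy (α y w) (hWy w hw)
      rw [← alpha_mul α y⁻¹ y, inv_mul_cancel, map_one, MulAut.one_apply] at this
      exact this.symm
  let K0 : Subgroup M :=
    { carrier := {z | z ∈ H ∧ ∀ b ∈ H, ∀ w ∈ W, ν (α (b * z) w) = ν (α b w)}
      one_mem' := ⟨H.one_mem, fun b _ w _ => by rw [mul_one]⟩
      mul_mem' := fun {p q} hp hq => ⟨H.mul_mem hp.1 hq.1, fun b hb w hw => by
        rw [← mul_assoc, hq.2 _ (H.mul_mem hb hp.1) w hw, hp.2 b hb w hw]⟩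
      inv_mem' := fun {p} hp => ⟨H.inv_mem hp.1, fun b hb w hw => by
        rw [← hp.2 _ (H.mul_mem hb (H.inv_mem hp.1)) w hw, inv_mul_cancel_right]⟩ }
  set K := Subgroup.closure ((fun g => g⁻¹ * (y * g * y⁻¹)) '' (E : Set M)) with hK
  have hgen : ∀ g ∈ E, g⁻¹ * (y * g * y⁻¹) ∈ K0 := by
    intro g hg
    by_cases hgH : g ∈ H
    · refine ⟨hyg g hg, fun b hb w hw => ?_⟩
      have hg₁ : g₀ * g ∉ H := fun hh => hg₀H ((H.mul_mem_cancel_right hgH).1 hh)
      obtain ⟨a, ha, d, hd, rfl⟩ := hw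
      have hw' : α g (α (g⁻¹ * (y * g * y⁻¹)) (α a (α y d * d⁻¹))) ∈ W := by
        refine ⟨g * (g⁻¹ * (y * g * y⁻¹)) * a, H.mul_mem (H.mul_mem hgH (hyg g hg)) ha, d, hd, ?_⟩
        simp only [alpha_mul]
      have h1 := htriv g₀ hg₀ hg₀H (b * g⁻¹) (H.mul_mem hb (H.inv_mem hgH)) _ hw'
      have h2 := htriv (g₀ * g) (E.mul_mem hg₀ hg) hg₁ b hb (α a (α y d * d⁻¹)) ⟨a, ha, d, hd, rfl⟩
      rw [← h2]
      simp only [← alpha_mul] at h1 ⊢
      convert h1.symm using 4 <;> group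
    · exact ⟨hyg g hg, fun b hb w hw => htriv g hg hgH b hb w hw⟩
  have hK0 : K ≤ K0 := (Subgroup.closure_le _).2 (by rintro _ ⟨g, hg, rfl⟩; exact hgen g hg)
  have hKH : K ≤ H := fun z hz => (hK0 hz).1
  -- invariance of `K`
  have hconj : ∀ (m : M), (∀ g ∈ E, m * (g⁻¹ * (y * g * y⁻¹)) * m⁻¹ ∈ K) →
      ∀ z ∈ K, m * z * m⁻¹ ∈ K := fun m hm z hz => by
    induction hz using Subgroup.closure_induction with
    | mem z hz => obtain ⟨g, hg, rfl⟩ := hz; exact hm g hg
    | one => simp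
    | mul a b _ _ iha ihb => simpa [mul_assoc] using K.mul_mem iha ihb
    | inv a _ iha => simpa [mul_assoc] using K.inv_mem iha
  have hmemK : ∀ g ∈ E, g⁻¹ * (y * g * y⁻¹) ∈ K := fun g hg => Subgroup.subset_closure ⟨g, hg, rfl⟩
  have hKs : ∀ z ∈ K, s * z * s⁻¹ ∈ K := hconj s fun g hg => by
    convert hmemK (s * g * s⁻¹) (h.hsE g hg) using 1
    calc s * (g⁻¹ * (y * g * y⁻¹)) * s⁻¹ = (s * g * s⁻¹)⁻¹ * ((s * y) * g * (s * y)⁻¹) := by group
      _ = (s * g * s⁻¹)⁻¹ * ((y * s) * g * (y * s)⁻¹) := by rw [hys]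
      _ = _ := by group
  have hKy : ∀ z ∈ K, y * z * y⁻¹ ∈ K := hconj y fun g hg => by
    convert hmemK (y * g * y⁻¹) (hyE g hg) using 1
    group
  have hKe : ∀ e ∈ E, ∀ z ∈ K, e * z * e⁻¹ ∈ K := fun e he => hconj e fun g hg => by
    have h1 := K.mul_mem (hmemK (g * e⁻¹) (E.mul_mem hg (E.inv_mem he)))
      (K.inv_mem (hmemK e⁻¹ (E.inv_mem he)))
    convert h1 using 1
    group
  haveI := Fintype.ofFinite K
  -- averaging over `K`
  let N : A → A := fun v => ∏ z : K, α (z : M) v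
  have hNmul : ∀ v w, N (v * w) = N v * N w := fun v w => by
    simp only [N, map_mul, Finset.prod_mul_distrib]
  have hNinv : ∀ v, N v⁻¹ = (N v)⁻¹ := fun v => by
    simp only [N, map_inv, Finset.prod_inv_distrib]
  have hNconj : ∀ (m : M), (∀ z ∈ K, m * z * m⁻¹ ∈ K) → ∀ v, α m (N v) = N (α m v) := by
    intro m hm v
    let f : K → K := fun z => ⟨m * z * m⁻¹, hm z z.2⟩
    have hf : Function.Injective f := fun a b e => Subtype.ext (by
      simpa [f] using congrArg Subtype.val e)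
    simp only [N, map_prod]
    refine Fintype.prod_bijective f (Finite.injective_iff_bijective.1 hf) _ _ fun z => ?_
    simp only [f, ← alpha_mul, inv_mul_cancel_right]
  have hNfix : ∀ z ∈ K, ∀ v, α z (N v) = N v := fun z hz v => by
    simp only [N, map_prod]
    exact Fintype.prod_equiv (Equiv.mulLeft (⟨z, hz⟩ : K)) _ _ fun q => by
      simp only [Equiv.coe_mulLeft, Subgroup.coe_mul, ← alpha_mul]
  have hsum : ν (N (α y c * c⁻¹)) = ν (α y c * c⁻¹) ^ Nat.card K := by
    simp only [N, map_prod]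
    rw [Finset.prod_congr rfl (g := fun _ => ν (α y c * c⁻¹)) fun z _ => ?_, Finset.prod_const,
      Finset.card_univ, Nat.card_eq_fintype_card]
    have := (hK0 z.2).2 1 H.one_mem (α y c * c⁻¹) ⟨1, H.one_mem, c, hc, by simp⟩
    simpa using this
  let ν' : A →* κ :=
    { toFun := fun v => ν (α y v * v⁻¹)
      map_one' := by simp
      map_mul' := fun v w => by simp only [map_mul, map_inv, mul_inv]; ac_rfl }
  let Cs : Set A := {v | α s v = v ∧ ∀ z ∈ K, α z v = v}
  have hfull := h.eq_one_of_fixed α ν' Cs (fun v hv => hv.1) (fun v hv g hg => ⟨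
      h.orbitProd_fixed α hv.1 g, fun z hz => by
        rw [map_prod]
        refine Finset.prod_congr rfl fun i _ => ?_
        have hm : ∀ j : ℕ, ∀ q ∈ K, (s ^ j) * q * (s ^ j)⁻¹ ∈ K := by
          intro j
          induction j with
          | zero => intro q hq; simpa using hq
          | succ j ihj => intro q hq; rw [pow_succ']; simpa [mul_assoc] using hKs _ (ihj q hq)
        have hq : (s ^ i * g)⁻¹ * z * (s ^ i * g) ∈ K := by
          have h1 := hKe g⁻¹ (E.inv_mem hg) _ (hm ((r - 1) * i) z hz)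
          have e : s ^ ((r - 1) * i) = (s ^ i)⁻¹ := eq_inv_of_mul_eq_one_left (by
            rw [← pow_add, ← Nat.succ_mul, Nat.succ_eq_add_one, Nat.sub_add_cancel h.hr.one_le,
              pow_mul, h.hsr, one_pow])
          rw [e] at h1
          convert h1 using 1
          group
        have := hv.2 _ hq
        calc α z (α (s ^ i * g) v) = α (s ^ i * g) (α ((s ^ i * g)⁻¹ * z * (s ^ i * g)) v) := by
              rw [← alpha_mul, ← alpha_mul]; congr 2; group
          _ = _ := by rw [this]⟩)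
    (fun v hv e he heH => by
      show ν (α y (α e v) * (α e v)⁻¹) = 1
      have hzy : α (e⁻¹ * (y * e * y⁻¹)) (α y v) = α y v := by
        have hq : y⁻¹ * (e⁻¹ * (y * e * y⁻¹)) * y ∈ K := by
          let fy : K → K := fun z => ⟨y * z * y⁻¹, hKy z z.2⟩
          have hfy : Function.Injective fy := fun a b e => Subtype.ext (by
            simpa [fy] using congrArg Subtype.val e)
          obtain ⟨⟨q, hq⟩, hqe⟩ := (Finite.injective_iff_bijective.1 hfy).2 ⟨_, hmemK e he⟩
          have e' : y * q * y⁻¹ = e⁻¹ * (y * e * y⁻¹) := congrArg Subtype.val hqe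
          rw [← e']
          simpa [mul_assoc] using hq
        have h1 := hv.2 _ hq
        calc α (e⁻¹ * (y * e * y⁻¹)) (α y v) = α y (α (y⁻¹ * (e⁻¹ * (y * e * y⁻¹)) * y) v) := by
              rw [← alpha_mul, ← alpha_mul]; congr 2; group
          _ = α y v := by rw [h1]
      have h2 : α y (α e v) = α e (α y v) := by
        conv_rhs => rw [← hzy, ← alpha_mul, ← alpha_mul]
        rw [← alpha_mul]
        congr 2
        group
      rw [h2, ← map_inv, ← map_mul]
      exact hν v hv.1 e he heH)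
    (N c) ⟨by rw [hNconj s hKs, hc], fun z hz => hNfix z hz c⟩
  have h1 : ν (α y c * c⁻¹) ^ Nat.card K = 1 := by
    rw [← hsum, hNmul, hNinv, ← hNconj y hKy]
    exact hfull
  have h2 : ν (α y c * c⁻¹) ^ Nat.card A = 1 := by
    rw [← map_pow, pow_card_eq_one', map_one]
  have hco : (Nat.card K).Coprime (Nat.card A) :=
    hcop.coprime_dvd_left (Subgroup.card_dvd_of_le (hKH.trans h.hle))
  refine hne (orderOf_eq_one_iff.1 (Nat.eq_one_of_dvd_coprimes hco ?_ ?_))
  · exact orderOf_dvd_of_pow_eq_one h1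
  · exact orderOf_dvd_of_pow_eq_one h2

end CfsgLib.FitTuran
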