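import Cfsg.Agent.Lib.FitTuran.PSide

/-!
The components of a module for a class-two group extended by an operator of prime order.
-/

set_option autoImplicit false
set_option linter.style.haveILetI false
set_option linter.unusedSectionVars false

open scoped commutatorElement

namespace CfsgLib.FitTuran

open CfsgLib.BG.FixedLine CfsgLib.HallHigman

variable {K W Y : Type*} [Field K] [IsAlgClosed K] [AddCommGroup W] [Module K W]
  [FiniteDimensional K W] [Group Y] [Finite Y]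

variable (ρ : Y →* Module.End K W) in
/-- A `q`-group `Q` with class-two image, normalized by an operator `s` of prime order. -/
structure QData (Q : Subgroup Y) (s : Y) (r q : ℕ) : Prop where
  hr : r.Prime
  hq : q.Prime
  hrq : r ≠ q
  hr0 : (r : K) ≠ 0
  hq0 : (q : K) ≠ 0
  hQ : IsPGroup q Q
  hsr : s ^ r = 1
  hsQ : s ∈ Subgroup.normalizer (Q : Set Y)
  hcen : ∀ u ∈ Q, ∀ v ∈ Q, ∀ w ∈ Q, ρ ⁅⁅u, v⁆, w⁆ = 1
  hpow : ∀ u ∈ Q, ∀ w ∈ Q, ρ ⁅u ^ q, w⁆ = 1

/-- The span of the vectors moved by a subgroup. -/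
def moved (ρ : Y →* Module.End K W) (E : Subgroup Y) : Submodule K W :=
  ⨆ e : E, LinearMap.range (ρ (e : Y) - 1)

variable {ρ : Y →* Module.End K W}

theorem sub_mem_moved {E : Subgroup Y} (v : W) {e : Y} (he : e ∈ E) : ρ e v - v ∈ moved ρ E :=
  Submodule.mem_iSup_of_mem (⟨e, he⟩ : E) ⟨v, rfl⟩

theorem moved_invariant {E : Subgroup Y} {g : Y} (hg : ∀ e ∈ E, g * e * g⁻¹ ∈ E) {v : W}
    (hv : v ∈ moved ρ E) : ρ g v ∈ moved ρ E := by
  refine Submodule.iSup_induction (fun e : E => LinearMap.range (ρ (e : Y) - 1))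
    (motive := fun z => ρ g z ∈ moved ρ E) hv ?_ (by simp)
    (fun a b ha hb => by rw [map_add]; exact Submodule.add_mem _ ha hb)
  rintro ⟨e, he⟩ _ ⟨w, rfl⟩
  have : ρ g ((ρ e - 1) w) = ρ (g * e * g⁻¹) (ρ g w) - ρ g w := by
    rw [LinearMap.sub_apply, map_sub, Module.End.one_apply, ← rho_mul, ← rho_mul, inv_mul_cancel_right]
  rw [this]
  exact sub_mem_moved _ (hg e he)

theorem commute_of_rho_commutator {a b : Y} (h : ρ ⁅a, b⁆ = 1) (v : W) : ρ a (ρ b v) = ρ b (ρ a v) := by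
  rw [← rho_mul, ← rho_mul, show a * b = ⁅a, b⁆ * (b * a) by simp only [commutatorElement_def]; group,
    map_mul, h, one_mul]

theorem rho_commutator_eq_one {a b : Y} (h : ρ a * ρ b = ρ b * ρ a) : ρ ⁅a, b⁆ = 1 := by
  rw [commutatorElement_def, map_mul, map_mul, map_mul, h, mul_assoc (ρ b), ← map_mul ρ a,
    mul_inv_cancel, map_one, mul_one, ← map_mul, mul_inv_cancel, map_one]

theorem le_normalizer_commutator_zpowers {Q : Subgroup Y} {s : Y}
    (hsQ : s ∈ Subgroup.normalizer (Q : Set Y)) :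
    s ∈ Subgroup.normalizer ((⁅Q, Subgroup.zpowers s⁆ : Subgroup Y) : Set Y) :=
  CfsgLib.Coprime.le_normalizer_commutator (A := Subgroup.zpowers s) (Subgroup.zpowers_le.2 hsQ)
    Subgroup.le_normalizer (Subgroup.mem_zpowers s)

theorem commutator_zpowers_le {Q : Subgroup Y} {s : Y}
    (hsQ : s ∈ Subgroup.normalizer (Q : Set Y)) : ⁅Q, Subgroup.zpowers s⁆ ≤ Q :=
  CfsgLib.Coprime.commutator_le_left_of_le_normalizer (Subgroup.zpowers_le.2 hsQ)

theorem normalizer_commutator_zpowers {Q : Subgroup Y} {s g : Y}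
    (hgQ : g ∈ Subgroup.normalizer (Q : Set Y)) (hgs : g * s = s * g) :
    g ∈ Subgroup.normalizer ((⁅Q, Subgroup.zpowers s⁆ : Subgroup Y) : Set Y) := by
  refine CfsgLib.Coprime.le_normalizer_commutator (A := Subgroup.zpowers g)
    (Subgroup.zpowers_le.2 hgQ) ?_ (Subgroup.mem_zpowers g)
  refine zpowers_le_normalizer fun u hu => ?_
  obtain ⟨i, rfl⟩ := Subgroup.mem_zpowers_iff.1 hu
  rw [((show Commute g s from hgs).zpow_right i).eq, mul_inv_cancel_right]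
  exact hu

namespace QData

variable {Q : Subgroup Y} {s : Y} {r q : ℕ} (h : QData ρ Q s r q)

include h

omit [IsAlgClosed K] [FiniteDimensional K W] in
theorem card_Q_ne_zero {A : Subgroup Y} (hA : A ≤ Q) : (Nat.card A : K) ≠ 0 := by
  haveI := Fact.mk h.hq
  exact natCast_ne_zero_of_isPGroup (h.hQ.to_le hA) h.hq0

omit [IsAlgClosed K] [FiniteDimensional K W] in
theorem coprime : (Nat.card (Subgroup.zpowers s)).Coprime (Nat.card Q) :=
  coprime_zpowers h.hq h.hr h.hrq.symm h.hQ h.hsr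

omit [IsAlgClosed K] [FiniteDimensional K W] in
theorem top_ne_zero : (Nat.card ↥(Q ⊔ Subgroup.zpowers s) : K) ≠ 0 := by
  have h1 := CfsgLib.Coprime.card_sup_mul_card_inf (K := Q) (Subgroup.zpowers_le.2 h.hsQ)
  obtain ⟨t, ht⟩ : Nat.card ↥(Q ⊔ Subgroup.zpowers s) ∣ Nat.card Q * Nat.card (Subgroup.zpowers s) :=
    Dvd.intro _ h1
  obtain ⟨u, hu⟩ := orderOf_dvd_of_pow_eq_one h.hsr
  intro h0
  have h2 : ((Nat.card Q * Nat.card (Subgroup.zpowers s) : ℕ) : K) = 0 := by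
    rw [ht, Nat.cast_mul, h0, zero_mul]
  rw [Nat.cast_mul, mul_eq_zero, Nat.card_zpowers] at h2
  exact h2.elim (h.card_Q_ne_zero le_rfl) fun e => h.hr0 (by rw [hu, Nat.cast_mul, e, zero_mul])

theorem commutator_mem_centOn {U : Submodule K W} (hU : Inv ρ Q U) {a b : Y} (ha : a ∈ Q) (hb : b ∈ Q) :
    ⁅a, b⁆ ∈ centOn ρ Q U hU :=
  ⟨by
    rw [commutatorElement_def]
    exact Q.mul_mem (Q.mul_mem (Q.mul_mem ha hb) (Q.inv_mem ha)) (Q.inv_mem hb),
  fun f hf v _ => commute_of_rho_commutator (h.hcen a ha b hb f hf) v⟩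

theorem pow_mem_centOn {U : Submodule K W} (hU : Inv ρ Q U) {a : Y} (ha : a ∈ Q) :
    a ^ q ∈ centOn ρ Q U hU :=
  ⟨Q.pow_mem ha q, fun f hf v _ => commute_of_rho_commutator (h.hpow a ha f hf) v⟩

/-- A moved component consists of moved vectors, on which operators fixing the moved fixed vectors
act trivially. -/
theorem moved_component {A : Subgroup Y} (hA : A ≤ Q) (hsA : s ∈ Subgroup.normalizer (A : Set Y))
    {μ : Chi K A} (hμ : (⟨s, hsA⟩ : Subgroup.normalizer (A : Set Y)) • μ ≠ μ) {V : Submodule K W}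
    (hV : Inv ρ Q V) (hVA : V ≤ comp ρ A μ) :
    V ≤ moved ρ ⁅Q, Subgroup.zpowers s⁆ ∧
      ∀ f : Module.End K W, f * ρ s = ρ s * f → (∀ v ∈ V, f v ∈ V) →
        (∀ u ∈ moved ρ ⁅Q, Subgroup.zpowers s⁆, ρ s u = u → f u = u) → ∀ v ∈ V, f v = v := by
  set EQ := ⁅Q, Subgroup.zpowers s⁆ with hEQ
  have hEQQ : EQ ≤ Q := commutator_zpowers_le h.hsQ
  have hmov : V ≤ moved ρ EQ := by
    refine mem_of_no_fixed (h.card_Q_ne_zero hEQQ) (hV.mono hEQQ) (fun v e he => sub_mem_moved v he) ?_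
    intro v hv hfix
    by_contra hv0
    refine hμ (MonoidHom.ext fun a => Units.ext (smul_left_injective K hv0 ?_))
    show (((⟨s, hsA⟩ : Subgroup.normalizer (A : Set Y)) • μ) a : K) • v = (μ a : K) • v
    set b : A := CfsgLib.Coprime.conjAct le_rfl (⟨s, hsA⟩ : Subgroup.normalizer (A : Set Y))⁻¹ a with hb
    have hb' : ((b : A) : Y) = s⁻¹ * (a : Y) * s := by
      rw [hb, CfsgLib.Coprime.coe_conjAct]; simp
    rw [smul_chi_apply, ← hb, ← hVA hv b, ← hVA hv a, hb']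
    have hmem : (a : Y)⁻¹ * (s⁻¹ * (a : Y) * s) ∈ EQ := by
      have := Subgroup.commutator_mem_commutator (Q.inv_mem (hA a.2))
        (inv_mem (Subgroup.mem_zpowers s))
      rwa [commutatorElement_def, inv_inv, inv_inv, mul_assoc (a : Y)⁻¹, mul_assoc (a : Y)⁻¹] at this
    calc ρ (s⁻¹ * (a : Y) * s) v = ρ (a : Y) (ρ ((a : Y)⁻¹ * (s⁻¹ * (a : Y) * s)) v) := by
          rw [← rho_mul, mul_inv_cancel_left]
      _ = ρ (a : Y) v := by rw [hfix _ hmem]
  refine ⟨hmov, fun f hf hfV hfix v hv => ?_⟩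
  set x : Subgroup.normalizer (A : Set Y) := ⟨s, hsA⟩ with hx
  have hxr : x ^ r = 1 := Subtype.ext (by simp [hx, h.hsr])
  refine fixed_of_orbitSum (h.card_Q_ne_zero hA) h.hr hxr hμ hf (hVA hv) (hVA (hfV v hv)) ?_
  refine hfix _ (Submodule.sum_mem _ fun i _ => ?_) (orbitSum_fixed hxr v)
  refine moved_invariant (fun e he => ?_) (hmov hv)
  exact (Subgroup.mem_normalizer_iff.1 (pow_mem (le_normalizer_commutator_zpowers h.hsQ) i) e).1 he

/-- The dichotomy for an irreducible subspace. -/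
theorem dichotomy {U : Submodule K W} (hU : Irred ρ (Q ⊔ Subgroup.zpowers s) U) :
    ∃ hUQ : Inv ρ Q U, s ∈ Subgroup.normalizer (centOn ρ Q U hUQ : Set Y) ∧
      ((U ≤ moved ρ ⁅Q, Subgroup.zpowers s⁆ ∧ (fix ρ s ⊓ U ≠ ⊥) ∧
        ∀ f : Module.End K W, f * ρ s = ρ s * f → (∀ V : Submodule K W, Inv ρ Q V → ∀ v ∈ V, f v ∈ V) →
          (∀ u ∈ moved ρ ⁅Q, Subgroup.zpowers s⁆, ρ s u = u → f u = u) → ∀ v ∈ U, f v = v) ∨
       ∃ μ : Chi K (centOn ρ Q U hUQ), U ≤ comp ρ _ μ ∧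
         ∀ (a b : centOn ρ Q U hUQ), (b : Y) = s * (a : Y) * s⁻¹ → μ b = μ a) := by
  have hUQ : Inv ρ Q U := hU.2.1.mono le_sup_left
  have hUs : ∀ v ∈ U, ρ s v ∈ U := hU.2.1 s (Subgroup.mem_sup_right (Subgroup.mem_zpowers s))
  refine ⟨hUQ, normalizer_centOn hUQ h.hsQ hUs, ?_⟩
  set Z := centOn ρ Q U hUQ
  have hsZ : s ∈ Subgroup.normalizer (Z : Set Y) := normalizer_centOn hUQ h.hsQ hUs
  obtain ⟨U₀, hU₀le, hU₀⟩ := exists_irred hUQ hU.1
  obtain ⟨μ, hμ⟩ := exists_chi hU₀ (A := Z) fun a ha =>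
    ⟨fun v hv => hU₀.2.1 a (centOn_le hUQ ha) v hv,
      fun f hf v hv => (mem_centOn.1 ha).2 f hf v (hU₀le hv)⟩
  set x : Subgroup.normalizer (Z : Set Y) := ⟨s, hsZ⟩ with hx
  by_cases hfix : x • μ = μ
  · right
    refine ⟨μ, ?_, fun a b hab => ?_⟩
    · have hinv : Inv ρ (Q ⊔ Subgroup.zpowers s) (U ⊓ comp ρ Z μ) := by
        refine inv_sup (fun e he v hv => ⟨hUQ e he v hv.1, fun a => ?_⟩) (inv_zpowers fun v hv => ⟨?_, ?_⟩)
        · rw [(mem_centOn.1 a.2).2 e he v hv.1, hv.2 a, map_smul]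
        · exact hUs v hv.1
        · have := rho_mem_comp ρ Z x hv.2
          rwa [hfix] at this
      have hne' : U ⊓ comp ρ Z μ ≠ ⊥ := fun e => hU₀.1 (eq_bot_iff.2 fun v hv => by
        have : v ∈ U ⊓ comp ρ Z μ := ⟨hU₀le hv, hμ hv⟩
        rwa [e] at this)
      exact inf_eq_left.1 ((hU.2.2 _ inf_le_left hinv).resolve_left hne')
    · conv_lhs => rw [← hfix]
      rw [smul_chi_apply]
      congr 1
      refine Subtype.ext ?_
      rw [CfsgLib.Coprime.coe_conjAct]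
      simp [hx, hab, mul_assoc]
  left
  obtain ⟨hmov, hfree⟩ := h.moved_component (centOn_le hUQ) hsZ hfix hU₀.2.1 hμ
  set S : Submodule K W := ⨆ a : ℕ, U₀.map (ρ (s ^ a)) with hS
  have hmemS : ∀ (a : ℕ) (u : W), u ∈ U₀ → ρ (s ^ a) u ∈ S := fun a u hu =>
    Submodule.mem_iSup_of_mem a (show ρ (s ^ a) u ∈ U₀.map (ρ (s ^ a)) from ⟨u, hu, rfl⟩)
  have hSU : S ≤ U := iSup_le fun a => by
    rintro _ ⟨w, hw, rfl⟩
    exact hU.2.1 _ (Subgroup.mem_sup_right (Subgroup.pow_mem _ (Subgroup.mem_zpowers s) a)) w (hU₀le hw)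
  have hS0 : S ≠ ⊥ := fun e => hU₀.1 (eq_bot_iff.2 fun w hw => by
    rw [← e]; simpa using hmemS 0 w hw)
  have hSi : Inv ρ (Q ⊔ Subgroup.zpowers s) S := by
    refine inv_sup (fun e he w hw => ?_) (inv_zpowers fun w hw => ?_) <;>
      refine Submodule.iSup_induction (fun a : ℕ => U₀.map (ρ (s ^ a))) (motive := fun z => ρ _ z ∈ S) hw
        ?_ (by simp) (fun a b ha hb => by rw [map_add]; exact S.add_mem ha hb)
    · rintro a _ ⟨u, hu, rfl⟩
      have he' : (s ^ a)⁻¹ * e * s ^ a ∈ Q := by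
        have := (Subgroup.mem_normalizer_iff.1 (inv_mem (pow_mem h.hsQ a)) e).1 he
        rwa [inv_inv] at this
      rw [← rho_mul, show e * s ^ a = s ^ a * ((s ^ a)⁻¹ * e * s ^ a) by group, rho_mul]
      exact hmemS a _ (hU₀.2.1 _ he' u hu)
    · rintro a _ ⟨u, hu, rfl⟩
      rw [← rho_mul, ← pow_succ']
      exact hmemS (a + 1) u hu
  have hUS := (hU.2.2 S hSU hSi).resolve_left hS0
  refine ⟨?_, ?_, fun f hf hfV hffix v hv => ?_⟩
  · rw [← hUS]
    refine iSup_le fun a => ?_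
    rintro _ ⟨w, hw, rfl⟩
    exact moved_invariant (fun e he => (Subgroup.mem_normalizer_iff.1
      (pow_mem (le_normalizer_commutator_zpowers h.hsQ) a) e).1 he) (hmov hw)
  · obtain ⟨w, hw, hw0⟩ := Submodule.exists_mem_ne_zero_of_ne_bot hU₀.1
    have hxr : x ^ r = 1 := Subtype.ext (by simp [hx, h.hsr])
    intro e
    have h1 : ∑ i ∈ Finset.range r, ρ ((x : Y) ^ i) w ∈ fix ρ s ⊓ U :=
      ⟨orbitSum_fixed hxr w, U.sum_mem fun i _ => hSU (hmemS i w hw)⟩
    rw [e, Submodule.mem_bot] at h1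
    have h2 := proj_orbitSum h.hr hxr hfix (hμ hw)
    rw [h1, map_zero] at h2
    exact hw0 ((smul_eq_zero.1 h2.symm).resolve_left (h.card_Q_ne_zero (centOn_le hUQ)))
  · rw [← hUS] at hv
    refine Submodule.iSup_induction (fun a : ℕ => U₀.map (ρ (s ^ a))) (motive := fun z => f z = z) hv
      ?_ (map_zero _) (fun a b ha hb => by rw [map_add, ha, hb])
    rintro a _ ⟨u, hu, rfl⟩
    rw [← Module.End.mul_apply, map_pow, ((show Commute f (ρ s) from hf).pow_right a).eq, Module.End.mul_apply,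
      hfree f hf (hfV U₀ hU₀.2.1) hffix u hu]

end QData

end CfsgLib.FitTuran
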