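import Cfsg.Agent.Lib.FitTuran.Tower

/-!
The step and skip lemmas on the levels of a minimal tower.
-/

set_option autoImplicit false
set_option linter.style.haveILetI false
set_option linter.unusedSectionVars false

open scoped commutatorElement

namespace CfsgLib.FitTuran

open CfsgLib.BG.FixedLine CfsgLib.FitLen

universe u

variable {X : Type u} [Group X] [Finite X]

theorem subgroupOf_commutator {M A B : Subgroup X} (hA : A ≤ M) (hB : B ≤ M) :
    ⁅A.subgroupOf M, B.subgroupOf M⁆ = (⁅A, B⁆ : Subgroup X).subgroupOf M := by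
  apply Subgroup.map_injective M.subtype_injective
  rw [commutator_subgroupOf_map hA hB,
    Subgroup.map_subgroupOf_eq_of_le ((Subgroup.commutator_mono hA hB).trans (Subgroup.commutator_le_self M))]

theorem commutator_mem_of_inv {Kn : Subgroup X} {a b : X} (h : ⁅a, b⁆ ∈ Kn) : ⁅b, a⁆ ∈ Kn := by
  rw [← commutatorElement_inv]
  exact Kn.inv_mem h

instance secV_finiteDimensional (q : ℕ) [Fact q.Prime] (N Kn : Subgroup X) :
    FiniteDimensional (AlgebraicClosure (ZMod q)) (Dual q (secV N Kn)) := finiteDimensional_dual q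

namespace Tower

variable {G : Subgroup X} {s : X} {r h : ℕ} {P : ℕ → Subgroup X} {p : ℕ → ℕ}

theorem ker_le_act (_t : Tower G s h P p) {i : ℕ} (hi : i + 1 < h) :
    ker P h i ≤ act (P (i + 1)) (ker P h (i + 1)) := by
  rw [ker_eq P hi]; exact inf_le_right

theorem mem_frattini_map_commutator (t : Tower G s h P p) {i : ℕ} (hi : i < h) {u v : X}
    (hu : u ∈ P i) (hv : v ∈ P i) : ⁅u, v⁆ ∈ (frattini (P i)).map (P i).subtype := by
  haveI := Fact.mk (t.hp i hi)
  exact ⟨⁅(⟨u, hu⟩ : P i), ⟨v, hv⟩⁆, (CfsgLib.PSolvable.commutator_le_frattini (t.hP i hi)).1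
    (Subgroup.commutator_mem_commutator (Subgroup.mem_top _) (Subgroup.mem_top _)), rfl⟩

theorem mem_frattini_map_pow (t : Tower G s h P p) {i : ℕ} (hi : i < h) {u : X}
    (hu : u ∈ P i) : u ^ p i ∈ (frattini (P i)).map (P i).subtype := by
  haveI := Fact.mk (t.hp i hi)
  exact ⟨(⟨u, hu⟩ : P i) ^ p i, (CfsgLib.PSolvable.commutator_le_frattini (t.hP i hi)).2 _, rfl⟩

variable (t : Tower G s h P p) (hmin : Minimal G s h P p) (c : Ctx G s r)

include t c

theorem ne_bot {i : ℕ} (hi : i < h) : P i ≠ ⊥ := fun e => t.not_le_ker i hi (by rw [e]; exact bot_le)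

theorem r_ne {i : ℕ} (hi : i < h) : r ≠ p i :=
  c.ne_of_dvd (t.hp i hi) (t.hG i hi) (t.ne_bot c hi) (t.hP i hi)

theorem orderOf_coprime {i j : ℕ} (hi : i < h) (hj : j < h) (hne : p i ≠ p j) {x : X} (hx : x ∈ P i) :
    (orderOf x).Coprime (p j) := by
  haveI := Fact.mk (t.hp i hi)
  obtain ⟨k, hk⟩ := (IsPGroup.iff_orderOf.1 (t.hP i hi)) (⟨x, hx⟩ : P i)
  rw [Subgroup.orderOf_mk] at hk
  rw [hk]
  exact ((Nat.coprime_primes (t.hp i hi) (t.hp j hj)).2 hne).pow_left k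

include hmin

/-- The data of the module of the level above. -/
theorem qData {j : ℕ} (hj : j + 1 < h) [Fact (p (j + 1)).Prime] :
    QData (secRep (P (j + 1)) (ker P h (j + 1)) (p (j + 1)))
      ((P j).subgroupOf (amb (P (j + 1)) (ker P h (j + 1)))) ⟨s, t.s_mem_amb hj⟩ r (p j) := by
  have hj' : j < h := by omega
  have hsec := t.secData hj
  have hK := t.ker_le_act hj
  refine
    { hr := c.hr
      hq := t.hp j hj'
      hrq := t.r_ne c hj'
      hr0 := natCast_ne_zero_dual (p (j + 1)) fun hd =>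
        t.r_ne c hj ((Nat.prime_dvd_prime_iff_eq (t.hp _ hj) c.hr).1 hd).symm
      hq0 := natCast_ne_zero_dual (p (j + 1)) fun hd =>
        t.hne j hj ((Nat.prime_dvd_prime_iff_eq (t.hp _ hj) (t.hp _ hj')).1 hd).symm
      hQ := (t.hP j hj').comap_of_injective _ (Subgroup.subtype_injective _)
      hsr := Subtype.ext (by simpa using c.hsr)
      hsQ := mem_normalizer_of_conj fun u hu => Subgroup.mem_subgroupOf.2 (by
        simpa using (Subgroup.mem_normalizer_iff.1 (t.hs j hj') (u : X)).1 (Subgroup.mem_subgroupOf.1 hu))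
      hcen := fun u hu v hv w hw => secRep_of_act hsec (hK (t.frattini_central hmin hj' ?_))
      hpow := fun u hu w hw => secRep_of_act hsec (hK (t.frattini_central hmin hj' ?_)) }
  · exact Subgroup.commutator_mem_commutator (t.mem_frattini_map_commutator hj'
      (Subgroup.mem_subgroupOf.1 hu) (Subgroup.mem_subgroupOf.1 hv)) (Subgroup.mem_subgroupOf.1 hw)
  · exact Subgroup.commutator_mem_commutator (t.mem_frattini_map_pow hj' (Subgroup.mem_subgroupOf.1 hu))
      (Subgroup.mem_subgroupOf.1 hw)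

/-- The data of the acting level. -/
theorem pData {i : ℕ} (hi : i + 2 < h) [Fact (p (i + 2)).Prime] :
    PData (secRep (P (i + 2)) (ker P h (i + 2)) (p (i + 2)))
      ((P i).subgroupOf (amb (P (i + 2)) (ker P h (i + 2))))
      ((P (i + 1)).subgroupOf (amb (P (i + 2)) (ker P h (i + 2)))) ⟨s, t.s_mem_amb hi⟩ r (p (i + 1)) (p i) := by
  have hi0 : i < h := by omega
  have hsec := t.secData hi
  have hK := t.ker_le_act (i := i + 1) hi
  refine
    { hℓ := t.hp i hi0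
      hℓq := t.hne i (by omega)
      hrℓ := t.r_ne c hi0
      hP := (t.hP i hi0).comap_of_injective _ (Subgroup.subtype_injective _)
      hsP := mem_normalizer_of_conj fun u hu => Subgroup.mem_subgroupOf.2 (by
        simpa using (Subgroup.mem_normalizer_iff.1 (t.hs i hi0) (u : X)).1 (Subgroup.mem_subgroupOf.1 hu))
      hPQ := fun a ha => mem_normalizer_of_conj fun u hu => Subgroup.mem_subgroupOf.2 (by
        simpa using (Subgroup.mem_normalizer_iff.1 (t.hnorm i (i + 1) (Nat.lt_succ_self i) (by omega)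
          (Subgroup.mem_subgroupOf.1 ha)) (u : X)).1 (Subgroup.mem_subgroupOf.1 hu))
      hcenP := fun u hu v hv a ha => secRep_of_act hsec (hK (t.frattini_comm hmin (by omega)
        (Subgroup.commutator_mem_commutator (t.mem_frattini_map_commutator (by omega)
          (Subgroup.mem_subgroupOf.1 hu) (Subgroup.mem_subgroupOf.1 hv)) (Subgroup.mem_subgroupOf.1 ha))))
      hP2 := fun a ha b hb d hd u hu => secRep_of_act hsec (hK ?_) }
  have h1 := t.frattini_central hmin hi0 (Subgroup.commutator_mem_commutator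
    (t.mem_frattini_map_commutator hi0 (Subgroup.mem_subgroupOf.1 ha) (Subgroup.mem_subgroupOf.1 hb))
    (Subgroup.mem_subgroupOf.1 hd))
  exact commutator_mem_of_inv ((t.mem_ker_iff (by omega) (t.ker_le hi0 h1)).1 h1 _ (Subgroup.mem_subgroupOf.1 hu))

omit hmin in
/-- Elements centralizing the moved fixed points fix the moved fixed functionals. -/
theorem fix_moved {j : ℕ} (hj : j + 1 < h) [Fact (p (j + 1)).Prime] {x : amb (P (j + 1)) (ker P h (j + 1))}
    (hxP : (x : X) ∈ P j) (hxs : (x : X) * s = s * x)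
    (hx : ∀ d ∈ ⁅P (j + 1), ⁅P j, Subgroup.zpowers s⁆⁆, d * s = s * d → ⁅d, (x : X)⁆ ∈ ker P h (j + 1)) :
    ∀ f ∈ moved (secRep (P (j + 1)) (ker P h (j + 1)) (p (j + 1)))
        ⁅(P j).subgroupOf (amb (P (j + 1)) (ker P h (j + 1))),
          Subgroup.zpowers (⟨s, t.s_mem_amb hj⟩ : amb (P (j + 1)) (ker P h (j + 1)))⁆,
      secRep (P (j + 1)) (ker P h (j + 1)) (p (j + 1)) ⟨s, t.s_mem_amb hj⟩ f = f →
        secRep (P (j + 1)) (ker P h (j + 1)) (p (j + 1)) x f = f := by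
  intro f hfm hf
  have hj' : j < h := by omega
  have hPamb := t.le_amb (Nat.le_succ j) hj
  rw [zpowers_subgroupOf, subgroupOf_commutator hPamb (Subgroup.zpowers_le.2 (t.s_mem_amb hj))] at hfm
  have hAP : ⁅P j, Subgroup.zpowers s⁆ ≤ P j := commutator_zpowers_le (t.hs j hj')
  haveI := Fact.mk (t.hp j hj')
  refine (t.secData hj).rep_fix_moved c.hr (t.r_ne c hj) c.hsr (t.s_mem_amb hj) hxs (hAP.trans hPamb) ?_
    (le_normalizer_commutator_zpowers (t.hs j hj')) (left_le_normalizer_comm _ _ hxP) hx f hfm hf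
  obtain ⟨k, hk⟩ := IsPGroup.iff_card.1 ((t.hP j hj').to_le hAP)
  rw [hk]
  exact ((Nat.coprime_primes (t.hp j hj') (t.hp _ hj)).2 (t.hne j hj)).pow_left k

theorem step_full {i : ℕ} (hi : i + 2 < h) {u : X}
    (hu : u ∈ ⁅P (i + 1), ⁅P i, Subgroup.zpowers s⁆⁆) (hus : u * s = s * u) (huK : u ∉ ker P h (i + 1)) :
    ∃ x ∈ ⁅P (i + 1), ⁅P i, Subgroup.zpowers s⁆⁆, x * s = s * x ∧
      ∃ d ∈ ⁅P (i + 2), ⁅P (i + 1), Subgroup.zpowers s⁆⁆, d * s = s * d ∧ ⁅d, x⁆ ∉ ker P h (i + 2) := by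
  haveI := Fact.mk (t.hp _ hi)
  by_contra hno
  push Not at hno
  set Y := amb (P (i + 2)) (ker P h (i + 2)) with hY
  have hs : s ∈ Y := t.s_mem_amb hi
  have hP0 : P i ≤ Y := t.le_amb (by omega) hi
  have hP1 : P (i + 1) ≤ Y := t.le_amb (by omega) hi
  have hE : ⁅P i, Subgroup.zpowers s⁆ ≤ P i := commutator_zpowers_le (t.hs i (by omega))
  have hQ1P : ⁅P (i + 1), ⁅P i, Subgroup.zpowers s⁆⁆ ≤ P (i + 1) :=
    CfsgLib.Coprime.commutator_le_left_of_le_normalizer
      (hE.trans (t.hnorm i (i + 1) (Nat.lt_succ_self i) (by omega)))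
  have hQ1 : ⁅(P (i + 1)).subgroupOf Y, ⁅(P i).subgroupOf Y, Subgroup.zpowers (⟨s, hs⟩ : Y)⁆⁆ =
      (⁅P (i + 1), ⁅P i, Subgroup.zpowers s⁆⁆ : Subgroup X).subgroupOf Y := by
    rw [zpowers_subgroupOf, subgroupOf_commutator hP0 (Subgroup.zpowers_le.2 hs),
      subgroupOf_commutator hP1 (hE.trans hP0)]
  have key := (t.pData hmin c hi).eq_one_of_fix_moved (t.qData hmin c (j := i + 1) hi) _ (Or.inl rfl)
    (fun x hx => by
      have hx1 : (x : X) ∈ ⁅P (i + 1), ⁅P i, Subgroup.zpowers s⁆⁆ := Subgroup.mem_subgroupOf.1 (hQ1 ▸ hx.1)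
      have hx2 : (x : X) * s = s * x := congrArg Subtype.val hx.2
      exact t.fix_moved c (j := i + 1) hi (hQ1P hx1) hx2 (fun d hd hds => hno x hx1 hx2 d hd hds))
    ⟨u, hP1 (hQ1P hu)⟩ ⟨hQ1.symm ▸ Subgroup.mem_subgroupOf.2 hu, Subtype.ext hus⟩
  refine huK ((t.mem_ker_iff (i := i + 1) hi (hQ1P hu)).2 fun w hw => ?_)
  exact (mem_act_of_secRep (t.secData hi)
    (t.orderOf_coprime c (by omega) hi (t.hne (i + 1) hi) (hQ1P hu)) key).2 w hw

theorem step_comm {i l : ℕ} (hi : i + 2 < h) (hl : l ≤ i) (hli : i ≤ l + 1) {y u : X} (hy : y ∈ P l)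
    (hys : y * s = s * y) (hu : u ∈ ⁅P (i + 1), ⁅P i, Subgroup.zpowers s⁆⁆) (hus : u * s = s * u)
    (huK : ⁅y, u⁆ ∉ ker P h (i + 1)) :
    ∃ v ∈ ⁅P (i + 1), ⁅P i, Subgroup.zpowers s⁆⁆, v * s = s * v ∧
      ∃ d ∈ ⁅P (i + 2), ⁅P (i + 1), Subgroup.zpowers s⁆⁆, d * s = s * d ∧
        ⁅d, ⁅y, v⁆⁆ ∉ ker P h (i + 2) := by
  haveI := Fact.mk (t.hp _ hi)
  by_contra hno
  push Not at hno
  set Y := amb (P (i + 2)) (ker P h (i + 2)) with hY
  have hs : s ∈ Y := t.s_mem_amb hi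
  have hP0 : P i ≤ Y := t.le_amb (by omega) hi
  have hP1 : P (i + 1) ≤ Y := t.le_amb (by omega) hi
  have hyY : y ∈ Y := t.le_amb (by omega) hi hy
  have hyP0 : y ∈ Subgroup.normalizer (P i : Set X) := by
    rcases Nat.eq_or_lt_of_le hl with rfl | hlt
    · exact Subgroup.le_normalizer hy
    · exact t.hnorm l i hlt (by omega) hy
  have hyP1 : y ∈ Subgroup.normalizer (P (i + 1) : Set X) := t.hnorm l (i + 1) (by omega) (by omega) hy
  have hE : ⁅P i, Subgroup.zpowers s⁆ ≤ P i := commutator_zpowers_le (t.hs i (by omega))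
  have hQ1P : ⁅P (i + 1), ⁅P i, Subgroup.zpowers s⁆⁆ ≤ P (i + 1) :=
    CfsgLib.Coprime.commutator_le_left_of_le_normalizer
      (hE.trans (t.hnorm i (i + 1) (Nat.lt_succ_self i) (by omega)))
  have hQ1 : ⁅(P (i + 1)).subgroupOf Y, ⁅(P i).subgroupOf Y, Subgroup.zpowers (⟨s, hs⟩ : Y)⁆⁆ =
      (⁅P (i + 1), ⁅P i, Subgroup.zpowers s⁆⁆ : Subgroup X).subgroupOf Y := by
    rw [zpowers_subgroupOf, subgroupOf_commutator hP0 (Subgroup.zpowers_le.2 hs),
      subgroupOf_commutator hP1 (hE.trans hP0)]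
  have hcomm : ∀ v ∈ ⁅P (i + 1), ⁅P i, Subgroup.zpowers s⁆⁆, ⁅y, v⁆ ∈ P (i + 1) := fun v hv => by
    rw [commutatorElement_def]
    exact mul_mem ((Subgroup.mem_normalizer_iff.1 hyP1 v).1 (hQ1P hv)) (inv_mem (hQ1P hv))
  have key := (t.pData hmin c hi).eq_one_of_fix_moved (t.qData hmin c (j := i + 1) hi) _
    (Or.inr ⟨⟨y, hyY⟩, orderOf y, Subtype.ext hys, mem_normalizer_of_conj (fun z hz => Subgroup.mem_subgroupOf.2
      (by simpa using (Subgroup.mem_normalizer_iff.1 hyP0 (z : X)).1 (Subgroup.mem_subgroupOf.1 hz))),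
      mem_normalizer_of_conj (fun z hz => Subgroup.mem_subgroupOf.2
      (by simpa using (Subgroup.mem_normalizer_iff.1 hyP1 (z : X)).1 (Subgroup.mem_subgroupOf.1 hz))),
      Subtype.ext (by simpa using pow_orderOf_eq_one y), (fun hd => c.hr.ne_one
        (Nat.eq_one_of_dvd_coprimes c.hcop dvd_rfl
          (hd.trans (Subgroup.orderOf_dvd_natCard G (t.hG l (by omega) hy))))), ?_, rfl⟩)
    (fun x hx => by
      obtain ⟨v, hv, hvs, rfl⟩ := hx
      have hv1 : (v : X) ∈ ⁅P (i + 1), ⁅P i, Subgroup.zpowers s⁆⁆ := Subgroup.mem_subgroupOf.1 (hQ1 ▸ hv)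
      have hv2 : (v : X) * s = s * v := congrArg Subtype.val hvs
      refine t.fix_moved c (j := i + 1) hi (hcomm _ hv1) ?_ (fun d hd hds => hno v hv1 hv2 d hd hds)
      have h1 : Commute y s := hys
      have h2 : Commute (v : X) s := hv2
      show ⁅y, (v : X)⁆ * s = s * ⁅y, (v : X)⁆
      rw [commutatorElement_def]
      exact (((h1.mul_left h2).mul_left h1.inv_left).mul_left h2.inv_left).eq)
    ⁅(⟨y, hyY⟩ : Y), ⟨u, hP1 (hQ1P hu)⟩⁆
    ⟨⟨u, hP1 (hQ1P hu)⟩, hQ1.symm ▸ Subgroup.mem_subgroupOf.2 hu, Subtype.ext hus, rfl⟩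
  · refine huK ((t.mem_ker_iff (i := i + 1) hi (hcomm u hu)).2 fun w hw => ?_)
    exact (mem_act_of_secRep (x := ⁅(⟨y, hyY⟩ : Y), ⟨u, hP1 (hQ1P hu)⟩⁆) (t.secData hi)
      (t.orderOf_coprime c (by omega) hi (t.hne (i + 1) hi) (hcomm u hu)) key).2 w hw
  · rcases Nat.eq_or_lt_of_le hl with rfl | hlt
    · exact Or.inr (Subgroup.mem_subgroupOf.2 hy)
    · left
      refine t.orderOf_coprime c (by omega) (by omega) ?_ hy
      rw [show i = l + 1 by omega]
      exact t.hne l (by omega)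

/-- With no fixed points two levels above, a moved level is centralized. -/
theorem exists_fixed_zero (hh : 2 < h) (hmove : P 0 ≤ ⁅P 0, Subgroup.zpowers s⁆)
    (hQ : ∀ u ∈ P 1, ∃ e ∈ ⁅P 1, Subgroup.zpowers s⁆, e⁻¹ * u ∈ ker P h 1) :
    ∃ d ∈ P 2, d * s = s * d ∧ d ∉ ker P h 2 := by
  haveI := Fact.mk (t.hp _ hh)
  by_contra hno
  push Not at hno
  have hP0 : P 0 ≤ amb (P 2) (ker P h 2) := t.le_amb (by omega) hh
  have hP1 : P 1 ≤ amb (P 2) (ker P h 2) := t.le_amb (by omega) hh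
  have hs := t.s_mem_amb hh
  have hfix := (t.secData hh).fix_eq_bot c.hr (t.r_ne c hh) c.hsr hs hno
  have hE : ⁅P 0, Subgroup.zpowers s⁆ = P 0 := le_antisymm (commutator_zpowers_le (t.hs 0 (by omega))) hmove
  have hQ1 : ⁅(P 1).subgroupOf (amb (P 2) (ker P h 2)),
      ⁅(P 0).subgroupOf (amb (P 2) (ker P h 2)),
        Subgroup.zpowers (⟨s, hs⟩ : amb (P 2) (ker P h 2))⁆⁆ = (P 1).subgroupOf (amb (P 2) (ker P h 2)) := by
    rw [zpowers_subgroupOf, subgroupOf_commutator hP0 (Subgroup.zpowers_le.2 hs), hE,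
      subgroupOf_commutator hP1 hP0, t.hcomm 0 (by omega)]
  refine t.not_le_ker 1 (by omega) fun u hu => (t.mem_ker_iff (i := 1) hh hu).2 fun w hw => ?_
  refine (mem_act_of_secRep (x := (⟨u, hP1 hu⟩ : amb (P 2) (ker P h 2))) (t.secData hh)
    (t.orderOf_coprime c (by omega) hh (t.hne 1 hh) hu) ?_).2 w hw
  refine (t.pData hmin c (i := 0) hh).eq_one_of_fix_eq_bot (t.qData hmin c (j := 1) hh) hfix (fun v hv => ?_)
    hQ1.ge ⟨u, hP1 hu⟩ (Subgroup.mem_subgroupOf.2 hu)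
  obtain ⟨e, he, hev⟩ := hQ v (Subgroup.mem_subgroupOf.1 hv)
  have heP : e ∈ P 1 := commutator_zpowers_le (t.hs 1 (by omega)) he
  refine ⟨⟨e, hP1 heP⟩, ?_, ?_⟩
  · rw [zpowers_subgroupOf, subgroupOf_commutator hP1 (Subgroup.zpowers_le.2 hs)]
    exact Subgroup.mem_subgroupOf.2 he
  · have h1 := secRep_of_act (x := (⟨e, hP1 heP⟩⁻¹ * v : amb (P 2) (ker P h 2))) (t.secData hh)
      (t.ker_le_act (i := 1) hh hev)
    calc secRep (P 2) (ker P h 2) (p 2) v =
        secRep (P 2) (ker P h 2) (p 2) (⟨e, hP1 heP⟩ * (⟨e, hP1 heP⟩⁻¹ * v)) := by rw [mul_inv_cancel_left]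
      _ = _ := by rw [map_mul, h1, mul_one]

/-- The skip at a moved level. -/
theorem skip {k : ℕ} (hk : k + 2 < h) (hlow : ∀ j, j < k + 1 → ∀ a ∈ P j, a * s = s * a)
    (hmove : P (k + 1) ≤ ⁅P (k + 1), Subgroup.zpowers s⁆)
    (hfix : ∀ y ∈ P k, ∀ d ∈ P (k + 2), d * s = s * d → ⁅d, y⁆ ∈ ker P h (k + 2))
    (A : Subgroup X) (hA : (∀ d ∈ P (k + 2), d * s = s * d → d ∈ ker P h (k + 2)) ∨
      ∃ l, l + 1 = k ∧ A = P l) :
    ∃ z ∈ P (k + 1), z * s = s * z ∧ ∃ a ∈ A, ∃ d ∈ P (k + 2), d * s = s * d ∧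
      ⁅a, z⁆ ∈ P (k + 1) ∧ ⁅a, z⁆ * s = s * ⁅a, z⁆ ∧ ⁅d, ⁅a, z⁆⁆ ∉ ker P h (k + 2) := by
  haveI := Fact.mk (t.hp _ hk)
  by_contra hno
  push Not at hno
  set Y := amb (P (k + 2)) (ker P h (k + 2)) with hY
  have hs : s ∈ Y := t.s_mem_amb hk
  have hPk : P k ≤ Y := t.le_amb (by omega) hk
  have hP1 : P (k + 1) ≤ Y := t.le_amb (by omega) hk
  have hsec := t.secData hk
  have hr2 := t.r_ne c hk
  have hQs : (P (k + 1)).subgroupOf Y ≤ ⁅(P (k + 1)).subgroupOf Y, Subgroup.zpowers (⟨s, hs⟩ : Y)⁆ := by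
    rw [zpowers_subgroupOf, subgroupOf_commutator hP1 (Subgroup.zpowers_le.2 hs)]
    exact Subgroup.comap_mono hmove
  have hconj : ∀ {A B : Subgroup X} {g : Y}, (g : X) ∈ Subgroup.normalizer (B : Set X) →
      g ∈ Subgroup.normalizer (B.subgroupOf Y : Set Y) := fun {A B g} hg =>
    mem_normalizer_of_conj fun z hz => Subgroup.mem_subgroupOf.2 (by
      simpa using (Subgroup.mem_normalizer_iff.1 hg (z : X)).1 (Subgroup.mem_subgroupOf.1 hz))
  have hRQ : (P k).subgroupOf Y ≤ Subgroup.normalizer ((P (k + 1)).subgroupOf Y : Set Y) := fun g hg =>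
    hconj (A := ⊥) (t.hnorm k (k + 1) (Nat.lt_succ_self k) (by omega) (Subgroup.mem_subgroupOf.1 hg))
  haveI := Fact.mk (t.hp k (by omega))
  haveI := Fact.mk (t.hp (k + 1) (by omega))
  have hcardR : Nat.card ((P k).subgroupOf Y) = Nat.card (P k) :=
    Nat.card_congr (Subgroup.subgroupOfEquivOfLe hPk).toEquiv
  have hres := (t.qData hmin c (j := k + 1) hk).commute_or_exists hQs
    (R := (P k).subgroupOf Y) (A := A.subgroupOf Y)
    (fun y hy => Subtype.ext (hlow k (Nat.lt_succ_self k) _ (Subgroup.mem_subgroupOf.1 hy))) hRQ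
    (by rw [hcardR]; exact (c.hcop.coprime_dvd_right (Subgroup.card_dvd_of_le (t.hG k (by omega)))).symm)
    (IsPGroup.coprime_card_of_ne (p k) (p (k + 1)) (t.hne k (by omega)) _ _
      ((t.hP k (by omega)).comap_of_injective _ (Subgroup.subtype_injective _))
      ((t.hP (k + 1) (by omega)).comap_of_injective _ (Subgroup.subtype_injective _)))
    (fun u hu v hv y hy => secRep_of_act hsec (t.ker_le_act hk (t.frattini_comm hmin (by omega)
      (Subgroup.commutator_mem_commutator (t.mem_frattini_map_commutator (by omega)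
        (Subgroup.mem_subgroupOf.1 hu) (Subgroup.mem_subgroupOf.1 hv)) (Subgroup.mem_subgroupOf.1 hy)))))
    (fun y hy f hf => hsec.rep_fix c.hr hr2 c.hsr hs
      (hlow k (Nat.lt_succ_self k) _ (Subgroup.mem_subgroupOf.1 hy)) (hfix y (Subgroup.mem_subgroupOf.1 hy)) f hf)
    (by
      rcases hA with hbot | ⟨l, hl, rfl⟩
      · exact Or.inl (hsec.fix_eq_bot c.hr hr2 c.hsr hs hbot)
      · refine Or.inr ⟨fun a ha => Subtype.ext (hlow l (by omega) _ (Subgroup.mem_subgroupOf.1 ha)),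
          fun g hg => hconj (A := ⊥) (t.hnorm l (k + 1) (by omega) (by omega) (Subgroup.mem_subgroupOf.1 hg)),
          fun g hg => hconj (A := ⊥) (t.hnorm l k (by omega) (by omega) (Subgroup.mem_subgroupOf.1 hg)), ?_⟩
        rw [subgroupOf_commutator hPk (t.le_amb (by omega) hk)]
        subst hl
        rw [t.hcomm l (by omega)])
  rcases hres with hall | ⟨z, hz, hzs, a, ha, f, hf, hne⟩
  · refine t.not_le_ker (k + 1) (by omega) fun u hu => (t.mem_ker_iff (i := k + 1) hk hu).2 fun w hw => ?_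
    refine (mem_act_of_secRep (x := (⟨u, hP1 hu⟩ : Y)) hsec
      (t.orderOf_coprime c (by omega) hk (t.hne (k + 1) hk) hu) (hall _ ?_)).2 w hw
    rw [subgroupOf_commutator hP1 hPk, t.hcomm k (by omega)]
    exact Subgroup.mem_subgroupOf.2 hu
  · refine hne ?_
    have hzP : (z : X) ∈ P (k + 1) :=
      Subgroup.mem_subgroupOf.1 ((Subgroup.commutator_le_self _) hz)
    rcases hA with hbot | ⟨l, hl, rfl⟩
    · have hb := hsec.fix_eq_bot c.hr hr2 c.hsr hs hbot
      have : f ∈ fix (secRep (P (k + 2)) (ker P h (k + 2)) (p (k + 2))) ⟨s, hs⟩ := hf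
      rw [hb, Submodule.mem_bot] at this
      rw [this, map_zero]
    have haP : (a : X) ∈ P l := Subgroup.mem_subgroupOf.1 ha
    have h1 : Commute (a : X) s := hlow l (by omega) _ haP
    have h2 : Commute (z : X) s := congrArg Subtype.val hzs
    have hazs : ⁅(a : X), (z : X)⁆ * s = s * ⁅(a : X), (z : X)⁆ := by
      rw [commutatorElement_def]
      exact (((h1.mul_left h2).mul_left h1.inv_left).mul_left h2.inv_left).eq
    have hazP : ⁅(a : X), (z : X)⁆ ∈ P (k + 1) := by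
      rw [commutatorElement_def]
      exact mul_mem ((Subgroup.mem_normalizer_iff.1 (t.hnorm l (k + 1) (by omega) (by omega) haP) _).1 hzP)
        (inv_mem hzP)
    exact hsec.rep_fix c.hr hr2 c.hsr hs (x := ⁅a, z⁆) hazs
      (fun d hd hds => hno z hzP h2 a haP d hd hds hazP hazs) f hf

end Tower

end CfsgLib.FitTuran
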