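import Cfsg.Agent.Lib.FitTuran.Levels

/-!
The Fitting length of the fixed points of a coprime operator of prime order.
-/

set_option autoImplicit false
set_option linter.style.haveILetI false
set_option linter.unusedSectionVars false

open scoped commutatorElement

namespace CfsgLib.FitTuran

open CfsgLib.BG.FixedLine CfsgLib.FitLen

universe u

variable {X : Type u} [Group X] [Finite X]

theorem normalizer_iterResid {H : Subgroup X} {g : X} (hg : g ∈ Subgroup.normalizer (H : Set X)) (t : ℕ) :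
    g ∈ Subgroup.normalizer (iterResid t H : Set X) := by
  refine mem_normalizer_of_conj fun u hu => ?_
  have e : H.map (MulAut.conj g).toMonoidHom = H :=
    CfsgLib.Coprime.conj_smul_eq_self_of_mem_normalizer hg
  have h1 : g * u * g⁻¹ ∈ (iterResid t H).map (MulAut.conj g).toMonoidHom := ⟨u, hu, rfl⟩
  rwa [iterResid_map, e] at h1

/-- A subgroup reproduced by commutators inside a term lies in the next one. -/
theorem le_iterResid_succ {H W Z : Subgroup X} {t : ℕ} (hW : W ≤ iterResid t H) (hZ : Z ≤ iterResid t H)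
    (hWZ : ⁅W, Z⁆ = W) : W ≤ iterResid (t + 1) H := by
  rw [iterResid_succ]
  refine le_iInf fun k => ?_
  induction k with
  | zero => simpa using hW
  | succ k ih =>
    rw [Subgroup.lowerCentralSeries_succ]
    exact hWZ.symm.le.trans (Subgroup.commutator_mono ih hZ)

namespace Tower

variable {G : Subgroup X} {s : X} {r h : ℕ} {P : ℕ → Subgroup X} {p : ℕ → ℕ}
variable (t : Tower G s h P p) (hmin : Minimal G s h P p) (c : Ctx G s r)

omit [Finite X] in
theorem commute_commutator {a b : X} (ha : a * s = s * a) (hb : b * s = s * b) :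
    ⁅a, b⁆ * s = s * ⁅a, b⁆ := by
  have h1 : Commute a s := ha
  have h2 : Commute b s := hb
  rw [commutatorElement_def]
  exact (((h1.mul_left h2).mul_left h1.inv_left).mul_left h2.inv_left).eq

include t c

/-- Commutators of a fixed element with the fixed points of a level descend in the residual series. -/
theorem commutator_mem_iterResid {C : Subgroup X} (hC : C = G ⊓ Subgroup.centralizer ({s} : Set X))
    {j l τ : ℕ} (hlj : l ≤ j) (hj : j < h) (hne : p l ≠ p j) {x u : X} (hx : x ∈ P l)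
    (hxs : x * s = s * x) (hxL : x ∈ iterResid τ C) (hu : u ∈ P j) (hus : u * s = s * u) :
    ⁅x, u⁆ ∈ iterResid (τ + 1) C := by
  set W := P j ⊓ Subgroup.centralizer ({s} : Set X) with hW
  set Z := Subgroup.zpowers x with hZ
  have hl : l < h := by omega
  have hxN : x ∈ Subgroup.normalizer (P j : Set X) := by
    rcases Nat.eq_or_lt_of_le hlj with rfl | hlt
    · exact absurd rfl hne
    · exact t.hnorm l j hlt hj hx
  have hWC : W ≤ C := hC ▸ inf_le_inf_right _ (t.hG j hj)
  have hxW : Z ≤ Subgroup.normalizer (W : Set X) := Subgroup.zpowers_le.2 (mem_normalizer_of_conj fun w hw =>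
    ⟨(Subgroup.mem_normalizer_iff.1 hxN w).1 hw.1, Subgroup.mem_centralizer_singleton_iff.2 (by
      have h1 : Commute x s := hxs
      have h2 : Commute w s := Subgroup.mem_centralizer_singleton_iff.1 hw.2
      exact ((h1.mul_left h2).mul_left h1.inv_left).eq)⟩)
  have hcop : (Nat.card Z).Coprime (Nat.card W) := by
    haveI := Fact.mk (t.hp j hj)
    obtain ⟨k, hk⟩ := IsPGroup.iff_card.1 ((t.hP j hj).to_le (inf_le_left : W ≤ P j))
    rw [hk, Nat.card_zpowers]
    exact (t.orderOf_coprime c hl hj hne hx).pow_right k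
  have hidem : ⁅⁅W, Z⁆, Z⁆ = ⁅W, Z⁆ := CfsgLib.Coprime.commutator_commutator_eq hxW hcop
    (Or.inl (CfsgLib.Coprime.isSolvable_of_isMulCommutative _))
  have hZL : Z ≤ iterResid τ C := Subgroup.zpowers_le.2 hxL
  have hWL : ⁅W, Z⁆ ≤ iterResid τ C := Subgroup.commutator_le.2 fun w hw z hz => by
    rw [commutatorElement_def]
    exact mul_mem ((Subgroup.mem_normalizer_iff.1
      (normalizer_iterResid (Subgroup.le_normalizer (hWC hw)) τ) z).1 (hZL hz)) (inv_mem (hZL hz))
  refine le_iterResid_succ hWL hZL hidem ?_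
  rw [Subgroup.commutator_comm]
  exact Subgroup.commutator_mem_commutator (Subgroup.mem_zpowers x)
    ⟨hu, Subgroup.mem_centralizer_singleton_iff.2 hus⟩

/-- The fixed levels descend in the residual series. -/
theorem le_iterResid {C : Subgroup X} (hC : C = G ⊓ Subgroup.centralizer ({s} : Set X)) :
    ∀ i, i < h → (∀ j, j ≤ i → ∀ a ∈ P j, a * s = s * a) → P i ≤ iterResid i C := by
  intro i
  induction i with
  | zero =>
    intro hi hlow a ha
    rw [iterResid_zero, hC]
    exact ⟨t.hG 0 hi ha, Subgroup.mem_centralizer_singleton_iff.2 (hlow 0 le_rfl a ha)⟩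
  | succ i ih =>
    intro hi hlow
    have h1 := ih (by omega) fun j hj => hlow j (by omega)
    refine le_iterResid_succ ?_ h1 (t.hcomm i hi)
    rw [← t.hcomm i hi]
    refine Subgroup.commutator_le.2 fun u hu a ha => ?_
    have huC : u ∈ C := hC ▸ ⟨t.hG (i + 1) hi hu,
      Subgroup.mem_centralizer_singleton_iff.2 (hlow (i + 1) le_rfl u hu)⟩
    rw [commutatorElement_def]
    exact mul_mem ((Subgroup.mem_normalizer_iff.1
      (normalizer_iterResid (Subgroup.le_normalizer huC) i) a).1 (h1 ha)) (inv_mem (h1 ha))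

include hmin

/-- A fixed element of a residual term, detected one level above, reaches the top. -/
theorem climb {C : Subgroup X} (hC : C = G ⊓ Subgroup.centralizer ({s} : Set X)) :
    ∀ d j τ, j + d + 2 = h → j ≤ τ + 2 → ∀ x ∈ P j, x * s = s * x → x ∈ iterResid τ C →
      (∃ u ∈ ⁅P (j + 1), ⁅P j, Subgroup.zpowers s⁆⁆, u * s = s * u ∧ ⁅u, x⁆ ∉ ker P h (j + 1)) →
        iterResid (h - 3) C ≠ ⊥ := by
  intro d
  induction d with
  | zero =>
    rintro j τ hj hτ x hx hxs hxL ⟨u, hu, hus, huK⟩ hbot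
    have huP : u ∈ P (j + 1) := CfsgLib.Coprime.commutator_le_left_of_le_normalizer
      ((commutator_zpowers_le (t.hs j (by omega))).trans (t.hnorm j (j + 1) (Nat.lt_succ_self j) (by omega))) hu
    have h1 := t.commutator_mem_iterResid c hC (Nat.le_succ j) (by omega) (t.hne j (by omega)) hx hxs hxL huP hus
    have h2 : ⁅x, u⁆ ∈ iterResid (h - 3) C :=
      iterResid_antitone C (show h - 3 ≤ τ + 1 by omega) h1
    rw [hbot, Subgroup.mem_bot] at h2
    exact huK (commutator_mem_of_inv (by rw [h2]; exact one_mem _))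
  | succ d ih =>
    rintro j τ hj hτ x hx hxs hxL ⟨u, hu, hus, huK⟩
    obtain ⟨v, hv, hvs, e, he, hes, heK⟩ := t.step_comm hmin c (i := j) (l := j) (by omega) le_rfl
      (Nat.le_succ j) hx hxs hu hus (fun hk => huK (commutator_mem_of_inv hk))
    have hvP : v ∈ P (j + 1) := CfsgLib.Coprime.commutator_le_left_of_le_normalizer
      ((commutator_zpowers_le (t.hs j (by omega))).trans (t.hnorm j (j + 1) (Nat.lt_succ_self j) (by omega))) hv
    refine ih (j + 1) (τ + 1) (by omega) (by omega) ⁅x, v⁆ ?_ (commute_commutator hxs hvs)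
      (t.commutator_mem_iterResid c hC (Nat.le_succ j) (by omega) (t.hne j (by omega)) hx hxs hxL hvP hvs)
      ⟨e, he, hes, heK⟩
    rw [commutatorElement_def]
    exact mul_mem ((Subgroup.mem_normalizer_iff.1 (t.hnorm j (j + 1) (Nat.lt_succ_self j) (by omega) hx) v).1 hvP)
      (inv_mem hvP)

/-- Fixed points detected two levels above the moved bottom. -/
theorem climb_two {C : Subgroup X} (hC : C = G ⊓ Subgroup.centralizer ({s} : Set X)) (hh : 3 ≤ h)
    {d : X} (hd : d ∈ P 2) (hds : d * s = s * d) (hdK : d ∉ ker P h 2)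
    (hgen : ∀ u ∈ P 2, ∃ e ∈ ⁅P 2, ⁅P 1, Subgroup.zpowers s⁆⁆, e⁻¹ * u ∈ ker P h 2) :
    iterResid (h - 3) C ≠ ⊥ := by
  rcases Nat.eq_or_lt_of_le hh with rfl | hlt
  · intro hbot
    rw [iterResid_zero, Subgroup.eq_bot_iff_forall] at hbot
    refine hdK (by rw [hbot d (hC ▸ ⟨t.hG 2 (by omega) hd, Subgroup.mem_centralizer_singleton_iff.2 hds⟩)]; exact one_mem _)
  set B := ⁅P 2, ⁅P 1, Subgroup.zpowers s⁆⁆ with hB
  have hE : ⁅P 1, Subgroup.zpowers s⁆ ≤ P 1 := commutator_zpowers_le (t.hs 1 (by omega))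
  have hBP : B ≤ P 2 :=
    CfsgLib.Coprime.commutator_le_left_of_le_normalizer (hE.trans (t.hnorm 1 2 (by omega) (by omega)))
  have hsB : s ∈ Subgroup.normalizer (B : Set X) :=
    CfsgLib.Coprime.le_normalizer_commutator (A := Subgroup.zpowers s)
      (Subgroup.zpowers_le.2 (t.hs 2 (by omega)))
      (Subgroup.zpowers_le.2 (le_normalizer_commutator_zpowers (t.hs 1 (by omega)))) (Subgroup.mem_zpowers s)
  obtain ⟨e, he, hed⟩ := hgen d hd
  have hmem : d ∈ (ker P h 2 ⊔ B) ⊓ Subgroup.centralizer (Subgroup.zpowers s : Set X) := by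
    refine ⟨?_, CfsgLib.Coprime.mem_centralizer_singleton_zpowers (Subgroup.mem_centralizer_singleton_iff.2 hds)⟩
    rw [show d = e * (e⁻¹ * d) by group]
    exact mul_mem (Subgroup.mem_sup_right he) (Subgroup.mem_sup_left hed)
  have hsup := CfsgLib.Coprime.inf_centralizer_le_sup (Subgroup.zpowers_le.2 (t.ker_props 2 (by omega)).2.1)
    (Subgroup.zpowers_le.2 hsB) (hBP.trans ((t.ker_props 2 (by omega)).2.2 2 le_rfl))
    (c.coprime ((t.ker_le (by omega)).trans (t.hG 2 (by omega))))
    (Or.inl (CfsgLib.Coprime.isSolvable_of_isMulCommutative _)) hmem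
  obtain ⟨u, hu, hus, huK⟩ : ∃ u ∈ B, u * s = s * u ∧ u ∉ ker P h 2 := by
    by_contra hno
    push Not at hno
    have hle : ker P h 2 ⊓ Subgroup.centralizer (Subgroup.zpowers s : Set X) ⊔
        B ⊓ Subgroup.centralizer (Subgroup.zpowers s : Set X) ≤ ker P h 2 :=
      sup_le inf_le_left fun u hu => hno u hu.1 (hu.2 s (Subgroup.mem_zpowers s)).symm
    exact hdK (hle hsup)
  obtain ⟨x, hx, hxs, e', he', hes', heK⟩ := t.step_full hmin c (i := 1) hlt hu hus huK
  exact t.climb hmin c hC (h - 4) 2 0 (by omega) le_rfl x (hBP hx) hxs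
    (by rw [iterResid_zero, hC]; exact ⟨t.hG 2 (by omega) (hBP hx), Subgroup.mem_centralizer_singleton_iff.2 hxs⟩)
    ⟨e', he', hes', heK⟩

/-- The fixed points of a minimal tower. -/
theorem iterResid_ne_bot {C : Subgroup X} (hC : C = G ⊓ Subgroup.centralizer ({s} : Set X)) (hh : 3 ≤ h) :
    iterResid (h - 3) C ≠ ⊥ := by
  classical
  by_cases hall : ∀ i, i ≤ h - 3 → ∀ a ∈ P i, a * s = s * a
  · intro hbot
    have h1 := t.le_iterResid c hC (h - 3) (by omega) hall
    rw [hbot] at h1
    exact t.not_le_ker (h - 3) (by omega) (h1.trans bot_le)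
  push Not at hall
  have hex : ∃ k, ∃ a ∈ P k, a * s ≠ s * a := by
    obtain ⟨i, -, a, ha, hne⟩ := hall
    exact ⟨i, a, ha, hne⟩
  obtain ⟨i, hi, a, ha, hne⟩ := hall
  have hk : Nat.find hex ≤ h - 3 := (Nat.find_min' hex ⟨a, ha, hne⟩).trans hi
  have hlow : ∀ j, j < Nat.find hex → ∀ a ∈ P j, a * s = s * a := fun j hj a ha => by
    by_contra hh'
    exact Nat.find_min hex hj ⟨a, ha, hh'⟩
  have hmove := t.le_commutator hmin (k := Nat.find hex) (by omega) hlow (Nat.find_spec hex) c
  generalize Nat.find hex = k at hk hlow hmove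
  match k, hk, hlow, hmove with
  | 0, _, _, hmove =>
    have hE : ⁅P 0, Subgroup.zpowers s⁆ = P 0 := le_antisymm (commutator_zpowers_le (t.hs 0 (by omega))) hmove
    by_cases h1 : ∃ u ∈ P 1, u * s = s * u ∧ u ∉ ker P h 1
    · obtain ⟨u, hu, hus, huK⟩ := h1
      obtain ⟨x, hx, hxs, e, he, hes, heK⟩ := t.step_full hmin c (i := 0) (by omega)
        (u := u) (by rw [hE, t.hcomm 0 (by omega)]; exact hu) hus huK
      rw [hE, t.hcomm 0 (by omega)] at hx
      exact t.climb hmin c hC (h - 3) 1 0 (by omega) (by omega) x hx hxs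
        (by rw [iterResid_zero, hC]; exact ⟨t.hG 1 (by omega) hx, Subgroup.mem_centralizer_singleton_iff.2 hxs⟩)
        ⟨e, he, hes, heK⟩
    push Not at h1
    have hsP : Subgroup.zpowers s ≤ Subgroup.normalizer (P 1 : Set X) := Subgroup.zpowers_le.2 (t.hs 1 (by omega))
    have hdec := CfsgLib.Coprime.commutator_sup_centralizer (K := P 1) hsP (c.coprime (t.hG 1 (by omega)))
      (Or.inl (CfsgLib.Coprime.isSolvable_of_isMulCommutative _))
    have hEP : ⁅P 1, Subgroup.zpowers s⁆ ≤ P 1 := commutator_zpowers_le (t.hs 1 (by omega))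
    have hQ : ∀ u ∈ P 1, ∃ e ∈ ⁅P 1, Subgroup.zpowers s⁆, e⁻¹ * u ∈ ker P h 1 := by
      intro u hu
      have h2 : u ∈ ⁅P 1, Subgroup.zpowers s⁆ ⊔ ker P h 1 :=
        (hdec.ge.trans (sup_le le_sup_left fun w hw => Subgroup.mem_sup_right
          (h1 w hw.1 (hw.2 s (Subgroup.mem_zpowers s)).symm))) hu
      rw [← SetLike.mem_coe, Subgroup.coe_mul_of_left_le_normalizer_right _ _
        (hEP.trans ((t.ker_props 1 (by omega)).2.2 1 le_rfl))] at h2
      obtain ⟨e, he, w, hw, hew⟩ := Set.mem_mul.1 h2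
      exact ⟨e, he, by rw [← hew, inv_mul_cancel_left]; exact hw⟩
    obtain ⟨d, hd, hds, hdK⟩ := t.exists_fixed_zero hmin c (by omega) hmove hQ
    refine t.climb_two hmin c hC hh hd hds hdK fun u hu => ?_
    set B := ⁅P 2, ⁅P 1, Subgroup.zpowers s⁆⁆ with hB
    have hP1K := (t.ker_props 2 (by omega)).2.2 1 (by omega)
    have hP2K := (t.ker_props 2 (by omega)).2.2 2 le_rfl
    have hBP : B ≤ P 2 :=
      CfsgLib.Coprime.commutator_le_left_of_le_normalizer (hEP.trans (t.hnorm 1 2 (by omega) (by omega)))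
    have h2 : u ∈ B ⊔ ker P h 2 := by
      rw [← t.hcomm 1 (by omega)] at hu
      refine (Subgroup.commutator_le.2 fun w hw a ha => ?_) hu
      obtain ⟨e, he, hea⟩ := hQ a ha
      have h3 : ⁅w, e⁻¹ * a⁆ ∈ ker P h 2 :=
        (t.mem_ker_iff (i := 1) (by omega) (mul_mem (inv_mem (hEP he)) ha)).1 hea w hw
      have h4 : e * ⁅w, e⁻¹ * a⁆ * e⁻¹ ∈ ker P h 2 :=
        (Subgroup.mem_normalizer_iff.1 (hP1K (hEP he)) _).1 h3
      have h5 := mul_mem (Subgroup.mem_sup_left (T := ker P h 2) (Subgroup.commutator_mem_commutator hw he))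
        (Subgroup.mem_sup_right (S := B) h4)
      convert h5 using 1
      simp only [commutatorElement_def]
      group
    rw [← SetLike.mem_coe, Subgroup.coe_mul_of_left_le_normalizer_right _ _ (hBP.trans hP2K)] at h2
    obtain ⟨e, he, w, hw, hew⟩ := Set.mem_mul.1 h2
    exact ⟨e, he, by rw [← hew, inv_mul_cancel_left]; exact hw⟩
  | 1, _, hlow, hmove =>
    have hd : ∃ d ∈ P 2, d * s = s * d ∧ d ∉ ker P h 2 := by
      by_contra hno
      push Not at hno
      obtain ⟨z, -, -, a, ha, d, -, -, -, -, hdK⟩ := t.skip hmin c (k := 0) (by omega) hlow hmove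
        (fun y hy d hd hds => by
          rw [commutatorElement_def]
          have hK := hno d hd hds
          have h1 := (Subgroup.mem_normalizer_iff.1
            ((t.ker_props 2 (by omega)).2.2 0 (Nat.zero_le 2) hy) d⁻¹).1 (inv_mem hK)
          have h2 := mul_mem hK h1
          simpa [mul_assoc] using h2)
        ⊥ (Or.inl hno)
      rw [Subgroup.mem_bot] at ha
      subst ha
      simp at hdK
    obtain ⟨d, hd, hds, hdK⟩ := hd
    refine t.climb_two hmin c hC hh hd hds hdK fun u hu => ⟨u, ?_, by rw [inv_mul_cancel]; exact one_mem _⟩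
    rw [show ⁅P 1, Subgroup.zpowers s⁆ = P 1 from
      le_antisymm (commutator_zpowers_le (t.hs 1 (by omega))) hmove, t.hcomm 1 (by omega)]
    exact hu
  | k + 2, hk, hlow, hmove =>
    have hE : ⁅P (k + 2), Subgroup.zpowers s⁆ = P (k + 2) :=
      le_antisymm (commutator_zpowers_le (t.hs _ (by omega))) hmove
    have hQ1 : ⁅P (k + 3), ⁅P (k + 2), Subgroup.zpowers s⁆⁆ = P (k + 3) := by
      rw [hE]; exact t.hcomm (k + 2) (by omega)
    have hL : ∀ j, j < k + 2 → P j ≤ iterResid j C := fun j hj =>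
      t.le_iterResid c hC j (by omega) fun i hi => hlow i (by omega)
    by_cases h1 : ∃ y ∈ P (k + 1), ∃ d ∈ P (k + 3), d * s = s * d ∧ ⁅d, y⁆ ∉ ker P h (k + 3)
    · obtain ⟨y, hy, d, hd, hds, hdK⟩ := h1
      have hys := hlow (k + 1) (by omega) y hy
      obtain ⟨v, hv, hvs, e, he, hes, heK⟩ := t.step_comm hmin c (i := k + 2) (l := k + 1) (by omega)
        (by omega) le_rfl hy hys (hQ1.symm ▸ hd) hds (fun hh' => hdK (commutator_mem_of_inv hh'))
      rw [hQ1] at hv
      have hyv : ⁅y, v⁆ ∈ P (k + 3) := by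
        rw [commutatorElement_def]
        exact mul_mem ((Subgroup.mem_normalizer_iff.1 (t.hnorm (k + 1) (k + 3) (by omega) (by omega) hy) v).1 hv)
          (inv_mem hv)
      refine t.climb hmin c hC (h - (k + 5)) (k + 3) (k + 1) (by omega) le_rfl ⁅y, v⁆ hyv
        (commute_commutator hys hvs) ?_ ⟨e, he, hes, heK⟩
      have hvC : v ∈ C := hC ▸ ⟨t.hG (k + 3) (by omega) hv, Subgroup.mem_centralizer_singleton_iff.2 hvs⟩
      have hy' := hL (k + 1) (by omega) hy
      rw [commutatorElement_def, mul_assoc, mul_assoc]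
      exact mul_mem hy' (by
        rw [← mul_assoc]
        exact (Subgroup.mem_normalizer_iff.1 (normalizer_iterResid (Subgroup.le_normalizer hvC) _) _).1
          (inv_mem hy'))
    push Not at h1
    obtain ⟨z, hz, hzs, a, ha, d, hd, hds, hazP, hazs, hdK⟩ := t.skip hmin c (k := k + 1) (by omega) hlow hmove
      h1 (P k) (Or.inr ⟨k, rfl, rfl⟩)
    obtain ⟨v, hv, hvs, e, he, hes, heK⟩ := t.step_comm hmin c (i := k + 2) (l := k + 2) (by omega)
      le_rfl (Nat.le_succ _) hazP hazs (hQ1.symm ▸ hd) hds (fun hh' => hdK (commutator_mem_of_inv hh'))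
    rw [hQ1] at hv
    have hxP : ⁅⁅a, z⁆, v⁆ ∈ P (k + 3) := by
      rw [commutatorElement_def]
      exact mul_mem ((Subgroup.mem_normalizer_iff.1
        (t.hnorm (k + 2) (k + 3) (by omega) (by omega) hazP) v).1 hv) (inv_mem hv)
    have hzC : z ∈ C := hC ▸ ⟨t.hG (k + 2) (by omega) hz, Subgroup.mem_centralizer_singleton_iff.2 hzs⟩
    have hazL : ⁅a, z⁆ ∈ iterResid k C := by
      have ha' := hL k (by omega) ha
      rw [commutatorElement_def, mul_assoc, mul_assoc]
      exact mul_mem ha' (by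
        rw [← mul_assoc]
        exact (Subgroup.mem_normalizer_iff.1 (normalizer_iterResid (Subgroup.le_normalizer hzC) _) _).1
          (inv_mem ha'))
    exact t.climb hmin c hC (h - (k + 5)) (k + 3) (k + 1) (by omega) le_rfl _ hxP
      (commute_commutator hazs hvs)
      (t.commutator_mem_iterResid c hC (Nat.le_succ (k + 2)) (by omega) (t.hne (k + 2) (by omega)) hazP hazs
        hazL hv hvs) ⟨e, he, hes, heK⟩

end Tower

/-- The Fitting length grows by at most two over the fixed points. -/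
theorem iterResid_fixed_ne_bot {G : Subgroup X} {s : X} {r : ℕ} (c : Ctx G s r) (n : ℕ)
    (hne : iterResid (n + 2) G ≠ ⊥) :
    iterResid n (G ⊓ Subgroup.centralizer ({s} : Set X)) ≠ ⊥ := by
  obtain ⟨P, p, t, -⟩ := exists_tower (n + 2) G s r c hne
  obtain ⟨P', t', hmin⟩ := t.exists_minimal
  exact t'.iterResid_ne_bot hmin c rfl (show 3 ≤ n + 2 + 1 by omega)

end CfsgLib.FitTuran
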