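import Mathlib

/-!
Orbit representatives of a permutation and the fixed vectors of a monomial operator.
-/

set_option autoImplicit false
set_option linter.style.haveILetI false
set_option linter.unusedSectionVars false

namespace CfsgLib.FitTuran

variable {ι : Type*}

/-- Representatives of an invariant set on which every point has period `m`. -/
theorem exists_reps [DecidableEq ι] (π : Equiv.Perm ι) {m : ℕ} (hm : 0 < m) :
    ∀ (S : Finset ι), (∀ i ∈ S, π i ∈ S) → (∀ i ∈ S, (π ^ m) i = i) →
      (∀ i ∈ S, ∀ j, 0 < j → j < m → (π ^ j) i ≠ i) →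
      ∃ R ⊆ S, m * R.card = S.card ∧ (∀ i ∈ S, ∃ a ∈ R, ∃ j < m, (π ^ j) a = i) ∧
        ∀ a ∈ R, ∀ b ∈ R, ∀ j, (π ^ j) a = b → a = b := by
  intro S
  induction S using Finset.strongInduction with
  | _ S IH =>
  intro hS hper hfree
  rcases S.eq_empty_or_nonempty with rfl | ⟨i, hi⟩
  · exact ⟨∅, Finset.Subset.refl _, by simp, by simp, by simp⟩
  have hpow : ∀ (S : Finset ι), (∀ i ∈ S, π i ∈ S) → ∀ j, ∀ a ∈ S, (π ^ j) a ∈ S := by
    intro S hS j
    induction j with
    | zero => intro a ha; simpa using ha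
    | succ j ih => intro a ha; rw [pow_succ', Equiv.Perm.mul_apply]; exact hS _ (ih a ha)
  set O := (Finset.range m).image (fun j => (π ^ j) i) with hO
  have hmod : ∀ j, (π ^ j) i = (π ^ (j % m)) i := by
    intro j
    conv_lhs => rw [← Nat.mod_add_div j m, pow_add, Equiv.Perm.mul_apply]
    congr 1
    rw [pow_mul]
    exact Equiv.Perm.pow_apply_eq_self_of_apply_eq_self (hper i hi) _
  have hOmem : ∀ j, (π ^ j) i ∈ O := fun j => by
    rw [hmod]; exact Finset.mem_image.2 ⟨_, Finset.mem_range.2 (Nat.mod_lt _ hm), rfl⟩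
  have hOS : O ⊆ S := by
    intro a ha
    obtain ⟨j, -, rfl⟩ := Finset.mem_image.1 ha
    exact hpow S hS j i hi
  have hinj : Set.InjOn (fun j => (π ^ j) i) (Finset.range m) := by
    intro a ha b hb e
    simp only [Finset.coe_range, Set.mem_Iio] at ha hb
    have key : ∀ a b : ℕ, a < b → b < m → (π ^ a) i ≠ (π ^ b) i := by
      intro a b hab hb e
      refine hfree i hi (b - a) (by omega) (by omega) ?_
      apply (π ^ a).injective
      rw [← Equiv.Perm.mul_apply, ← pow_add, Nat.add_sub_cancel' hab.le]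
      exact e.symm
    rcases lt_trichotomy a b with h | h | h
    · exact absurd e (key a b h hb)
    · exact h
    · exact absurd e.symm (key b a h ha)
  have hOcard : O.card = m := by rw [hO, Finset.card_image_of_injOn hinj, Finset.card_range]
  have hrest : ∀ a ∈ S \ O, π a ∈ S \ O := by
    intro a ha
    rw [Finset.mem_sdiff] at ha ⊢
    refine ⟨hS a ha.1, fun h => ha.2 ?_⟩
    obtain ⟨j, -, hj⟩ := Finset.mem_image.1 h
    have : a = (π ^ (j + (m - 1))) i := by
      rw [add_comm, pow_add, Equiv.Perm.mul_apply, hj, ← Equiv.Perm.mul_apply, ← pow_succ,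
        Nat.sub_add_cancel hm, hper a ha.1]
    rw [this]; exact hOmem _
  obtain ⟨R, hRS, hRc, hRcov, hRind⟩ := IH (S \ O)
    (Finset.ssubset_iff_subset_ne.2 ⟨Finset.sdiff_subset, fun e =>
      (Finset.mem_sdiff.1 (e.symm ▸ hi : i ∈ S \ O)).2 (by simpa using hOmem 0)⟩)
    hrest (fun a ha => hper a (Finset.mem_sdiff.1 ha).1) (fun a ha => hfree a (Finset.mem_sdiff.1 ha).1)
  have hiR : i ∉ R := fun h => (Finset.mem_sdiff.1 (hRS h)).2 (by simpa using hOmem 0)
  refine ⟨insert i R, ?_, ?_, ?_, ?_⟩
  · exact Finset.insert_subset hi (hRS.trans Finset.sdiff_subset)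
  · rw [Finset.card_insert_of_notMem hiR, mul_add, hRc, mul_one, Finset.card_sdiff_of_subset hOS,
      hOcard]
    have := Finset.card_le_card hOS
    omega
  · intro a ha
    by_cases haO : a ∈ O
    · obtain ⟨j, hj, rfl⟩ := Finset.mem_image.1 haO
      exact ⟨i, Finset.mem_insert_self _ _, j, Finset.mem_range.1 hj, rfl⟩
    · obtain ⟨b, hb, j, hj, e⟩ := hRcov a (Finset.mem_sdiff.2 ⟨ha, haO⟩)
      exact ⟨b, Finset.mem_insert_of_mem hb, j, hj, e⟩
  · intro a ha b hb j e
    rcases Finset.mem_insert.1 ha with ha' | ha' <;> rcases Finset.mem_insert.1 hb with hb' | hb'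
    · rw [ha', hb']
    · subst ha'
      exact absurd (e ▸ hOmem j) (Finset.mem_sdiff.1 (hRS hb')).2
    · subst hb'
      exact absurd (e ▸ hpow (S \ O) hrest j a (hRS ha')) fun h =>
        (Finset.mem_sdiff.1 h).2 (by simpa using hOmem 0)
    · exact hRind a ha' b hb' j e

variable [Fintype ι] {K V : Type*} [Field K] [AddCommGroup V] [Module K V] (b : Module.Basis ι K V)
variable (Φ : V →ₗ[K] V) (π : Equiv.Perm ι) (c : ι → K)

/-- Fixed vectors of a monomial operator are determined on orbit representatives. -/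
theorem finrank_fixed_le (hc : ∀ i, c i ≠ 0) (hΦ : ∀ i, Φ (b i) = c i • b (π i)) (R : Finset ι)
    (hR : ∀ i, ∃ a ∈ R, ∃ j : ℕ, (π ^ j) a = i) :
    Module.finrank K (LinearMap.eqLocus Φ LinearMap.id) ≤ R.card := by
  classical
  have key : ∀ f ∈ LinearMap.eqLocus Φ LinearMap.id, ∀ i, b.repr f (π i) = c i * b.repr f i := by
    intro f hf i
    have hf' : Φ f = f := hf
    conv_lhs => rw [← hf', ← b.sum_repr f]
    simp only [map_sum, map_smul, hΦ, smul_smul, Finsupp.coe_finsetSum, Finsupp.coe_smul,
      Finset.sum_apply, Pi.smul_apply, Module.Basis.repr_self, smul_eq_mul]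
    rw [Finset.sum_eq_single i]
    · rw [Finsupp.single_eq_same, mul_one, mul_comm]
    · intro k _ hk
      rw [Finsupp.single_eq_of_ne (fun e => hk (π.injective e.symm)), mul_zero]
    · intro h; exact absurd (Finset.mem_univ _) h
  let L : LinearMap.eqLocus Φ LinearMap.id →ₗ[K] (R → K) :=
    { toFun := fun f a => b.repr (f : V) a
      map_add' := fun f g => funext fun a => by simp
      map_smul' := fun t f => funext fun a => by simp }
  have hL : Function.Injective L := by
    rw [injective_iff_map_eq_zero]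
    intro f hf
    have h0 : ∀ i, b.repr (f : V) i = 0 := by
      intro i
      obtain ⟨a, ha, j, rfl⟩ := hR i
      induction j with
      | zero => exact congrFun hf ⟨a, ha⟩
      | succ j ih => rw [pow_succ', Equiv.Perm.mul_apply, key _ f.2, ih, mul_zero]
    exact Subtype.ext (b.repr.injective (Finsupp.ext fun i => by simpa using h0 i))
  have := LinearMap.finrank_le_finrank_of_injective hL
  rwa [Module.finrank_fintype_fun_eq_card, Fintype.card_coe] at this

/-- Orbit sums of free orbits give independent fixed vectors. -/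
theorem card_le_finrank_fixed {m : ℕ} (hm : 0 < m) (hΦ : ∀ i, Φ (b i) = c i • b (π i))
    (hΦm : Φ ^ m = 1) (R : Finset ι) (i₀ : ι) (h0 : Φ (b i₀) = b i₀) (hπ0 : π i₀ = i₀)
    (hfree : ∀ a ∈ R, ∀ j, 0 < j → j < m → (π ^ j) a ≠ a) (h0R : i₀ ∉ R)
    (hind : ∀ a ∈ R, ∀ a' ∈ R, ∀ j, (π ^ j) a = a' → a = a') :
    R.card + 1 ≤ Module.finrank K (LinearMap.eqLocus Φ LinearMap.id) := by
  classical
  haveI : FiniteDimensional K V := b.finiteDimensional_of_finite
  have hpow : ∀ (j : ℕ) (a : ι), ∃ t : K, (Φ ^ j) (b a) = t • b ((π ^ j) a) := by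
    intro j a
    induction j with
    | zero => exact ⟨1, by simp⟩
    | succ j ih =>
      obtain ⟨t, ht⟩ := ih
      refine ⟨t * c ((π ^ j) a), ?_⟩
      rw [pow_succ', Module.End.mul_apply, ht, map_smul, hΦ, smul_smul, pow_succ',
        Equiv.Perm.mul_apply]
  let v : Option R → LinearMap.eqLocus Φ LinearMap.id := fun o => o.elim ⟨b i₀, h0⟩ fun a =>
    ⟨∑ j ∈ Finset.range m, (Φ ^ j) (b a), by
      show Φ _ = _
      rw [map_sum]
      simp only [← Module.End.mul_apply, ← pow_succ', LinearMap.id_coe, id_eq]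
      have h1 := Finset.sum_range_succ' (fun j => (Φ ^ j) (b (a : ι))) m
      have h2 := Finset.sum_range_succ (fun j => (Φ ^ j) (b (a : ι))) m
      simp only [pow_zero, hΦm] at h1 h2
      exact add_right_cancel (h1.symm.trans h2)⟩
  let rep : Option R → ι := fun o => o.elim i₀ (fun a => (a : ι))
  have hrep0 : ∀ j, (π ^ j) i₀ = i₀ := fun j => Equiv.Perm.pow_apply_eq_self_of_apply_eq_self hπ0 j
  have hcoef : ∀ o o', b.repr ((v o : V)) (rep o') = if o = o' then 1 else 0 := by
    have hsum : ∀ (a : R) (i : ι), (∀ j, 0 < j → j < m → (π ^ j) (a : ι) ≠ i) →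
        b.repr ((v (some a) : V)) i = if (a : ι) = i then 1 else 0 := by
      intro a i hne
      show b.repr (∑ j ∈ Finset.range m, (Φ ^ j) (b (a : ι))) i = _
      rw [map_sum, Finsupp.coe_finsetSum, Finset.sum_apply, Finset.sum_eq_single 0]
      · rw [pow_zero, Module.End.one_apply, Module.Basis.repr_self, Finsupp.single_apply]
      · intro j hj hj0
        obtain ⟨t, ht⟩ := hpow j a
        rw [ht, map_smul, Finsupp.smul_apply, Module.Basis.repr_self, Finsupp.single_eq_of_ne
          (hne j (Nat.pos_of_ne_zero hj0) (Finset.mem_range.1 hj)).symm, smul_zero]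
      · intro h; exact absurd (Finset.mem_range.2 hm) h
    rintro (_ | a) (_ | a')
    · simp [v, rep]
    · simp only [v, rep, Option.elim, Module.Basis.repr_self, reduceCtorEq, if_false]
      exact Finsupp.single_eq_of_ne fun e => h0R (e ▸ a'.2)
    · rw [hsum a _ fun j _ _ e => h0R (?_ : i₀ ∈ R)]
      · simp only [rep, Option.elim, reduceCtorEq, if_false]
        exact if_neg fun (e : (a : ι) = i₀) => h0R (e ▸ a.2)
      · have e' : (a : ι) = i₀ := (π ^ j).injective (e.trans (hrep0 j).symm)
        exact e' ▸ a.2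
    · rw [hsum a _ fun j hj hjm e => ?_]
      · simp only [rep, Option.elim, Option.some.injEq, Subtype.ext_iff]
        split_ifs <;> simp_all
      · have := hind a a.2 a' a'.2 j e
        rw [show ((rep (some a')) : ι) = a' from rfl, ← this] at e
        exact hfree a a.2 j hj hjm e
  have hli : LinearIndependent K v := by
    rw [Fintype.linearIndependent_iff]
    intro g hg o'
    have := congrArg (fun f : LinearMap.eqLocus Φ LinearMap.id => b.repr (f : V) (rep o')) hg
    simp only [Submodule.coe_sum, Submodule.coe_smul, map_sum, map_smul, Finsupp.coe_finsetSum,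
      Finset.sum_apply, Finsupp.smul_apply, hcoef, smul_eq_mul, mul_ite, mul_one, mul_zero,
      ZeroMemClass.coe_zero, map_zero, Finsupp.zero_apply, Finset.sum_ite_eq', Finset.mem_univ,
      if_true] at this
    exact this
  have := hli.fintype_card_le_finrank
  rwa [Fintype.card_option, Fintype.card_coe] at this

end CfsgLib.FitTuran
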