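import Cfsg.Agent.Lib.FitTuran.PSide

/-!
The lower bound for the points moved on a symplectic module of a class-two group.
-/

set_option autoImplicit false
set_option linter.style.haveILetI false
set_option linter.unusedSectionVars false

open scoped commutatorElement

namespace CfsgLib.FitTuran

open CfsgLib.BG.FixedLine CfsgLib.HallHigman

section Linear

variable {K W Y : Type*} [Field K] [IsAlgClosed K] [AddCommGroup W] [Module K W]
  [FiniteDimensional K W] [Group Y] [Finite Y] {ρ : Y →* Module.End K W}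

/-- With characters closed under inversion the rank doubles. -/
theorem rank_double {E : Subgroup Y} (hEn : E.Normal) {s : Y} {r ℓ : ℕ} (hr : r.Prime) (hr2 : r ≠ 2)
    (hr0 : (r : K) ≠ 0) (hsr : s ^ r = 1) (hℓ : ℓ.Prime) (hℓ2 : ℓ ≠ 2) (hE : IsPGroup ℓ E)
    (hℓ0 : (ℓ : K) ≠ 0) (hgen : E ≤ ⁅E, Subgroup.zpowers s⁆) (htop : E ⊔ Subgroup.zpowers s = ⊤)
    (hcl : ∀ a ∈ E, ∀ b ∈ E, ∀ c ∈ E, ρ ⁅⁅a, b⁆, c⁆ = 1) (hne : ∃ e ∈ E, ρ e ≠ 1)
    (hinv : ∀ (A : Subgroup Y), A ≤ E → ∀ μ : Chi K A, comp ρ A μ ≠ ⊥ → comp ρ A μ⁻¹ ≠ ⊥) :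
    2 * (r - 1) ≤ Module.finrank K (LinearMap.range (ρ s - 1)) := by
  classical
  haveI := Fact.mk hℓ
  have hE0 : (Nat.card E : K) ≠ 0 := natCast_ne_zero_of_isPGroup hE hℓ0
  set W₀ : Submodule K W := LinearMap.ker (avg ρ E) with hW₀
  have hW₀i : Inv ρ (⊤ : Subgroup Y) W₀ := by
    intro g _ v hv
    rw [hW₀, LinearMap.mem_ker] at hv ⊢
    rw [← Module.End.mul_apply, ← avg_commute ρ fun a ha => hEn.conj_mem a ha g, Module.End.mul_apply,
      hv, map_zero]
  have hW₀fix : ∀ v ∈ W₀, (∀ e ∈ E, ρ e v = v) → v = 0 := by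
    intro v hv hfix
    rw [hW₀, LinearMap.mem_ker, avg_of_fixed ρ hfix] at hv
    exact (smul_eq_zero.1 hv).resolve_left hE0
  have hW₀ne : W₀ ≠ ⊥ := by
    obtain ⟨e, he, hne⟩ := hne
    intro hbot
    refine hne (LinearMap.ext fun v => ?_)
    have h1 : ρ e v - v ∈ W₀ := by
      rw [hW₀, LinearMap.mem_ker, map_sub, ← Module.End.mul_apply, avg_mul ρ he, sub_self]
    rw [hbot, Submodule.mem_bot, sub_eq_zero] at h1
    exact h1
  have hnontriv : ∀ U ≤ W₀, U ≠ ⊥ → ∃ e ∈ E, ∃ v ∈ U, ρ e v ≠ v := by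
    intro U hle hU
    by_contra hh
    push Not at hh
    exact hU ((Submodule.eq_bot_iff _).2 fun v hv => hW₀fix v (hle hv) fun e he => hh e he v hv)
  obtain ⟨U, hUW, hU⟩ := exists_irred hW₀i hW₀ne
  have htwo : ∃ U', U' ≤ W₀ ∧ Irred ρ (⊤ : Subgroup Y) U' ∧ U' ≠ U := by
    by_contra hno
    push Not at hno
    have hUW' : W₀ ≤ U := by
      have htopne : (Nat.card (⊤ : Subgroup Y) : K) ≠ 0 := by
        have hdvd : Nat.card (⊤ : Subgroup Y) ∣ Nat.card E * orderOf s := by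
          have hn : Subgroup.zpowers s ≤ Subgroup.normalizer (E : Set Y) := by
            rw [Subgroup.normalizer_eq_top_iff.2 hEn]; exact le_top
          have h1 := CfsgLib.Coprime.card_sup_mul_card_inf hn
          rw [htop, Nat.card_zpowers] at h1
          exact Dvd.intro _ h1
        intro h0
        obtain ⟨t, ht⟩ := hdvd
        have h1 : ((Nat.card E * orderOf s : ℕ) : K) = 0 := by rw [ht, Nat.cast_mul, h0, zero_mul]
        rw [Nat.cast_mul, mul_eq_zero] at h1
        obtain ⟨u, hu⟩ := orderOf_dvd_of_pow_eq_one hsr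
        exact h1.elim hE0 fun e => hr0 (by rw [hu, Nat.cast_mul, e, zero_mul])
      obtain ⟨U', hU'i, hU'W, hsup, hinf⟩ := exists_compl htopne hW₀i hU.2.1 hUW
      by_cases hU'0 : U' = ⊥
      · rw [← hsup, hU'0, sup_bot_eq]
      · obtain ⟨U'', hle, hU''⟩ := exists_irred hU'i hU'0
        have e := hno U'' (hle.trans hU'W) hU''
        subst e
        exact absurd (eq_bot_iff.2 (hinf ▸ le_inf le_rfl hle)) hU.1
    have hUE : Inv ρ E U := hU.2.1.mono le_top
    set Z := centOn ρ E U hUE with hZdef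
    have hZE : Z ≤ E := centOn_le hUE
    have hZ0 : (Nat.card Z : K) ≠ 0 := natCast_ne_zero_of_isPGroup (hE.to_le hZE) hℓ0
    have hnorm : ∀ g : Y, g ∈ Subgroup.normalizer (Z : Set Y) := fun g =>
      normalizer_centOn hUE (by rw [Subgroup.normalizer_eq_top_iff.2 hEn]; exact Subgroup.mem_top g)
        (hU.2.1 g (Subgroup.mem_top g))
    obtain ⟨U₀, hU₀le, hU₀⟩ := exists_irred hUE hU.1
    obtain ⟨μ, hμ⟩ := exists_chi hU₀ (A := Z) fun a ha =>
      ⟨fun v hv => hU₀.2.1 a (hZE ha) v hv, fun f hf v hv => (mem_centOn.1 ha).2 f hf v (hU₀le hv)⟩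
    set x : Subgroup.normalizer (Z : Set Y) := ⟨s, hnorm s⟩ with hx
    have hxr : x ^ r = 1 := Subtype.ext (by simp [hx, hsr])
    have hμne : μ ≠ 1 := by
      intro h1
      subst h1
      have hinv' : Inv ρ (⊤ : Subgroup Y) (U ⊓ comp ρ Z (1 : Chi K Z)) := by
        rw [← htop]
        refine inv_sup (fun e he v hv => ⟨hUE e he v hv.1, fun a => ?_⟩) (inv_zpowers fun v hv => ⟨?_, ?_⟩)
        · rw [(mem_centOn.1 a.2).2 e he v hv.1, hv.2 a, map_smul]
        · exact hU.2.1 s (Subgroup.mem_top s) v hv.1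
        · have hv2 := rho_mem_comp ρ Z x hv.2
          have e1 : x • (1 : Chi K Z) = 1 := MonoidHom.ext fun a => rfl
          rwa [e1] at hv2
      have hne' : U ⊓ comp ρ Z (1 : Chi K Z) ≠ ⊥ := fun e => hU₀.1 (eq_bot_iff.2 fun v hv => by
        have : v ∈ U ⊓ comp ρ Z (1 : Chi K Z) := ⟨hU₀le hv, hμ hv⟩
        rwa [e] at this)
      have hUc : U ≤ comp ρ Z (1 : Chi K Z) := inf_eq_left.1 ((hU.2.2 _ inf_le_left hinv').resolve_left hne')
      have htrivZ : ∀ z ∈ Z, ∀ v ∈ U, ρ z v = v := fun z hz v hv => by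
        simpa using hUc hv ⟨z, hz⟩
      obtain ⟨e, he, v, hv, hev⟩ := hnontriv U hUW hU.1
      refine hev (htrivZ e ⟨he, fun f hf w hw => ?_⟩ v hv)
      have hz : ⁅e, f⁆ ∈ Z := by
        have hm : ⁅e, f⁆ ∈ E := by
          rw [commutatorElement_def]
          exact E.mul_mem (E.mul_mem (E.mul_mem he hf) (E.inv_mem he)) (E.inv_mem hf)
        refine ⟨hm, fun g hg w _ => ?_⟩
        have h1 := hcl e he f hf g hg
        rw [← rho_mul, ← rho_mul, show ⁅e, f⁆ * g = ⁅⁅e, f⁆, g⁆ * (g * ⁅e, f⁆) by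
          simp only [commutatorElement_def]; group, map_mul, h1, one_mul]
      rw [← rho_mul, ← rho_mul, show e * f = ⁅e, f⁆ * (f * e) by
        simp only [commutatorElement_def]; group, rho_mul, htrivZ _ hz]
      exact hUE _ (E.mul_mem hf he) w hw
    obtain ⟨v, hv, hv0⟩ := Submodule.exists_mem_ne_zero_of_ne_bot
      (hinv Z hZE μ fun e => hU₀.1 (eq_bot_iff.2 (hμ.trans e.le)))
    have hvW : v ∈ W₀ := by
      rw [hW₀, LinearMap.mem_ker]
      obtain ⟨z, hz⟩ : ∃ z : Z, μ⁻¹ z ≠ 1 := by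
        by_contra hh
        push Not at hh
        exact hμne (inv_eq_one.1 (MonoidHom.ext hh))
      by_contra h0
      have h1 := LinearMap.congr_fun (avg_mul ρ (hZE z.2)) v
      rw [Module.End.mul_apply, hv z, map_smul] at h1
      exact hz (Units.ext (smul_left_injective K h0
        (show ((μ⁻¹ z : Kˣ) : K) • avg ρ E v = (1 : K) • avg ρ E v by rw [one_smul]; exact h1)))
    by_cases horb : ∃ a : ℕ, x ^ a • μ = μ⁻¹
    · obtain ⟨a, ha⟩ := horb
      have hinvsmul : ∀ (g : Subgroup.normalizer (Z : Set Y)) (ν : Chi K Z), g • ν⁻¹ = (g • ν)⁻¹ :=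
        fun g ν => MonoidHom.ext fun z => rfl
      have h2a : x ^ (2 * a) • μ = μ := by
        rw [two_mul, pow_add, mul_smul, ha, hinvsmul, ha]
        exact MonoidHom.ext fun z => inv_inv (μ z)
      obtain ⟨t, ht⟩ := hr.odd_of_ne_two hr2
      have h3 : x ^ a • μ = μ := by
        have e : x ^ a = (x ^ (2 * a)) ^ (t + 1) := by
          rw [← pow_mul, show 2 * a * (t + 1) = a + r * a by rw [ht]; ring, pow_add, pow_mul, hxr,
            one_pow, mul_one]
        rw [e]
        exact MulAction.mem_stabilizer_iff.1 (pow_mem (MulAction.mem_stabilizer_iff.2 h2a) _)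
      rw [h3] at ha
      refine hμne (MonoidHom.ext fun z => ?_)
      have hsq : μ z ^ 2 = 1 := by
        have := DFunLike.congr_fun ha z
        rw [MonoidHom.inv_apply, eq_inv_iff_mul_eq_one] at this
        rw [sq]; exact this
      obtain ⟨k, hk⟩ := (hE.to_le hZE).exists_card_eq
      have hpow : μ z ^ ℓ ^ k = 1 := by rw [← map_pow, ← hk, pow_card_eq_one', map_one]
      have := pow_gcd_eq_one.2 ⟨hsq, hpow⟩
      rw [show Nat.gcd 2 (ℓ ^ k) = 1 from
        ((Nat.coprime_primes Nat.prime_two hℓ).2 (Ne.symm hℓ2)).pow_right k, pow_one] at this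
      exact this
    push Not at horb
    have hspan : U ≤ LinearMap.ker (proj ρ Z μ⁻¹) := by
      set S : Submodule K W := ⨆ a : ℕ, U₀.map (ρ (s ^ a)) with hS
      have hSU : S ≤ U := iSup_le fun a => by
        rintro _ ⟨w, hw, rfl⟩
        exact hU.2.1 _ (Subgroup.mem_top _) w (hU₀le hw)
      have hS0 : S ≠ ⊥ := fun e => hU₀.1 (eq_bot_iff.2 fun w hw => by
        rw [← e]
        exact Submodule.mem_iSup_of_mem 0 (show w ∈ U₀.map (ρ (s ^ 0)) from ⟨w, hw, by simp⟩))
      have hSi : Inv ρ (⊤ : Subgroup Y) S := by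
        rw [← htop]
        refine inv_sup (fun e he w hw => ?_) (inv_zpowers fun w hw => ?_) <;>
          refine Submodule.iSup_induction (fun a : ℕ => U₀.map (ρ (s ^ a))) (motive := fun z => ρ _ z ∈ S) hw
            ?_ (by simp) (fun a b ha hb => by rw [map_add]; exact S.add_mem ha hb)
        · rintro a _ ⟨u, hu, rfl⟩
          show _ ∈ ⨆ a : ℕ, U₀.map (ρ (s ^ a))
          refine Submodule.mem_iSup_of_mem a ⟨ρ ((s ^ a)⁻¹ * e * s ^ a) u, hU₀.2.1 _ ?_ u hu, ?_⟩
          · simpa using hEn.conj_mem e he (s ^ a)⁻¹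
          · rw [← rho_mul, ← rho_mul]; congr 2; group
        · rintro a _ ⟨u, hu, rfl⟩
          show _ ∈ ⨆ a : ℕ, U₀.map (ρ (s ^ a))
          refine Submodule.mem_iSup_of_mem (a + 1) ⟨u, hu, ?_⟩
          rw [pow_succ', rho_mul]
      rw [← (hU.2.2 S hSU hSi).resolve_left hS0]
      refine iSup_le fun a => ?_
      rintro _ ⟨w, hw, rfl⟩
      rw [LinearMap.mem_ker]
      refine proj_other ρ Z (Ne.symm (horb a)) ?_
      have := rho_mem_comp ρ Z (x ^ a) (hμ hw)
      rwa [Subgroup.coe_pow] at this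
    have h1 := hspan (hUW' hvW)
    rw [LinearMap.mem_ker, proj_self ρ Z hv] at h1
    exact hv0 ((smul_eq_zero.1 h1).resolve_left hZ0)
  obtain ⟨U', hU'W, hU', hne'⟩ := htwo
  have r1 := (rank_of_irred hEn hr hr0 hsr hℓ hE hℓ0 hgen htop hcl hU (hnontriv U hUW hU.1)).2 hℓ2
  have r2 := (rank_of_irred hEn hr hr0 hsr hℓ hE hℓ0 hgen htop hcl hU' (hnontriv U' hU'W hU'.1)).2 hℓ2
  have hmapU : ∀ V : Submodule K W, Inv ρ (⊤ : Subgroup Y) V → V.map (ρ s - 1) ≤ V := by
    rintro V hV _ ⟨w, hw, rfl⟩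
    exact V.sub_mem (hV s (Subgroup.mem_top s) w hw) hw
  have hdisj : U.map (ρ s - 1) ⊓ U'.map (ρ s - 1) = ⊥ := by
    refine eq_bot_iff.2 ((inf_le_inf (hmapU U hU.2.1) (hmapU U' hU'.2.1)).trans (le_of_eq ?_))
    have hi : Inv ρ (⊤ : Subgroup Y) (U ⊓ U') := fun g hg w hw => ⟨hU.2.1 g hg w hw.1, hU'.2.1 g hg w hw.2⟩
    rcases hU.2.2 _ inf_le_left hi with e | e
    · exact e
    · rcases hU'.2.2 _ inf_le_right hi with e' | e'
      · exact e'
      · exact absurd (e'.symm.trans e) hne'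
  have hsum := Submodule.finrank_sup_add_finrank_inf_eq (U.map (ρ s - 1)) (U'.map (ρ s - 1))
  rw [hdisj, finrank_bot, add_zero] at hsum
  have hle : U.map (ρ s - 1) ⊔ U'.map (ρ s - 1) ≤ LinearMap.range (ρ s - 1) :=
    sup_le LinearMap.map_le_range LinearMap.map_le_range
  have := Submodule.finrank_mono hle
  omega

end Linear

/-- The points moved on a symplectic module. -/
theorem pside_bound {X : Type*} [Group X] [Finite X] {q ℓ r : ℕ} [hq : Fact q.Prime] (hℓ : ℓ.Prime)
    (hr : r.Prime) (hℓq : ℓ ≠ q) (hrq : r ≠ q) {V E : Subgroup X} (hV : Cfsg.IsElementaryAbelian q V)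
    (hE : IsPGroup ℓ E) {s : X} (hsr : s ^ r = 1) (hEV : E ≤ Subgroup.normalizer (V : Set X))
    (hsV : s ∈ Subgroup.normalizer (V : Set X)) (hsE : s ∈ Subgroup.normalizer (E : Set X))
    (hgen : E ≤ ⁅E, Subgroup.zpowers s⁆)
    (hcl : ∀ a ∈ E, ∀ b ∈ E, ∀ c ∈ E, ⁅⁅a, b⁆, c⁆ ∈ Subgroup.centralizer (V : Set X))
    (hmoved : ¬ E ≤ Subgroup.centralizer (V : Set X))
    (Bp : V → (Additive V →+ ZMod q))
    (hker : ∀ v w : V, Bp v = Bp w → v = w)
    (halt : ∀ v w : V, Bp v (Additive.ofMul w) = -Bp w (Additive.ofMul v))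
    (hinv : ∀ e ∈ E, ∀ v w v' w' : V, (v' : X) = e * v * e⁻¹ → (w' : X) = e * w * e⁻¹ →
      Bp v' (Additive.ofMul w') = Bp v (Additive.ofMul w)) :
    (r - 1) ^ 2 < (V ⊓ Subgroup.centralizer ({s} : Set X)).relIndex V := by
  classical
  haveI := Fact.mk hℓ
  set H := E ⊔ Subgroup.zpowers s with hH
  have hHV : H ≤ Subgroup.normalizer (V : Set X) := sup_le hEV (Subgroup.zpowers_le.2 hsV)
  have hsH : s ∈ H := Subgroup.mem_sup_right (Subgroup.mem_zpowers s)
  have hHE : H ≤ Subgroup.normalizer (E : Set X) := sup_le Subgroup.le_normalizer (Subgroup.zpowers_le.2 hsE)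
  set EH := E.subgroupOf H with hEH
  have hEn : EH.Normal := ⟨fun e he g => Subgroup.mem_subgroupOf.2
    (((Subgroup.mem_normalizer_iff.1 (hHE g.2)) e).1 (Subgroup.mem_subgroupOf.1 he))⟩
  have hEHmap : EH.map H.subtype = E := Subgroup.map_subgroupOf_eq_of_le le_sup_left
  set sH : H := ⟨s, hsH⟩
  have hzmap : (Subgroup.zpowers sH).map H.subtype = Subgroup.zpowers s := MonoidHom.map_zpowers _ _
  have hgen' : EH ≤ ⁅EH, Subgroup.zpowers sH⁆ := by
    rw [← Subgroup.map_le_map_iff_of_injective H.subtype_injective, Subgroup.map_commutator, hEHmap, hzmap]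
    exact hgen
  have htop : EH ⊔ Subgroup.zpowers sH = ⊤ := by
    apply Subgroup.map_injective H.subtype_injective
    rw [Subgroup.map_sup, hEHmap, hzmap, ← MonoidHom.range_eq_map, Subgroup.range_subtype]
  have hEHp : IsPGroup ℓ EH := hE.of_equiv (Subgroup.subgroupOfEquivOfLe le_sup_left).symm
  haveI := finiteDimensional_dual q (V := V)
  set ρ := dualRep q hHV with hρ
  set F := V ⊓ Subgroup.centralizer ({s} : Set X) with hF
  have hmov : ¬ V ≤ Subgroup.centralizer ({s} : Set X) := by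
    intro hle
    refine hmoved (hgen.trans (Subgroup.commutator_le.2 fun a ha g hg => ?_))
    have hgc : g ∈ Subgroup.centralizer (V : Set X) := by
      refine (Subgroup.zpowers_le.2 (fun v hv => ?_)) hg
      exact (Subgroup.mem_centralizer_singleton_iff.1 (hle hv))
    have hn := CfsgLib.Coprime.le_normalizer_centralizer (A := E) hEV ha
    rw [commutatorElement_def]
    exact Subgroup.mul_mem _ ((Subgroup.mem_normalizer_iff.1 hn g).1 hgc) (inv_mem hgc)
  obtain ⟨k, hk⟩ : ∃ k, F.relIndex V = q ^ k := by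
    obtain ⟨m, hm⟩ := IsPGroup.exists_card_eq (p := q) (G := V) fun v => ⟨1, Subtype.ext (by
      simpa using hV.2 v v.2)⟩
    obtain ⟨k, -, hk⟩ := (Nat.dvd_prime_pow hq.out).1 (hm ▸ F.relIndex_dvd_card V)
    exact ⟨k, hk⟩
  have hk1 : 1 ≤ k := by
    by_contra hh
    have : k = 0 := by omega
    rw [this, pow_zero, Subgroup.relIndex_eq_one] at hk
    exact hmov (hk.trans inf_le_right)
  have hrk : Module.finrank (AlgebraicClosure (ZMod q)) (LinearMap.range (ρ sH - 1)) ≤ k := by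
    have h1 := FpfTwo.finrank_range_sub_one_le q hV hHV sH (C := (⊥ : Subgroup X)) (F := F) inf_le_left
      (fun c hc => by
        have h2 := Subgroup.mem_centralizer_singleton_iff.1 (Subgroup.mem_inf.1 hc).2
        rw [Subgroup.mem_bot, mul_assoc (sH : X)⁻¹, show (c : X) * (sH : X) = (sH : X) * c from h2,
          inv_mul_cancel_left, inv_mul_cancel]) hk
    have hann : FpfTwo.ann q V (⊥ : Subgroup X) = ⊤ := eq_top_iff.2 fun f _ c hc => by
      rw [Subgroup.mem_bot] at hc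
      rw [show c = 1 from Subtype.ext hc, ofMul_one, map_zero]
    rw [hann, Submodule.map_top] at h1
    exact h1
  rw [hk]
  have hq2 := hq.out.two_le
  rcases eq_or_ne r 2 with rfl | hr2
  · exact lt_of_lt_of_le (by norm_num; omega) (Nat.le_self_pow (by omega) q)
  have hr0 : (r : AlgebraicClosure (ZMod q)) ≠ 0 :=
    natCast_ne_zero_dual q fun h => hrq ((Nat.prime_dvd_prime_iff_eq hq.out hr).1 h).symm
  have hℓ0 : (ℓ : AlgebraicClosure (ZMod q)) ≠ 0 :=
    natCast_ne_zero_dual q fun h => hℓq ((Nat.prime_dvd_prime_iff_eq hq.out hℓ).1 h).symm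
  have hne : ∃ e ∈ EH, ρ e ≠ 1 := by
    by_contra hh
    push Not at hh
    exact hmoved fun e he => (dualRep_eq_one_iff q hV hHV ⟨e, le_sup_left (α := Subgroup X) he⟩).1
      (hh _ (Subgroup.mem_subgroupOf.2 he))
  have hcl' : ∀ a ∈ EH, ∀ b ∈ EH, ∀ c ∈ EH, ρ ⁅⁅a, b⁆, c⁆ = 1 := fun a ha b hb c hc =>
    (dualRep_eq_one_iff q hV hHV _).2 (hcl _ ha _ hb _ hc)
  have hsr' : sH ^ r = 1 := Subtype.ext (by simpa using hsr)
  by_cases hq2' : q = 2
  · subst hq2'
    have hℓ2 : ℓ ≠ 2 := hℓq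
    have hd := rank_double (ρ := ρ) hEn hr hr2 hr0 hsr' hℓ hℓ2 hEHp hℓ0 hgen' htop hcl' hne
      (fun A hA μ hμ => by
        have hA0 : (Nat.card A : AlgebraicClosure (ZMod 2)) ≠ 0 :=
          natCast_ne_zero_of_isPGroup (hEHp.to_le hA) hℓ0
        have hann : FpfTwo.ann 2 V (⊥ : Subgroup X) = ⊤ := eq_top_iff.2 fun f _ c hc => by
          rw [Subgroup.mem_bot] at hc
          rw [show c = 1 from Subtype.ext hc, ofMul_one, map_zero]
        have h1 := FpfTwo.comp_inv_ne_bot 2 hV hHV A hA0 (C := (⊥ : Subgroup X)) bot_le Bp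
          (fun v c hc => by
            rw [Subgroup.mem_bot] at hc
            rw [show c = 1 from Subtype.ext hc, ofMul_one, map_zero])
          (fun v w e => by rw [hker v w e, inv_mul_cancel]; exact Subgroup.one_mem _) halt
          (fun a v w => hinv _ (Subgroup.mem_subgroupOf.1 (hA a.2)) v w _ _
            (CfsgLib.Coprime.coe_conjAct hHV _ _) (CfsgLib.Coprime.coe_conjAct hHV _ _))
          (μ := μ) (by rw [hann, inf_top_eq]; exact hμ)
        rwa [hann, inf_top_eq] at h1)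
    obtain ⟨R, rfl⟩ : ∃ R, r = R + 1 := ⟨r - 1, by have := hr.one_le; omega⟩
    simp only [Nat.add_sub_cancel] at *
    calc R ^ 2 < (2 ^ R) ^ 2 := Nat.pow_lt_pow_left Nat.lt_two_pow_self two_ne_zero
      _ = 2 ^ (R * 2) := by rw [← pow_mul]
      _ ≤ 2 ^ k := Nat.pow_le_pow_right (by norm_num) (by omega)
  · have hq3 : 3 ≤ q := by omega
    have hE0 : (Nat.card EH : AlgebraicClosure (ZMod q)) ≠ 0 := natCast_ne_zero_of_isPGroup hEHp hℓ0
    set W₀ : Submodule (AlgebraicClosure (ZMod q)) (Dual q V) := LinearMap.ker (avg ρ EH) with hW₀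
    have hW₀i : Inv ρ (⊤ : Subgroup H) W₀ := by
      intro g _ v hv
      rw [hW₀, LinearMap.mem_ker] at hv ⊢
      rw [← Module.End.mul_apply, ← avg_commute ρ fun a ha => hEn.conj_mem a ha g, Module.End.mul_apply,
        hv, map_zero]
    have hW₀ne : W₀ ≠ ⊥ := by
      obtain ⟨e, he, hne⟩ := hne
      intro hbot
      refine hne (LinearMap.ext fun v => ?_)
      have h1 : ρ e v - v ∈ W₀ := by
        rw [hW₀, LinearMap.mem_ker, map_sub, ← Module.End.mul_apply, avg_mul ρ he, sub_self]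
      rw [hbot, Submodule.mem_bot, sub_eq_zero] at h1
      exact h1
    obtain ⟨U, hUW, hU⟩ := exists_irred hW₀i hW₀ne
    have hU' : ∃ e ∈ EH, ∃ v ∈ U, ρ e v ≠ v := by
      by_contra hh
      push Not at hh
      refine hU.1 ((Submodule.eq_bot_iff _).2 fun v hv => ?_)
      have h2 : avg ρ EH v = 0 := LinearMap.mem_ker.1 (hUW hv)
      rw [avg_of_fixed ρ fun e he => hh e he v hv] at h2
      exact (smul_eq_zero.1 h2).resolve_left hE0
    have h1 := (rank_of_irred hEn hr hr0 hsr' hℓ hEHp hℓ0 hgen' htop hcl' hU hU').1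
    have h2 : Module.finrank (AlgebraicClosure (ZMod q)) (U.map (ρ sH - 1)) ≤ k :=
      (Submodule.finrank_mono LinearMap.map_le_range).trans hrk
    have hr3 : 3 ≤ r := by have := hr.two_le; omega
    rcases Nat.lt_or_ge r 5 with h5 | h5
    · have hr3' : r = 3 := by
        have h4 : r ≠ 4 := fun h => by rw [h] at hr; norm_num at hr
        omega
      subst hr3'
      have hq4 : q ≠ 4 := fun h => by have := hq.out; rw [h] at this; norm_num at this
      calc (3 - 1) ^ 2 = 4 := rfl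
        _ < q := by omega
        _ ≤ q ^ k := Nat.le_self_pow (by omega) q
    · have key : ∀ n, 3 ≤ n → (n + 1) ^ 2 < 3 ^ n := by
        intro n hn
        induction n, hn using Nat.le_induction with
        | base => norm_num
        | succ n hn ih => rw [pow_succ 3 n]; nlinarith
      obtain ⟨R, rfl⟩ : ∃ R, r = R + 2 := ⟨r - 2, by omega⟩
      simp only [show R + 2 - 1 = R + 1 from rfl]
      calc (R + 1) ^ 2 < 3 ^ R := key R (by omega)
        _ ≤ q ^ R := Nat.pow_le_pow_left hq3 R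
        _ ≤ q ^ k := Nat.pow_le_pow_right (by omega) (by omega)

end CfsgLib.FitTuran
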