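import Cfsg.Agent.Lib.HallHigman.FpfTwo.Dual
import Cfsg.Agent.Lib.FitTuran.Bounds

/-!
A group of class two that is moved by an operator of prime order forces that operator to move
many points of a symplectic module.
-/

set_option autoImplicit false
set_option linter.style.haveILetI false
set_option linter.unusedSectionVars false

open scoped commutatorElement

namespace CfsgLib.FitTuran

open CfsgLib.BG.FixedLine CfsgLib.HallHigman

/-- A group generated by its commutators with `s` has no fixed points in an abelian quotient. -/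
theorem fpf_of_eq_commutator {Y : Type*} [Group Y] [Finite Y] {Q Z : Subgroup Y} {s : Y}
    (hZQ : Z ≤ Q) (hcomm : ∀ u ∈ Q, ∀ v ∈ Q, ⁅u, v⁆ ∈ Z)
    (hsQ : s ∈ Subgroup.normalizer (Q : Set Y)) (hsZ : s ∈ Subgroup.normalizer (Z : Set Y))
    (hgen : Q ≤ ⁅Q, Subgroup.zpowers s⁆) {u : Y} (hu : u ∈ Q) (h : u⁻¹ * (s * u * s⁻¹) ∈ Z) :
    u ∈ Z := by
  classical
  haveI hn : (Z.subgroupOf Q).Normal := ⟨fun z hz g => by
    have := (Z.subgroupOf Q).mul_mem (Subgroup.mem_subgroupOf.2 (hcomm g g.2 z z.2) :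
      ⁅g, z⁆ ∈ Z.subgroupOf Q) hz
    simpa [commutatorElement_def, mul_assoc] using this⟩
  let mk := QuotientGroup.mk' (Z.subgroupOf Q)
  have hc : ∀ x y : Q ⧸ Z.subgroupOf Q, x * y = y * x := by
    intro x y
    induction x using QuotientGroup.induction_on with | _ x => ?_
    induction y using QuotientGroup.induction_on with | _ y => ?_
    rw [← QuotientGroup.mk_mul, ← QuotientGroup.mk_mul, QuotientGroup.eq, Subgroup.mem_subgroupOf]
    have := hcomm ((y : Y)⁻¹) (Q.inv_mem y.2) ((x : Y)⁻¹) (Q.inv_mem x.2)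
    simpa [commutatorElement_def, mul_assoc] using this
  let φ : Q ≃* Q := Q.normalizerMonoidHom ⟨s, hsQ⟩
  have hφ : ∀ v : Q, (φ v : Y) = s * (v : Y) * s⁻¹ := fun v => rfl
  have hker : Z.subgroupOf Q ≤ (mk.comp φ.toMonoidHom).ker := by
    intro z hz
    rw [MonoidHom.mem_ker]
    refine (QuotientGroup.eq_one_iff _).2 (Subgroup.mem_subgroupOf.2 ?_)
    show (φ z : Y) ∈ Z
    rw [hφ]
    exact ((Subgroup.mem_normalizer_iff.1 hsZ) _).1 (Subgroup.mem_subgroupOf.1 hz)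
  let ψ : (Q ⧸ Z.subgroupOf Q) →* (Q ⧸ Z.subgroupOf Q) := QuotientGroup.lift _ (mk.comp φ.toMonoidHom) hker
  have hψ : ∀ v : Q, ψ (v : Q ⧸ Z.subgroupOf Q) = ((φ v : Q) : Q ⧸ Z.subgroupOf Q) := fun v => rfl
  let D : (Q ⧸ Z.subgroupOf Q) →* (Q ⧸ Z.subgroupOf Q) :=
    { toFun := fun x => x⁻¹ * ψ x
      map_one' := by simp
      map_mul' := fun x y => by
        rw [map_mul, mul_inv_rev, hc y⁻¹ x⁻¹]
        simp only [mul_assoc]
        congr 1
        rw [← mul_assoc, hc y⁻¹ (ψ x), mul_assoc] }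
  have hsur : Function.Surjective D := by
    have hle : ⁅Q, Subgroup.zpowers s⁆ ≤ ((D.range).comap mk).map Q.subtype := by
      refine Subgroup.commutator_le.2 fun a ha g hg => ?_
      have hgn : g ∈ Subgroup.normalizer (Q : Set Y) :=
        (Subgroup.zpowers_le.2 hsQ) hg
      have hag : ⁅a, g⁆ ∈ Q := by
        rw [commutatorElement_def, show a * g * a⁻¹ * g⁻¹ = a * (g * a⁻¹ * g⁻¹) by group]
        exact Q.mul_mem ha ((Subgroup.mem_normalizer_iff.1 hgn _).1 (Q.inv_mem ha))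
      refine ⟨⟨⁅a, g⁆, hag⟩, ?_, rfl⟩
      obtain ⟨n, hn'⟩ := (isOfFinOrder_of_finite s).mem_powers_iff_mem_zpowers.2 hg
      have hn'' : s ^ n = g := hn'
      subst hn''
      rw [SetLike.mem_coe, Subgroup.mem_comap]
      clear hn' hg
      induction n with
      | zero =>
        rw [show (⟨⁅a, s ^ 0⁆, hag⟩ : Q) = 1 from Subtype.ext (by simp), map_one]
        exact one_mem _
      | succ n ih =>
        have hn1 : s ^ n ∈ Subgroup.normalizer (Q : Set Y) := pow_mem hsQ n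
        have ha1 : s ^ n * a⁻¹ * (s ^ n)⁻¹ ∈ Q := (Subgroup.mem_normalizer_iff.1 hn1 _).1 (Q.inv_mem ha)
        have hag' : ⁅a, s ^ n⁆ ∈ Q := by
          rw [commutatorElement_def, show a * s ^ n * a⁻¹ * (s ^ n)⁻¹ = a * (s ^ n * a⁻¹ * (s ^ n)⁻¹) by
            group]
          exact Q.mul_mem ha ha1
        set w : Q := ⟨s ^ n * a⁻¹ * (s ^ n)⁻¹, ha1⟩
        have e : (⟨⁅a, s ^ (n + 1)⁆, hag⟩ : Q) = ⟨⁅a, s ^ n⁆, hag'⟩ * (w⁻¹ * φ w) := Subtype.ext (by
          show ⁅a, s ^ (n + 1)⁆ = ⁅a, s ^ n⁆ * ((s ^ n * a⁻¹ * (s ^ n)⁻¹)⁻¹ *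
            (s * (s ^ n * a⁻¹ * (s ^ n)⁻¹) * s⁻¹))
          rw [pow_succ']
          simp only [commutatorElement_def]
          group)
        rw [e, map_mul]
        exact mul_mem (ih ((Subgroup.zpowers_le.2 hsQ) (Subgroup.pow_mem _ (Subgroup.mem_zpowers s) n)) hag')
          ⟨(w : Q ⧸ Z.subgroupOf Q), rfl⟩
    intro x
    induction x using QuotientGroup.induction_on with | _ x => ?_
    obtain ⟨v, hv, e⟩ := hle (hgen x.2)
    have : v = x := Subtype.ext e
    subst this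
    exact hv
  have hinj := Finite.injective_iff_surjective.2 hsur
  have hz : D ((⟨u, hu⟩ : Q) : Q ⧸ Z.subgroupOf Q) = D 1 := by
    rw [map_one]
    show (((⟨u, hu⟩ : Q) : Q ⧸ Z.subgroupOf Q))⁻¹ * ψ _ = 1
    rw [hψ, ← QuotientGroup.mk_inv, ← QuotientGroup.mk_mul, QuotientGroup.eq_one_iff,
      Subgroup.mem_subgroupOf]
    exact h
  have h1 := hinj hz
  rwa [QuotientGroup.eq_one_iff, Subgroup.mem_subgroupOf] at h1

section Linear

variable {K W Y : Type*} [Field K] [IsAlgClosed K] [AddCommGroup W] [Module K W]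
  [FiniteDimensional K W] [Group Y] [Finite Y] {ρ : Y →* Module.End K W}

variable (ρ) in
/-- The elements of `Q` acting centrally on `U`. -/
def centOn (Q : Subgroup Y) (U : Submodule K W) (hU : Inv ρ Q U) : Subgroup Y where
  carrier := {g | g ∈ Q ∧ ∀ f ∈ Q, ∀ v ∈ U, ρ g (ρ f v) = ρ f (ρ g v)}
  one_mem' := ⟨Q.one_mem, fun f _ v _ => by simp⟩
  mul_mem' := fun {a b} ha hb => ⟨Q.mul_mem ha.1 hb.1, fun f hf v hv => by
    rw [rho_mul, rho_mul, hb.2 f hf v hv, ha.2 f hf _ (hU b hb.1 v hv)]⟩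
  inv_mem' := fun {a} ha => ⟨Q.inv_mem ha.1, fun f hf v hv => by
    have h1 := ha.2 f hf (ρ a⁻¹ v) (hU _ (Q.inv_mem ha.1) v hv)
    rw [rho_apply_inv] at h1
    have h2 := congrArg (ρ a⁻¹) h1
    rw [rho_inv_apply] at h2
    exact h2.symm⟩

omit [IsAlgClosed K] [FiniteDimensional K W] in
theorem mem_centOn {Q : Subgroup Y} {U : Submodule K W} {hU : Inv ρ Q U} {g : Y} :
    g ∈ centOn ρ Q U hU ↔ g ∈ Q ∧ ∀ f ∈ Q, ∀ v ∈ U, ρ g (ρ f v) = ρ f (ρ g v) := Iff.rfl

omit [IsAlgClosed K] [FiniteDimensional K W] in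
theorem centOn_le {Q : Subgroup Y} {U : Submodule K W} (hU : Inv ρ Q U) : centOn ρ Q U hU ≤ Q :=
  fun _ hg => hg.1

omit [IsAlgClosed K] [FiniteDimensional K W] in
theorem normalizer_centOn {Q : Subgroup Y} {U : Submodule K W} (hU : Inv ρ Q U) {g : Y}
    (hg : g ∈ Subgroup.normalizer (Q : Set Y)) (hgU : ∀ v ∈ U, ρ g v ∈ U) :
    g ∈ Subgroup.normalizer (centOn ρ Q U hU : Set Y) := by
  refine mem_normalizer_of_conj fun z hz => ?_
  have hgi : ∀ v ∈ U, ρ g⁻¹ v ∈ U := fun v hv => (stab ρ U).inv_mem (show g ∈ stab ρ U from hgU) v hv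
  refine ⟨(Subgroup.mem_normalizer_iff.1 hg z).1 hz.1, fun f hf v hv => ?_⟩
  have hf' : g⁻¹ * f * g ∈ Q := by
    have := (Subgroup.mem_normalizer_iff.1 (inv_mem hg) f).1 hf
    rwa [inv_inv] at this
  have h1 := congrArg (ρ g) (hz.2 _ hf' (ρ g⁻¹ v) (hgi v hv))
  simp only [← rho_mul] at h1 ⊢
  convert h1 using 3 <;> group

/-- Central operators act by a character on an irreducible subspace. -/
theorem exists_chi {Q A : Subgroup Y} {U : Submodule K W} (hU : Irred ρ Q U)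
    (hA : ∀ a ∈ A, (∀ v ∈ U, ρ a v ∈ U) ∧ ∀ f ∈ Q, ∀ v ∈ U, ρ a (ρ f v) = ρ f (ρ a v)) :
    ∃ μ : Chi K A, U ≤ comp ρ A μ := by
  haveI : Nontrivial U := Submodule.nontrivial_iff_ne_bot.2 hU.1
  have hsc : ∀ a : A, ∃ c : K, ∀ v ∈ U, ρ (a : Y) v = c • v := by
    intro a
    obtain ⟨c, hc⟩ := Module.End.exists_eigenvalue ((ρ (a : Y)).restrict (hA a a.2).1)
    refine ⟨c, ?_⟩
    let E : Submodule K W := U ⊓ LinearMap.ker (ρ (a : Y) - c • 1)
    have hmemE : ∀ v, v ∈ E ↔ v ∈ U ∧ ρ (a : Y) v = c • v := fun v => by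
      simp [E, LinearMap.mem_ker, sub_eq_zero]
    obtain ⟨v, hv, hv0⟩ := hc.exists_hasEigenvector
    have hvE : (v : W) ∈ E := (hmemE _).2 ⟨v.2, congrArg Subtype.val (Module.End.mem_eigenspace_iff.1 hv)⟩
    have hinv : Inv ρ Q E := fun f hf w hw => by
      obtain ⟨h1, h2⟩ := (hmemE w).1 hw
      refine (hmemE _).2 ⟨hU.2.1 f hf w h1, ?_⟩
      rw [(hA a a.2).2 f hf w h1, h2, map_smul]
    intro w hw
    have : E = U := (hU.2.2 E inf_le_left hinv).resolve_left fun e => hv0 (Subtype.ext (by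
      rw [e, Submodule.mem_bot] at hvE; exact hvE))
    exact ((hmemE w).1 (this.symm ▸ hw)).2
  choose c hc using hsc
  obtain ⟨v, hv, hv0⟩ := Submodule.exists_mem_ne_zero_of_ne_bot hU.1
  have hinj : ∀ {a b : K}, a • v = b • v → a = b := fun {a b} e => smul_left_injective K hv0 e
  let μ : A →* K :=
    { toFun := c
      map_one' := hinj (by rw [← hc 1 v hv]; simp)
      map_mul' := fun a b => hinj (by
        rw [← hc (a * b) v hv, Subgroup.coe_mul, rho_mul, hc b v hv, map_smul, hc a v hv, smul_smul,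
          mul_comm]) }
  refine ⟨μ.toHomUnits, fun w hw a => ?_⟩
  rw [hc a w hw]
  rfl

omit [IsAlgClosed K] [FiniteDimensional K W] in
/-- The scalar of a character on a subgroup, extended by one. -/
theorem ext_exists {A : Subgroup Y} (μ : Chi K A) : ∃ lam : Y → K, ∀ a : A, lam a = (μ a : K) := by
  classical
  exact ⟨fun g => if h : g ∈ A then (μ ⟨g, h⟩ : K) else 1, fun a => dif_pos a.2⟩

/-- Orbits of moved characters bound the rank from below. -/
theorem mul_card_le_rank {ι : Type*} [Fintype ι] {A : Subgroup Y}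
    (hA0 : (Nat.card A : K) ≠ 0) {x : Subgroup.normalizer (A : Set Y)} {r : ℕ} (hr : r.Prime)
    (hxr : x ^ r = 1) (μ : ι → Chi K A) (w : ι → W) (hw : ∀ i, w i ∈ comp ρ A (μ i))
    (hw0 : ∀ i, w i ≠ 0) (hinj : ∀ i i' : ι, ∀ a b, a < r → b < r → x ^ a • μ i = x ^ b • μ i' → i = i' ∧ a = b) :
    Fintype.card ι * (r - 1) ≤ Module.finrank K (LinearMap.range (ρ (x : Y) - 1)) := by
  classical
  let v : ι × Fin (r - 1) → LinearMap.range (ρ (x : Y) - 1) := fun p =>
    ⟨(ρ (x : Y) - 1) (ρ ((x : Y) ^ (p.2 : ℕ)) (w p.1)), LinearMap.mem_range_self _ _⟩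
  have hmem : ∀ i (a : ℕ), ρ ((x : Y) ^ a) (w i) ∈ comp ρ A (x ^ a • μ i) := fun i a => by
    have := rho_mem_comp ρ A (x ^ a) (hw i)
    rwa [Subgroup.coe_pow] at this
  have hv : ∀ p, ((v p : LinearMap.range (ρ (x : Y) - 1)) : W) =
      ρ ((x : Y) ^ ((p.2 : ℕ) + 1)) (w p.1) - ρ ((x : Y) ^ (p.2 : ℕ)) (w p.1) := fun p => by
    simp [v, pow_succ', rho_mul]
  have hli : LinearIndependent K v := by
    rw [Fintype.linearIndependent_iff]
    intro c hc p
    obtain ⟨i, j⟩ := p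
    have hc' : ∑ p, c p • (ρ ((x : Y) ^ ((p.2 : ℕ) + 1)) (w p.1) - ρ ((x : Y) ^ (p.2 : ℕ)) (w p.1)) = 0 := by
      have := congrArg Subtype.val hc
      simpa [Submodule.coe_sum, hv] using this
    have hproj : ∀ (i' : ι) (b : ℕ) (a : ℕ), a < r → b < r →
        proj ρ A (x ^ a • μ i) (ρ ((x : Y) ^ b) (w i')) =
          if i = i' ∧ a = b then (Nat.card A : K) • ρ ((x : Y) ^ a) (w i) else 0 := by
      intro i' b a ha hb
      split_ifs with h
      · obtain ⟨rfl, rfl⟩ := h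
        exact proj_self ρ A (hmem i a)
      · exact proj_other ρ A (fun e => h ⟨(hinj i i' a b ha hb e).1, (hinj i i' a b ha hb e).2⟩) (hmem i' b)
    have hne : ∀ a, ρ ((x : Y) ^ a) (w i) ≠ 0 := fun a e => hw0 i (by
      have := congrArg (ρ ((x : Y) ^ a)⁻¹) e
      rwa [rho_inv_apply, map_zero] at this)
    have key : ∀ a, (ha : a < r - 1) →
        (if h : a = 0 then (0 : K) else c (i, ⟨a - 1, by omega⟩)) = c (i, ⟨a, ha⟩) := by
      intro a ha
      have h0 := congrArg (proj ρ A (x ^ a • μ i)) hc'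
      rw [map_sum, map_zero] at h0
      simp only [map_smul, map_sub, smul_sub, Finset.sum_sub_distrib] at h0
      rw [sub_eq_zero] at h0
      have e2 : ∑ p : ι × Fin (r - 1), c p • proj ρ A (x ^ a • μ i) (ρ ((x : Y) ^ (p.2 : ℕ)) (w p.1)) =
          c (i, ⟨a, ha⟩) • ((Nat.card A : K) • ρ ((x : Y) ^ a) (w i)) := by
        rw [Finset.sum_eq_single (i, (⟨a, ha⟩ : Fin (r - 1)))]
        · rw [hproj _ _ _ (by omega) (by omega), if_pos ⟨rfl, rfl⟩]
        · intro p _ hp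
          rw [hproj _ _ _ (by omega) (by omega), if_neg fun h => hp (Prod.ext h.1.symm (Fin.ext h.2.symm)),
            smul_zero]
        · exact fun h => absurd (Finset.mem_univ _) h
      rw [e2] at h0
      split_ifs with ha0
      · subst ha0
        rw [Finset.sum_eq_zero fun p _ => by
          rw [hproj _ _ _ (by omega) (by omega), if_neg fun h => absurd h.2 (by omega), smul_zero]] at h0
        exact ((smul_eq_zero.1 h0.symm).resolve_right (smul_ne_zero hA0 (hne 0))).symm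
      · rw [Finset.sum_eq_single (i, (⟨a - 1, by omega⟩ : Fin (r - 1)))] at h0
        · rw [hproj _ _ _ (by omega) (by simp only; omega), if_pos ⟨rfl, by simp only; omega⟩] at h0
          exact smul_left_injective K (smul_ne_zero hA0 (hne a)) h0
        · intro p _ hp
          rw [hproj _ _ _ (by omega) (by omega), if_neg fun h => hp (Prod.ext h.1.symm (Fin.ext (by
            have := h.2; simp only; omega))), smul_zero]
        · exact fun h => absurd (Finset.mem_univ _) h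
    have hall : ∀ a, (ha : a < r - 1) → c (i, ⟨a, ha⟩) = 0 := by
      intro a
      induction a with
      | zero => intro ha; rw [← key 0 ha, dif_pos rfl]
      | succ a ih =>
        intro ha
        rw [← key (a + 1) ha, dif_neg (by omega)]
        exact ih (by omega)
    exact hall j j.2
  have := hli.fintype_card_le_finrank
  rwa [Fintype.card_prod, Fintype.card_fin] at this

/-- An irreducible subspace moved by a class-two group carries a large rank. -/
theorem rank_of_irred {E : Subgroup Y} (hEn : E.Normal) {s : Y} {r ℓ : ℕ} (hr : r.Prime)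
    (hr0 : (r : K) ≠ 0) (hsr : s ^ r = 1) (hℓ : ℓ.Prime) (hE : IsPGroup ℓ E)
    (hℓ0 : (ℓ : K) ≠ 0) (hgen : E ≤ ⁅E, Subgroup.zpowers s⁆) (htop : E ⊔ Subgroup.zpowers s = ⊤)
    (hcl : ∀ a ∈ E, ∀ b ∈ E, ∀ c ∈ E, ρ ⁅⁅a, b⁆, c⁆ = 1)
    {U : Submodule K W} (hU : Irred ρ (⊤ : Subgroup Y) U) (hne : ∃ e ∈ E, ∃ v ∈ U, ρ e v ≠ v) :
    r - 2 ≤ Module.finrank K (U.map (ρ s - 1)) ∧
      (ℓ ≠ 2 → r - 1 ≤ Module.finrank K (U.map (ρ s - 1))) := by
  classical
  haveI := Fact.mk hℓ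
  have hE0 : (Nat.card E : K) ≠ 0 := natCast_ne_zero_of_isPGroup hE hℓ0
  have hUE : Inv ρ E U := hU.2.1.mono le_top
  set Z := centOn ρ E U hUE with hZdef
  have hZE : Z ≤ E := centOn_le hUE
  have hZ0 : (Nat.card Z : K) ≠ 0 := natCast_ne_zero_of_isPGroup (hE.to_le hZE) hℓ0
  have hcommZ : ∀ a ∈ E, ∀ b ∈ E, ⁅a, b⁆ ∈ Z := by
    intro a ha b hb
    have hm : ⁅a, b⁆ ∈ E := by
      rw [commutatorElement_def]; exact E.mul_mem (E.mul_mem (E.mul_mem ha hb) (E.inv_mem ha)) (E.inv_mem hb)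
    refine ⟨hm, fun f hf v _ => ?_⟩
    have h1 := hcl a ha b hb f hf
    rw [← rho_mul, ← rho_mul, show ⁅a, b⁆ * f = ⁅⁅a, b⁆, f⁆ * (f * ⁅a, b⁆) by
      simp only [commutatorElement_def]; group, map_mul, h1, one_mul]
  have hnorm : ∀ g : Y, g ∈ Subgroup.normalizer (Z : Set Y) := fun g =>
    normalizer_centOn hUE (by rw [Subgroup.normalizer_eq_top_iff.2 hEn]; exact Subgroup.mem_top g)
      (hU.2.1 g (Subgroup.mem_top g))
  obtain ⟨U₀, hU₀le, hU₀⟩ := exists_irred hUE hU.1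
  obtain ⟨μ, hμ⟩ := exists_chi hU₀ (A := Z) fun a ha =>
    ⟨fun v hv => hU₀.2.1 a (hZE ha) v hv, fun f hf v hv => (mem_centOn.1 ha).2 f hf v (hU₀le hv)⟩
  set x : Subgroup.normalizer (Z : Set Y) := ⟨s, hnorm s⟩ with hx
  have hxr : x ^ r = 1 := Subtype.ext (by simp [hx, hsr])
  by_cases hfix : x • μ = μ
  swap
  · obtain ⟨w, hw, hw0⟩ := Submodule.exists_mem_ne_zero_of_ne_bot hU₀.1
    let ρU : Y →* Module.End K U :=
      { toFun := fun g => (ρ g).restrict (hU.2.1 g (Subgroup.mem_top g))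
        map_one' := LinearMap.ext fun v => Subtype.ext (by simp)
        map_mul' := fun a b => LinearMap.ext fun v => Subtype.ext (rho_mul ρ a b v) }
    have h := mul_card_le_rank (ρ := ρU) (ι := Unit) hZ0 hr hxr (fun _ => μ) (fun _ => ⟨w, hU₀le hw⟩)
      (fun _ a => Subtype.ext (hμ hw a)) (fun _ e => hw0 (congrArg Subtype.val e))
      (fun i i' a b ha hb e => ⟨rfl, by
        rcases lt_trichotomy a b with h1 | h1 | h1
        · exact absurd e (pow_smul_ne Z hr hxr hfix h1 hb)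
        · exact h1
        · exact absurd e.symm (pow_smul_ne Z hr hxr hfix h1 ha)⟩)
    rw [Fintype.card_unit, one_mul] at h
    have he : Module.finrank K (LinearMap.range (ρU (x : Y) - 1)) =
        Module.finrank K (U.map (ρ s - 1)) := by
      rw [← Submodule.finrank_map_subtype_eq U]
      refine congrArg (fun V : Submodule K W => Module.finrank K V) ?_
      ext v
      constructor
      · rintro ⟨_, ⟨u, rfl⟩, rfl⟩
        exact ⟨u, u.2, rfl⟩
      · rintro ⟨u, hu, rfl⟩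
        exact ⟨_, ⟨⟨u, hu⟩, rfl⟩, rfl⟩
    omega
  -- the stable case
  have hUμ : U ≤ comp ρ Z μ := by
    have hinv : Inv ρ (⊤ : Subgroup Y) (U ⊓ comp ρ Z μ) := by
      rw [← htop]
      refine inv_sup (fun e he v hv => ⟨hUE e he v hv.1, fun a => ?_⟩) (inv_zpowers fun v hv => ⟨?_, ?_⟩)
      · rw [(mem_centOn.1 a.2).2 e he v hv.1, hv.2 a, map_smul]
      · exact hU.2.1 s (Subgroup.mem_top s) v hv.1
      · have := rho_mem_comp ρ Z x hv.2
        rwa [hfix] at this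
    have hne' : U ⊓ comp ρ Z μ ≠ ⊥ := fun e => hU₀.1 (eq_bot_iff.2 fun v hv => by
      have : v ∈ U ⊓ comp ρ Z μ := ⟨hU₀le hv, hμ hv⟩
      rwa [e] at this)
    exact inf_eq_left.1 ((hU.2.2 _ inf_le_left hinv).resolve_left hne')
  obtain ⟨lam, hlam⟩ := ext_exists μ
  haveI hnt : Nontrivial U := Submodule.nontrivial_iff_ne_bot.2 hU.1
  let ρU : Y →* Module.End K U :=
    { toFun := fun g => (ρ g).restrict (hU.2.1 g (Subgroup.mem_top g))
      map_one' := LinearMap.ext fun v => Subtype.ext (by simp)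
      map_mul' := fun a b => LinearMap.ext fun v => Subtype.ext (rho_mul ρ a b v) }
  have hst : Stable ρU E Z lam := by
    refine ⟨hZE, hcommZ, fun z hz => LinearMap.ext fun v => Subtype.ext ?_, fun u hu h => ?_, hE0⟩
    · show ρ z (v : W) = lam z • (v : W)
      rw [hlam ⟨z, hz⟩]; exact hUμ v.2 ⟨z, hz⟩
    · exact ⟨hu, fun f hf v hv => congrArg Subtype.val (LinearMap.congr_fun (h f hf) ⟨v, hv⟩)⟩
  have hsN : Normalizes E Z s :=
    ⟨by rw [Subgroup.normalizer_eq_top_iff.2 hEn]; exact Subgroup.mem_top s, hnorm s⟩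
  have hsz : ∀ z ∈ Z, ρU s * ρU z = ρU z * ρU s := by
    intro z hz
    refine LinearMap.ext fun v => Subtype.ext ?_
    show ρ s (ρ z (v : W)) = ρ z (ρ s (v : W))
    rw [hUμ v.2 ⟨z, hz⟩, map_smul, hUμ (hU.2.1 s (Subgroup.mem_top s) _ v.2) ⟨z, hz⟩]
  have hirr : IsIrr (ρU.comp E.subtype) := by
    refine hst.irr_of_cyclic hsN hsz fun X hX hgX => ?_
    have h1 : Inv ρ (⊤ : Subgroup Y) (X.map U.subtype) := by
      rw [← htop]
      refine inv_sup (fun e he v hv => ?_) (inv_zpowers fun v hv => ?_) <;>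
        obtain ⟨u, hu, rfl⟩ := hv
      · exact ⟨_, hX e he u hu, rfl⟩
      · exact ⟨_, hgX u hu, rfl⟩
    rcases hU.2.2 _ (Submodule.map_subtype_le _ _) h1 with e | e
    · left
      refine (Submodule.eq_bot_iff _).2 fun v hv => Subtype.ext ?_
      have := Submodule.mem_map_of_mem (f := U.subtype) hv
      rw [e, Submodule.mem_bot] at this
      exact this
    · right
      rw [eq_top_iff]
      intro v _
      obtain ⟨v', hv', e'⟩ := e.symm.le v.2
      exact (Subtype.ext e' : v' = v) ▸ hv'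
  have hfpf : ∀ u ∈ E, u⁻¹ * (s * u * s⁻¹) ∈ Z → u ∈ Z := fun u hu h =>
    fpf_of_eq_commutator hZE hcommZ hsN.1 hsN.2 hgen hu h
  have hnle : ¬ E ≤ Z := by
    intro hle
    obtain ⟨e, he, v, hv, hev⟩ := hne
    refine hev ?_
    let L : Subgroup Y :=
      { carrier := {g | ∀ v ∈ U, ρ g v = v}
        one_mem' := fun v _ => by simp
        mul_mem' := fun {a b} ha hb v hv => by rw [rho_mul, hb v hv, ha v hv]
        inv_mem' := fun {a} ha v hv => by conv_lhs => rw [← ha v hv, rho_inv_apply] }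
    suffices E ≤ L from this he v hv
    refine hgen.trans (Subgroup.commutator_le.2 fun a ha g hg => fun v hv => ?_)
    have hga : g * a⁻¹ * g⁻¹ ∈ E := hEn.conj_mem _ (E.inv_mem ha) g
    obtain ⟨n, rfl⟩ := Subgroup.mem_zpowers_iff.1 hg
    have hxg : (x ^ n) • μ = μ := by
      have : x ^ n ∈ MulAction.stabilizer (Subgroup.normalizer (Z : Set Y)) μ :=
        zpow_mem (MulAction.mem_stabilizer_iff.2 hfix) n
      exact MulAction.mem_stabilizer_iff.1 this
    have hai : a⁻¹ ∈ Z := Z.inv_mem (hle ha)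
    have e1 := rho_mem_comp ρ Z (x ^ n) (hUμ (hU.2.1 ((s ^ n)⁻¹) (Subgroup.mem_top _) v hv))
    rw [hxg] at e1
    rw [commutatorElement_def, show a * s ^ n * a⁻¹ * (s ^ n)⁻¹ = a * (s ^ n * (a⁻¹ * (s ^ n)⁻¹)) by group,
      rho_mul, rho_mul, rho_mul, hUμ (hU.2.1 _ (Subgroup.mem_top _) v hv) ⟨a⁻¹, hai⟩, map_smul,
      rho_apply_inv, map_smul, hUμ hv ⟨a, hle ha⟩, smul_smul, ← Units.val_mul, ← map_mul]
    rw [show (⟨a⁻¹, hai⟩ : Z) * ⟨a, hle ha⟩ = 1 from Subtype.ext (inv_mul_cancel a), map_one,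
      Units.val_one, one_smul]
  obtain ⟨h1, h2⟩ := hst.rank_sub_one hirr hsN hr hr0 hsr hfpf hnle
  have he : Module.finrank K (LinearMap.range (ρU s - 1)) = Module.finrank K (U.map (ρ s - 1)) := by
    rw [← Submodule.finrank_map_subtype_eq U]
    refine congrArg (fun V : Submodule K W => Module.finrank K V) ?_
    ext v
    constructor
    · rintro ⟨_, ⟨u, rfl⟩, rfl⟩
      exact ⟨u, u.2, rfl⟩
    · rintro ⟨u, hu, rfl⟩
      exact ⟨_, ⟨⟨u, hu⟩, rfl⟩, rfl⟩
  rw [he] at h1 h2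
  refine ⟨h1, fun hl2 => h2 ?_⟩
  have hsq := hst.sq_finrank hirr
  obtain ⟨k, hk⟩ := hE.exists_card_eq
  obtain ⟨j, -, hj⟩ := (Nat.dvd_prime_pow hℓ).1 (hk ▸ Z.relIndex_dvd_card E)
  have : Odd (Module.finrank K U ^ 2) := by rw [hsq, hj]; exact (hℓ.odd_of_ne_two hl2).pow
  exact (Nat.odd_pow_iff two_ne_zero).1 this

end Linear

end CfsgLib.FitTuran
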