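import Cfsg.Agent.Lib.BG.FixedLine.Mono
import Cfsg.Agent.Lib.HallHigman.Schur

/-!
Invariant subspaces of coprime linear actions, moved components, and irreducible subspaces.
-/

set_option autoImplicit false
set_option linter.style.haveILetI false
set_option linter.unusedSectionVars false

namespace CfsgLib.FitTuran

open CfsgLib.BG.FixedLine

variable {K W Y : Type*} [Field K] [AddCommGroup W] [Module K W] [Group Y] [Finite Y]
  (ρ : Y →* Module.End K W)

/-- Invariance of a subspace. -/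
def Inv (G : Subgroup Y) (U : Submodule K W) : Prop := ∀ g ∈ G, ∀ v ∈ U, ρ g v ∈ U

/-- Irreducibility of a subspace. -/
def Irred (G : Subgroup Y) (U : Submodule K W) : Prop :=
  U ≠ ⊥ ∧ Inv ρ G U ∧ ∀ U' ≤ U, Inv ρ G U' → U' = ⊥ ∨ U' = U

variable {ρ}

theorem inv_top (G : Subgroup Y) : Inv ρ G (⊤ : Submodule K W) := fun _ _ _ _ => Submodule.mem_top

theorem Inv.mono {G H : Subgroup Y} {U : Submodule K W} (h : Inv ρ G U) (hHG : H ≤ G) : Inv ρ H U :=
  fun g hg => h g (hHG hg)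

theorem inv_iff_le_stab {G : Subgroup Y} {U : Submodule K W} : Inv ρ G U ↔ G ≤ stab ρ U := Iff.rfl

theorem inv_sup {G H : Subgroup Y} {U : Submodule K W} (hG : Inv ρ G U) (hH : Inv ρ H U) :
    Inv ρ (G ⊔ H) U :=
  inv_iff_le_stab.2 (sup_le hG hH)

theorem inv_zpowers {g : Y} {U : Submodule K W} (hg : ∀ v ∈ U, ρ g v ∈ U) :
    Inv ρ (Subgroup.zpowers g) U :=
  inv_iff_le_stab.2 (Subgroup.zpowers_le.2 hg)

variable [FiniteDimensional K W]

/-- A nonzero invariant subspace contains an irreducible one. -/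
theorem exists_irred {G : Subgroup Y} {U : Submodule K W} (hU : Inv ρ G U) (hne : U ≠ ⊥) :
    ∃ U' ≤ U, Irred ρ G U' := by
  obtain ⟨U', hle, hmin⟩ := exists_minimal_le_of_wellFoundedLT
    (fun X : Submodule K W => X ≠ ⊥ ∧ Inv ρ G X) U ⟨hne, hU⟩
  refine ⟨U', hle, hmin.prop.1, hmin.prop.2, fun X hX hXi => ?_⟩
  by_cases h : X = ⊥
  · exact Or.inl h
  · exact Or.inr (le_antisymm hX (hmin.le_of_le ⟨h, hXi⟩ hX))

/-- Maschke. -/
theorem exists_compl {G : Subgroup Y} (hG : (Nat.card G : K) ≠ 0) {S U : Submodule K W}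
    (hS : Inv ρ G S) (hU : Inv ρ G U) (hUS : U ≤ S) :
    ∃ U', Inv ρ G U' ∧ U' ≤ S ∧ U ⊔ U' = S ∧ U ⊓ U' = ⊥ := by
  classical
  haveI := Fintype.ofFinite G
  obtain ⟨D, hD⟩ := U.exists_isCompl
  let π : Module.End K W := U.subtype ∘ₗ Submodule.projectionOnto U D hD
  have hπmem : ∀ v, π v ∈ U := fun v => (Submodule.projectionOnto U D hD v).2
  have hπid : ∀ v ∈ U, π v = v := fun v hv => by
    show ((Submodule.projectionOnto U D hD v : U) : W) = v
    exact congrArg Subtype.val (Submodule.projectionOnto_apply_left hD ⟨v, hv⟩)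
  let P : Module.End K W := (Nat.card G : K)⁻¹ • ∑ g : G, ρ (g : Y) ∘ₗ π ∘ₗ ρ (g : Y)⁻¹
  have hP : ∀ v, P v = (Nat.card G : K)⁻¹ • ∑ g : G, ρ (g : Y) (π (ρ (g : Y)⁻¹ v)) := fun v => by
    simp [P, LinearMap.sum_apply]
  have hPU : ∀ v, P v ∈ U := fun v => by
    rw [hP]; exact U.smul_mem _ (U.sum_mem fun g _ => hU g g.2 _ (hπmem _))
  have hPid : ∀ v ∈ U, P v = v := fun v hv => by
    rw [hP, Finset.sum_congr rfl (g := fun _ => v) fun g _ => by
      rw [hπid _ (hU _ (G.inv_mem g.2) v hv), rho_apply_inv], Finset.sum_const, Finset.card_univ,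
      ← Nat.card_eq_fintype_card, ← Nat.cast_smul_eq_nsmul K, inv_smul_smul₀ hG]
  have hPc : ∀ h ∈ G, ∀ v, ρ h (P v) = P (ρ h v) := by
    intro h hh v
    rw [hP, hP, map_smul, map_sum]
    congr 1
    refine Fintype.sum_equiv (Equiv.mulLeft (⟨h, hh⟩ : G)) _ _ fun g => ?_
    simp only [Equiv.coe_mulLeft, Subgroup.coe_mul, mul_inv_rev, rho_mul, rho_inv_apply]
  refine ⟨S ⊓ LinearMap.ker P, ?_, inf_le_left, ?_, ?_⟩
  · rintro g hg v ⟨hv, hv'⟩
    refine ⟨hS g hg v hv, ?_⟩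
    rw [SetLike.mem_coe, LinearMap.mem_ker] at hv' ⊢
    rw [← hPc g hg, hv', map_zero]
  · refine le_antisymm (sup_le hUS inf_le_left) fun v hv => ?_
    have : v - P v ∈ S ⊓ LinearMap.ker P := ⟨S.sub_mem hv (hUS (hPU v)), by
      rw [SetLike.mem_coe, LinearMap.mem_ker, map_sub, hPid _ (hPU v), sub_self]⟩
    exact Submodule.mem_sup.2 ⟨P v, hPU v, v - P v, this, add_sub_cancel _ _⟩
  · rw [Submodule.eq_bot_iff]
    rintro v ⟨hv, -, hv'⟩
    rw [SetLike.mem_coe, LinearMap.mem_ker, hPid v hv] at hv'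
    exact hv'

/-- An operator trivial on irreducible subspaces of a coprime group is trivial. -/
theorem eq_id_of_irred {G : Subgroup Y} (hG : (Nat.card G : K) ≠ 0) (f : Module.End K W)
    (h : ∀ U, Irred ρ G U → ∀ v ∈ U, f v = v) : f = 1 := by
  suffices hall : ∀ n (S : Submodule K W), Module.finrank K S ≤ n → Inv ρ G S → ∀ v ∈ S, f v = v from
    LinearMap.ext fun v => hall _ ⊤ le_rfl (inv_top G) v Submodule.mem_top
  intro n
  induction n with
  | zero =>
    intro S hS _ v hv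
    rw [Submodule.finrank_eq_zero.1 (Nat.le_zero.1 hS), Submodule.mem_bot] at hv
    rw [hv, map_zero]
  | succ n ih =>
    intro S hS hSi v hv
    by_cases hS0 : S = ⊥
    · rw [hS0, Submodule.mem_bot] at hv
      rw [hv, map_zero]
    obtain ⟨U, hUS, hU⟩ := exists_irred hSi hS0
    obtain ⟨U', hU'i, hU'S, hsup, hinf⟩ := exists_compl hG hSi hU.2.1 hUS
    have hlt : Module.finrank K U' ≤ n := by
      have h1 := Submodule.finrank_sup_add_finrank_inf_eq U U'
      rw [hsup, hinf, finrank_bot, add_zero] at h1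
      have h2 : 0 < Module.finrank K U := Nat.pos_of_ne_zero fun e => hU.1 (Submodule.finrank_eq_zero.1 e)
      omega
    rw [← hsup, Submodule.mem_sup] at hv
    obtain ⟨a, ha, b, hb, rfl⟩ := hv
    rw [map_add, h U hU a ha, ih U' hlt hU'i b hb]

/-- An invariant subspace on which a normal coprime subgroup fixes no vector is covered by the
commutators. -/
theorem mem_of_no_fixed {E : Subgroup Y} (hE : (Nat.card E : K) ≠ 0) {U S : Submodule K W}
    (hU : Inv ρ E U) (hS : ∀ v : W, ∀ e ∈ E, ρ e v - v ∈ S)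
    (hfix : ∀ v ∈ U, (∀ e ∈ E, ρ e v = v) → v = 0) : U ≤ S := by
  intro v hv
  haveI := Fintype.ofFinite E
  have h0 : avg ρ E v = 0 := by
    refine hfix _ ?_ fun e he => ?_
    · rw [avg_apply]; exact U.sum_mem fun e _ => hU e e.2 v hv
    · rw [← Module.End.mul_apply, mul_avg ρ he]
  have h1 : (Nat.card E : K) • v = -∑ e : E, (ρ (e : Y) v - v) := by
    rw [Finset.sum_sub_distrib, ← avg_apply, h0, zero_sub, neg_neg, Finset.sum_const,
      Finset.card_univ, ← Nat.card_eq_fintype_card, Nat.cast_smul_eq_nsmul]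
  have h2 : (Nat.card E : K) • v ∈ S := h1 ▸ S.neg_mem (S.sum_mem fun e _ => hS v e e.2)
  have h3 := S.smul_mem (Nat.card E : K)⁻¹ h2
  rwa [inv_smul_smul₀ hE] at h3

variable {A : Subgroup Y} {μ : Chi K A} {x : Subgroup.normalizer (A : Set Y)} {r : ℕ}

theorem orbitSum_fixed (hxr : x ^ r = 1) (w : W) :
    ρ (x : Y) (∑ i ∈ Finset.range r, ρ ((x : Y) ^ i) w) = ∑ i ∈ Finset.range r, ρ ((x : Y) ^ i) w := by
  rw [map_sum]
  simp only [← rho_mul, ← pow_succ']
  have h1 := Finset.sum_range_succ' (fun i => ρ ((x : Y) ^ i) w) r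
  have h2 := Finset.sum_range_succ (fun i => ρ ((x : Y) ^ i) w) r
  have hxr' : (x : Y) ^ r = 1 := congrArg Subtype.val hxr
  simp only [pow_zero, hxr'] at h1 h2
  exact add_right_cancel (h1.symm.trans h2)

variable [IsAlgClosed K]

theorem proj_orbitSum (hr : r.Prime) (hxr : x ^ r = 1) (hμ : x • μ ≠ μ) {w : W}
    (hw : w ∈ comp ρ A μ) :
    proj ρ A μ (∑ i ∈ Finset.range r, ρ ((x : Y) ^ i) w) = (Nat.card A : K) • w := by
  rw [map_sum, Finset.sum_eq_single 0]
  · rw [pow_zero, map_one, Module.End.one_apply, proj_self ρ A hw]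
  · intro i hi hi0
    have := rho_mem_comp ρ A (x ^ i) hw
    rw [Subgroup.coe_pow] at this
    refine proj_other ρ A ?_ this
    have h := pow_smul_ne A hr hxr hμ (Nat.pos_of_ne_zero hi0) (Finset.mem_range.1 hi)
    rwa [pow_zero, one_smul] at h
  · intro h; exact absurd (Finset.mem_range.2 hr.pos) h

/-- An operator commuting with `x` that fixes the orbit sum of a moved vector fixes the vector. -/
theorem fixed_of_orbitSum (hA0 : (Nat.card A : K) ≠ 0) (hr : r.Prime) (hxr : x ^ r = 1)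
    (hμ : x • μ ≠ μ) {f : Module.End K W} (hf : f * ρ (x : Y) = ρ (x : Y) * f) {w : W}
    (hw : w ∈ comp ρ A μ) (hfw : f w ∈ comp ρ A μ)
    (hfix : f (∑ i ∈ Finset.range r, ρ ((x : Y) ^ i) w) = ∑ i ∈ Finset.range r, ρ ((x : Y) ^ i) w) :
    f w = w := by
  have hcomm : ∀ i : ℕ, f * ρ ((x : Y) ^ i) = ρ ((x : Y) ^ i) * f := fun i => by
    rw [map_pow]; exact ((show Commute f (ρ (x : Y)) from hf).pow_right i).eq
  rw [map_sum] at hfix
  simp only [← Module.End.mul_apply, hcomm] at hfix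
  simp only [Module.End.mul_apply] at hfix
  have h := congrArg (proj ρ A μ) hfix
  rw [proj_orbitSum hr hxr hμ hfw, proj_orbitSum hr hxr hμ hw] at h
  exact smul_right_injective W hA0 h

end CfsgLib.FitTuran
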