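import Cfsg.Agent.Lib.FitTuran.Skip
import Cfsg.Agent.Lib.HallHigman.FpfTwo.Dual
import Cfsg.Agent.Lib.PSolvable.Omega
import Cfsg.Agent.Lib.Layer.FrattiniQuot

/-!
The module of a section: the dual of the Frattini quotient of `N/K`.
-/

set_option autoImplicit false
set_option linter.style.haveILetI false
set_option linter.unusedSectionVars false

open scoped commutatorElement

namespace CfsgLib.FitTuran

open CfsgLib.BG.FixedLine

variable {X : Type*} [Group X] [Finite X]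

/-- The normalizer of a pair. -/
def amb (N Kn : Subgroup X) : Subgroup X :=
  Subgroup.normalizer (N : Set X) ⊓ Subgroup.normalizer (Kn : Set X)

/-- The kernel of the Frattini quotient of `N/K`. -/
def frat (N Kn : Subgroup X) : Subgroup X := (frattini N).map N.subtype ⊔ Kn

theorem amb_le_normalizer_frat (N Kn : Subgroup X) :
    amb N Kn ≤ Subgroup.normalizer (frat N Kn : Set X) := by
  refine CfsgLib.Coprime.le_normalizer_sup_of_le (fun g hg => ?_) fun g hg => hg.2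
  refine mem_normalizer_of_conj ?_
  rintro _ ⟨u, hu, rfl⟩
  exact ⟨N.normalizerMonoidHom ⟨g, hg.1⟩ u,
    Subgroup.characteristic_iff_map_le.mp inferInstance (N.normalizerMonoidHom ⟨g, hg.1⟩)
      (Subgroup.mem_map_of_mem _ hu), rfl⟩

/-- The elements centralizing `N` modulo `K`. -/
def act (N Kn : Subgroup X) : Subgroup X where
  carrier := {x | x ∈ amb N Kn ∧ ∀ u ∈ N, ⁅u, x⁆ ∈ Kn}
  one_mem' := ⟨one_mem _, fun u _ => by simp⟩
  mul_mem' := fun {a b} ha hb => ⟨mul_mem ha.1 hb.1, fun u hu => by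
    have h1 := Kn.mul_mem (ha.2 u hu) ((Subgroup.mem_normalizer_iff.1 ha.1.2 _).1 (hb.2 u hu))
    convert h1 using 1
    simp only [commutatorElement_def]
    group⟩
  inv_mem' := fun {a} ha => ⟨inv_mem ha.1, fun u hu => by
    have hw : a⁻¹ * u * a ∈ N := by
      have := (Subgroup.mem_normalizer_iff.1 (inv_mem ha.1.1) u).1 hu
      rwa [inv_inv] at this
    have h1 := (Subgroup.mem_normalizer_iff.1 (inv_mem ha.1.2) _).1 (ha.2 _ hu)
    have h2 := Kn.inv_mem h1
    rw [inv_inv] at h2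
    convert h2 using 1
    simp only [commutatorElement_def]
    group⟩

theorem mem_act {N Kn : Subgroup X} {x : X} :
    x ∈ act N Kn ↔ x ∈ amb N Kn ∧ ∀ u ∈ N, ⁅u, x⁆ ∈ Kn := Iff.rfl

theorem act_le_amb {N Kn : Subgroup X} : act N Kn ≤ amb N Kn := fun _ hx => hx.1

/-- Elements of the pair's normalizer normalize the centralizer of the section. -/
theorem amb_le_normalizer_act (N Kn : Subgroup X) :
    amb N Kn ≤ Subgroup.normalizer (act N Kn : Set X) := fun g hg => by
  refine mem_normalizer_of_conj fun x hx => ⟨mul_mem (mul_mem hg hx.1) (inv_mem hg), fun u hu => ?_⟩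
  have hw : g⁻¹ * u * g ∈ N := by
    have := (Subgroup.mem_normalizer_iff.1 (inv_mem hg.1) u).1 hu
    rwa [inv_inv] at this
  have h1 := (Subgroup.mem_normalizer_iff.1 hg.2 _).1 (hx.2 _ hw)
  convert h1 using 1
  simp only [commutatorElement_def]
  group

theorem commutator_subgroupOf_map {M A B : Subgroup X} (hA : A ≤ M) (hB : B ≤ M) :
    (⁅A.subgroupOf M, B.subgroupOf M⁆).map M.subtype = ⁅A, B⁆ := by
  rw [Subgroup.map_commutator, Subgroup.map_subgroupOf_eq_of_le hA, Subgroup.map_subgroupOf_eq_of_le hB]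

theorem zpowers_subgroupOf {M : Subgroup X} {s : X} (hs : s ∈ M) :
    Subgroup.zpowers (⟨s, hs⟩ : M) = (Subgroup.zpowers s).subgroupOf M := by
  apply Subgroup.map_injective M.subtype_injective
  rw [Subgroup.map_subgroupOf_eq_of_le (Subgroup.zpowers_le.2 hs)]
  exact MonoidHom.map_zpowers _ _

variable (N Kn : Subgroup X)

instance frat_normal : ((frat N Kn).subgroupOf (amb N Kn)).Normal :=
  ⟨fun z hz g => Subgroup.mem_subgroupOf.2
    ((Subgroup.mem_normalizer_iff.1 (amb_le_normalizer_frat N Kn g.2) _).1 (Subgroup.mem_subgroupOf.1 hz))⟩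

/-- The quotient map of the section. -/
def sq : amb N Kn →* amb N Kn ⧸ (frat N Kn).subgroupOf (amb N Kn) := QuotientGroup.mk' _

/-- The Frattini quotient of `N/K`. -/
def secV : Subgroup (amb N Kn ⧸ (frat N Kn).subgroupOf (amb N Kn)) :=
  (N.subgroupOf (amb N Kn)).map (sq N Kn)

theorem top_le_normalizer_secV :
    (⊤ : Subgroup (amb N Kn ⧸ (frat N Kn).subgroupOf (amb N Kn))) ≤
      Subgroup.normalizer (secV N Kn : Set (amb N Kn ⧸ (frat N Kn).subgroupOf (amb N Kn))) := by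
  intro g _
  obtain ⟨g, rfl⟩ := QuotientGroup.mk'_surjective ((frat N Kn).subgroupOf (amb N Kn)) g
  refine mem_normalizer_of_conj ?_
  rintro _ ⟨u, hu, rfl⟩
  exact ⟨g * u * g⁻¹, Subgroup.mem_subgroupOf.2 (by
    simpa using (Subgroup.mem_normalizer_iff.1 g.2.1 (u : X)).1 (Subgroup.mem_subgroupOf.1 hu)),
    by simp [sq]⟩

theorem sq_eq_iff {a b : amb N Kn} : sq N Kn a = sq N Kn b ↔ (a : X)⁻¹ * (b : X) ∈ frat N Kn := by
  rw [sq, QuotientGroup.mk'_apply, QuotientGroup.mk'_apply, QuotientGroup.eq, Subgroup.mem_subgroupOf]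
  rfl

/-- The image of the ambient normalizer acting on the section. -/
def sqTop : amb N Kn →* (⊤ : Subgroup (amb N Kn ⧸ (frat N Kn).subgroupOf (amb N Kn))) :=
  (sq N Kn).codRestrict ⊤ fun _ => Subgroup.mem_top _

variable (p : ℕ) [Fact p.Prime]

/-- The module of the section. -/
noncomputable def secRep :
    amb N Kn →* Module.End (AlgebraicClosure (ZMod p)) (Dual p (secV N Kn)) :=
  (dualRep p (top_le_normalizer_secV N Kn)).comp (sqTop N Kn)

variable {N Kn} {p}

/-- The hypotheses on a section. -/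
structure SecData (N Kn : Subgroup X) (p : ℕ) : Prop where
  hN : IsPGroup p N
  hKN : Kn ≤ N
  hKn : N ≤ Subgroup.normalizer (Kn : Set X)

theorem SecData.le_amb (h : SecData N Kn p) : N ≤ amb N Kn := le_inf Subgroup.le_normalizer h.hKn

theorem SecData.frat_le (h : SecData N Kn p) : frat N Kn ≤ N := sup_le (Subgroup.map_subtype_le _) h.hKN

theorem SecData.elementary (h : SecData N Kn p) : Cfsg.IsElementaryAbelian p (secV N Kn) := by
  have hfr : ∀ {x : N}, x ∈ frattini N → (x : X) ∈ frat N Kn := fun {x} hx =>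
    Subgroup.mem_sup_left (Subgroup.mem_map_of_mem _ hx)
  obtain ⟨hc, hp⟩ := CfsgLib.PSolvable.commutator_le_frattini h.hN
  refine ⟨⟨⟨fun a b => Subtype.ext ?_⟩⟩, ?_⟩
  · obtain ⟨a', ha, e1⟩ := a.2
    obtain ⟨b', hb, e2⟩ := b.2
    rw [Subgroup.coe_mul, Subgroup.coe_mul, ← e1, ← e2, ← map_mul, ← map_mul, sq_eq_iff]
    have h1 : ⁅(⟨(b' : X), Subgroup.mem_subgroupOf.1 hb⟩ : N)⁻¹,
        (⟨(a' : X), Subgroup.mem_subgroupOf.1 ha⟩ : N)⁻¹⁆ ∈ frattini N :=
      hc (Subgroup.commutator_mem_commutator (Subgroup.mem_top _) (Subgroup.mem_top _))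
    simpa [commutatorElement_def, mul_assoc] using hfr h1
  · rintro _ ⟨u, hu, rfl⟩
    rw [← map_pow, ← map_one (sq N Kn), sq_eq_iff]
    have := (frat N Kn).inv_mem (hfr (hp ⟨(u : X), Subgroup.mem_subgroupOf.1 hu⟩))
    simpa using this

theorem secRep_apply (x : amb N Kn) (f : Dual p (secV N Kn)) (v : secV N Kn) :
    secRep N Kn p x f (Additive.ofMul v) = f (Additive.ofMul
      (CfsgLib.Coprime.conjAct (top_le_normalizer_secV N Kn) (sqTop N Kn x)⁻¹ v)) := rfl

/-- The kernel of the module. -/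
theorem secRep_eq_one_iff (h : SecData N Kn p) {x : amb N Kn} :
    secRep N Kn p x = 1 ↔ ∀ u ∈ N, ⁅u, (x : X)⁆ ∈ frat N Kn := by
  refine (dualRep_eq_one_iff p h.elementary (top_le_normalizer_secV N Kn) (sqTop N Kn x)).trans
    ⟨fun hx u hu => ?_, fun hx => ?_⟩
  · have h1 := hx (sq N Kn ⟨u, h.le_amb hu⟩⁻¹)
      (Subgroup.mem_map_of_mem _ (Subgroup.mem_subgroupOf.2 (N.inv_mem hu)))
    change sq N Kn ⟨u, h.le_amb hu⟩⁻¹ * sq N Kn x = sq N Kn x * sq N Kn ⟨u, h.le_amb hu⟩⁻¹ at h1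
    rw [← map_mul, ← map_mul, sq_eq_iff] at h1
    have h2 := (Subgroup.mem_normalizer_iff.1 (amb_le_normalizer_frat N Kn x.2) _).1 h1
    simpa [commutatorElement_def, mul_assoc] using h2
  · rintro _ ⟨u, hu, rfl⟩
    show sq N Kn u * sq N Kn x = sq N Kn x * sq N Kn u
    rw [← map_mul, ← map_mul, sq_eq_iff]
    have h1 := hx _ (N.inv_mem (Subgroup.mem_subgroupOf.1 hu))
    have h2 := (Subgroup.mem_normalizer_iff.1 (amb_le_normalizer_frat N Kn (inv_mem x.2)) _).1 h1
    simpa [commutatorElement_def, mul_assoc] using h2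

theorem secRep_of_act (h : SecData N Kn p) {x : amb N Kn} (hx : (x : X) ∈ act N Kn) :
    secRep N Kn p x = 1 :=
  (secRep_eq_one_iff h).2 fun u hu => Subgroup.mem_sup_right (hx.2 u hu)

/-- An element of coprime order in the kernel centralizes `N/K`. -/
theorem mem_act_of_secRep (h : SecData N Kn p) {x : amb N Kn} (hcop : (orderOf (x : X)).Coprime p)
    (hx : secRep N Kn p x = 1) : (x : X) ∈ act N Kn := by
  have h1 := (secRep_eq_one_iff h).1 hx
  refine ⟨x.2, fun u hu => ?_⟩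
  haveI : (Kn.subgroupOf (amb N Kn)).Normal := ⟨fun z hz g => Subgroup.mem_subgroupOf.2
    ((Subgroup.mem_normalizer_iff.1 g.2.2 _).1 (Subgroup.mem_subgroupOf.1 hz))⟩
  set π := QuotientGroup.mk' (Kn.subgroupOf (amb N Kn)) with hπ
  have hNM : N ≤ (amb N Kn) := h.le_amb
  set Nb := (N.subgroupOf (amb N Kn)).map π with hNb
  have hxN : Subgroup.zpowers (π x) ≤ Subgroup.normalizer (Nb : Set ((amb N Kn) ⧸ Kn.subgroupOf (amb N Kn))) := by
    rw [Subgroup.zpowers_le]
    refine mem_normalizer_of_conj ?_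
    rintro _ ⟨v, hv, rfl⟩
    exact ⟨x * v * x⁻¹, Subgroup.mem_subgroupOf.2 (by
      simpa using (Subgroup.mem_normalizer_iff.1 x.2.1 (v : X)).1 (Subgroup.mem_subgroupOf.1 hv)), by simp⟩
  let f : N →* Nb := (π.comp (Subgroup.inclusion hNM)).codRestrict Nb fun v =>
    Subgroup.mem_map_of_mem _ (Subgroup.mem_subgroupOf.2 v.2)
  have hf : Function.Surjective f := by
    rintro ⟨_, v, hv, rfl⟩
    exact ⟨⟨(v : X), Subgroup.mem_subgroupOf.1 hv⟩, rfl⟩
  have hfrat : ∀ (w : (amb N Kn)), (w : X) ∈ frat N Kn → π w ∈ (frattini Nb).map Nb.subtype := by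
    have hle : frat N Kn ≤ ((((frattini Nb).map Nb.subtype).comap π).map (amb N Kn).subtype) := by
      refine sup_le ?_ fun w hw => ?_
      · rintro _ ⟨v, hv, rfl⟩
        refine ⟨Subgroup.inclusion hNM v, ?_, rfl⟩
        rw [SetLike.mem_coe, Subgroup.mem_comap]
        exact ⟨f v, CfsgLib.Layer.map_frattini_le f hf (Subgroup.mem_map_of_mem _ hv), rfl⟩
      · refine ⟨⟨w, hNM (h.hKN hw)⟩, ?_, rfl⟩
        rw [SetLike.mem_coe, Subgroup.mem_comap, hπ, QuotientGroup.mk'_apply,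
          (QuotientGroup.eq_one_iff _).2 (Subgroup.mem_subgroupOf.2 hw)]
        exact one_mem _
    intro w hw
    obtain ⟨w', hw', e⟩ := hle hw
    rw [← (Subtype.ext e : w' = w)]
    exact hw'
  have hord : (orderOf (π x)) ∣ orderOf (x : X) := by
    rw [Subgroup.orderOf_coe]
    exact orderOf_map_dvd π x
  have hNbp : IsPGroup p Nb := (h.hN.comap_of_injective (amb N Kn).subtype (amb N Kn).subtype_injective).map π
  have hc : (Nat.card (Subgroup.zpowers (π x))).Coprime (Nat.card (frattini Nb)) := by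
    rw [Nat.card_zpowers]
    obtain ⟨k, hk⟩ := IsPGroup.iff_card.1 (hNbp.to_subgroup (frattini Nb))
    rw [hk]
    exact (hcop.coprime_dvd_left hord).pow_right k
  have hcent := CfsgLib.Coprime.le_centralizer_of_frattini hxN hc (by
    intro a ha v hv
    obtain ⟨v, hv, rfl⟩ := hv
    obtain ⟨i, rfl⟩ := Subgroup.mem_zpowers_iff.1 ha
    rw [← map_zpow, ← map_inv, ← map_inv, ← map_mul, ← map_mul, ← map_mul]
    refine hfrat _ ?_
    have hxi : secRep N Kn p (x ^ i) = 1 := by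
      have hker : x ∈ (secRep N Kn p).ker := hx
      exact zpow_mem hker i
    have h3 := (frat N Kn).inv_mem ((secRep_eq_one_iff h).1 hxi _ (Subgroup.mem_subgroupOf.1 hv))
    simpa [commutatorElement_def, mul_assoc] using h3) (Subgroup.mem_zpowers (π x))
    (π (⟨u, hNM hu⟩⁻¹ : (amb N Kn))) (Subgroup.mem_map_of_mem π (Subgroup.mem_subgroupOf.2 (N.inv_mem hu)))
  rw [← map_mul, ← map_mul, hπ, QuotientGroup.mk'_apply, QuotientGroup.mk'_apply, QuotientGroup.eq,
    Subgroup.mem_subgroupOf] at hcent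
  have h2 := (Subgroup.mem_normalizer_iff.1 x.2.2 _).1 hcent
  simpa [commutatorElement_def, mul_assoc] using h2

variable {s : X} {r : ℕ}

/-- Fixed functionals are determined on the fixed points. -/
theorem SecData.fixed_ext (h : SecData N Kn p) (hr : r.Prime) (hrp : r ≠ p) (hsr : s ^ r = 1)
    (hs : s ∈ amb N Kn) {g : Dual p (secV N Kn)} (hg : secRep N Kn p ⟨s, hs⟩ g = g)
    (h0 : ∀ c : secV N Kn, (c : amb N Kn ⧸ (frat N Kn).subgroupOf (amb N Kn)) ∈
      Subgroup.centralizer ({sq N Kn ⟨s, hs⟩} : Set _) → g (Additive.ofMul c) = 0) : g = 0 := by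
  refine eq_zero_of_fixed p h.elementary (top_le_normalizer_secV N Kn) (sqTop N Kn ⟨s, hs⟩) ?_ hg h0
  refine Nat.Coprime.coprime_dvd_left ?_ ((Nat.coprime_primes hr (Fact.out : p.Prime)).2 hrp)
  refine orderOf_dvd_of_pow_eq_one ?_
  show (sq N Kn ⟨s, hs⟩) ^ r = 1
  rw [← map_pow, show (⟨s, hs⟩ : amb N Kn) ^ r = 1 from Subtype.ext (by simpa using hsr), map_one]

/-- Fixed points of the section lift. -/
theorem SecData.lift_fixed (h : SecData N Kn p) (hr : r.Prime) (hrp : r ≠ p) (hsr : s ^ r = 1)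
    (hs : s ∈ amb N Kn) {B : Subgroup X} (hBN : B ≤ N) (hsB : s ∈ Subgroup.normalizer (B : Set X))
    {v : amb N Kn ⧸ (frat N Kn).subgroupOf (amb N Kn)}
    (hv : v ∈ (B.subgroupOf (amb N Kn)).map (sq N Kn))
    (hvs : v ∈ Subgroup.centralizer ({sq N Kn ⟨s, hs⟩} : Set _)) :
    ∃ c : amb N Kn, (c : X) ∈ B ∧ (c : X) * s = s * c ∧ sq N Kn c = v := by
  have hsB' : Subgroup.zpowers (⟨s, hs⟩ : (amb N Kn)) ≤ Subgroup.normalizer (B.subgroupOf (amb N Kn) : Set (amb N Kn)) := by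
    rw [Subgroup.zpowers_le]
    exact mem_normalizer_of_conj fun u hu => Subgroup.mem_subgroupOf.2 (by
      simpa using (Subgroup.mem_normalizer_iff.1 hsB (u : X)).1 (Subgroup.mem_subgroupOf.1 hu))
  have hBp : IsPGroup p (B.subgroupOf (amb N Kn)) := (h.hN.to_le hBN).comap_of_injective (amb N Kn).subtype (amb N Kn).subtype_injective
  have hcop : (Nat.card (Subgroup.zpowers (⟨s, hs⟩ : (amb N Kn)))).Coprime (Nat.card (B.subgroupOf (amb N Kn))) := by
    obtain ⟨k, hk⟩ := IsPGroup.iff_card.1 hBp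
    rw [hk, Nat.card_zpowers]
    refine ((Nat.coprime_primes hr (Fact.out : p.Prime)).2 hrp).pow_right k |>.coprime_dvd_left ?_
    exact orderOf_dvd_of_pow_eq_one (Subtype.ext (by simpa using hsr))
  have hmap := CfsgLib.Coprime.map_inf_centralizer hsB' hcop
    (Or.inl (CfsgLib.Coprime.isSolvable_of_isMulCommutative _)) (sq N Kn)
  have hmem : v ∈ (B.subgroupOf (amb N Kn)).map (sq N Kn) ⊓ Subgroup.centralizer
      (((Subgroup.zpowers (⟨s, hs⟩ : (amb N Kn))).map (sq N Kn) : Subgroup _) : Set _) := by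
    refine ⟨hv, ?_⟩
    rintro _ ⟨a, ha, rfl⟩
    obtain ⟨i, rfl⟩ := Subgroup.mem_zpowers_iff.1 ha
    rw [map_zpow]
    exact ((show Commute v (sq N Kn ⟨s, hs⟩) from
      (Subgroup.mem_centralizer_singleton_iff.1 hvs)).zpow_right i).eq.symm
  rw [← hmap] at hmem
  obtain ⟨c, ⟨hcB, hcs⟩, e⟩ := hmem
  exact ⟨c, Subgroup.mem_subgroupOf.1 hcB,
    congrArg Subtype.val (hcs ⟨s, hs⟩ (Subgroup.mem_zpowers _)).symm, e⟩

/-- An element commuting with `s` whose difference vanishes on the fixed points fixes the fixed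
functional. -/
theorem SecData.apply_fixed (h : SecData N Kn p) (hr : r.Prime) (hrp : r ≠ p) (hsr : s ^ r = 1)
    (hs : s ∈ amb N Kn) {x : amb N Kn} (hxs : (x : X) * s = s * x) {f : Dual p (secV N Kn)}
    (hf : secRep N Kn p ⟨s, hs⟩ f = f)
    (h0 : ∀ c : secV N Kn, (c : amb N Kn ⧸ (frat N Kn).subgroupOf (amb N Kn)) ∈
      Subgroup.centralizer ({sq N Kn ⟨s, hs⟩} : Set _) → (secRep N Kn p x f) (Additive.ofMul c) =
        f (Additive.ofMul c)) : secRep N Kn p x f = f := by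
  refine sub_eq_zero.1 (h.fixed_ext hr hrp hsr hs (g := secRep N Kn p x f - f) ?_ fun c hc => ?_)
  · have hc : secRep N Kn p ⟨s, hs⟩ * secRep N Kn p x = secRep N Kn p x * secRep N Kn p ⟨s, hs⟩ := by
      rw [← map_mul, ← map_mul]
      exact congrArg _ (Subtype.ext hxs.symm)
    rw [map_sub, hf, ← Module.End.mul_apply, hc, Module.End.mul_apply, hf]
  · rw [AddMonoidHom.sub_apply, h0 c hc, sub_self]

/-- An element centralizing the fixed points of `N/K` fixes the fixed functionals. -/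
theorem SecData.rep_fix (h : SecData N Kn p) (hr : r.Prime) (hrp : r ≠ p) (hsr : s ^ r = 1)
    (hs : s ∈ amb N Kn) {x : amb N Kn} (hxs : (x : X) * s = s * x)
    (hx : ∀ c ∈ N, c * s = s * c → ⁅c, (x : X)⁆ ∈ Kn) (f : Dual p (secV N Kn))
    (hf : secRep N Kn p ⟨s, hs⟩ f = f) : secRep N Kn p x f = f := by
  refine h.apply_fixed hr hrp hsr hs hxs hf fun v hv => ?_
  obtain ⟨c, hcN, hcs, hce⟩ := h.lift_fixed hr hrp hsr hs le_rfl (show s ∈ _ from hs.1) v.2 hv
  rw [secRep_apply]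
  refine congrArg (fun w => f (Additive.ofMul w)) (Subtype.ext ?_)
  rw [CfsgLib.Coprime.coe_conjAct, ← hce]
  show (sq N Kn x)⁻¹ * sq N Kn c * ((sq N Kn x)⁻¹)⁻¹ = sq N Kn c
  rw [inv_inv, ← map_inv, ← map_mul, ← map_mul, sq_eq_iff]
  have h1 := (Subgroup.mem_normalizer_iff.1 (inv_mem x.2.2) _).1 (hx _ (N.inv_mem hcN)
    (show Commute (c : X) s from hcs).inv_left.eq)
  refine Subgroup.mem_sup_right ?_
  simpa [commutatorElement_def, mul_assoc] using h1

/-- Without fixed points in `N/K` there are no fixed functionals. -/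
theorem SecData.fix_eq_bot (h : SecData N Kn p) (hr : r.Prime) (hrp : r ≠ p) (hsr : s ^ r = 1)
    (hs : s ∈ amb N Kn) (hC : ∀ c ∈ N, c * s = s * c → c ∈ Kn) :
    fix (secRep N Kn p) ⟨s, hs⟩ = ⊥ := by
  refine (Submodule.eq_bot_iff _).2 fun f hf => h.fixed_ext hr hrp hsr hs hf fun v hv => ?_
  obtain ⟨c, hcN, hcs, hce⟩ := h.lift_fixed hr hrp hsr hs le_rfl (show s ∈ _ from hs.1) v.2 hv
  have hc1 : sq N Kn c = 1 := by
    rw [← map_one (sq N Kn), sq_eq_iff]
    simpa using (frat N Kn).inv_mem (Subgroup.mem_sup_right (hC _ hcN hcs))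
  rw [show v = 1 from Subtype.ext (hce.symm.trans hc1), ofMul_one, map_zero]

/-- An element centralizing the fixed points of `[N, A]` fixes the fixed functionals in the moved
part of `A`. -/
theorem SecData.rep_fix_moved (h : SecData N Kn p) (hr : r.Prime) (hrp : r ≠ p) (hsr : s ^ r = 1)
    (hs : s ∈ amb N Kn) {x : amb N Kn} (hxs : (x : X) * s = s * x) {A : Subgroup X}
    (hA : A ≤ amb N Kn) (hAcop : (Nat.card A).Coprime p) (hsA : s ∈ Subgroup.normalizer (A : Set X))
    (hxA : (x : X) ∈ Subgroup.normalizer (A : Set X))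
    (hx : ∀ c ∈ ⁅N, A⁆, c * s = s * c → ⁅c, (x : X)⁆ ∈ Kn) (f : Dual p (secV N Kn))
    (hfm : f ∈ moved (secRep N Kn p) (A.subgroupOf (amb N Kn)))
    (hf : secRep N Kn p ⟨s, hs⟩ f = f) : secRep N Kn p x f = f := by
  classical
  haveI := h.elementary.1
  set Ab := (A.subgroupOf (amb N Kn)).map (sq N Kn) with hAb
  have hAbV : Ab ≤ Subgroup.normalizer ((secV N Kn) : Set _) := le_top.trans (top_le_normalizer_secV N Kn)
  have hVp : ∃ k, Nat.card (secV N Kn) = p ^ k :=
    IsPGroup.exists_card_eq (p := p) (fun v => ⟨1, Subtype.ext (by simpa using h.elementary.2 v v.2)⟩)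
  have hcop : (Nat.card Ab).Coprime (Nat.card (secV N Kn)) := by
    obtain ⟨k, hk⟩ := hVp
    rw [hk]
    refine Nat.Coprime.pow_right k (hAcop.coprime_dvd_left ?_)
    rw [← Nat.card_congr (Subgroup.subgroupOfEquivOfLe hA).toEquiv]
    exact Subgroup.card_map_dvd (f := sq N Kn) (A.subgroupOf (amb N Kn))
  set Sb := Subgroup.zpowers (sq N Kn ⟨s, hs⟩) with hSb
  set CV := (secV N Kn) ⊓ Subgroup.centralizer (Ab : Set (amb N Kn ⧸ (frat N Kn).subgroupOf (amb N Kn))) with hCV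
  have hnormA : ∀ g : (amb N Kn), (g : X) ∈ Subgroup.normalizer (A : Set X) →
      sq N Kn g ∈ Subgroup.normalizer (Ab : Set (amb N Kn ⧸ (frat N Kn).subgroupOf (amb N Kn))) := by
    intro g hg
    refine mem_normalizer_of_conj ?_
    rintro _ ⟨a, ha, rfl⟩
    exact ⟨g * a * g⁻¹, Subgroup.mem_subgroupOf.2 (by
      simpa using (Subgroup.mem_normalizer_iff.1 hg (a : X)).1 (Subgroup.mem_subgroupOf.1 ha)),
      by rw [map_mul, map_mul, map_inv]⟩
  have hsAb : Sb ≤ Subgroup.normalizer (Ab : Set (amb N Kn ⧸ (frat N Kn).subgroupOf (amb N Kn))) := Subgroup.zpowers_le.2 (hnormA _ hsA)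
  have hsV : Sb ≤ Subgroup.normalizer ((secV N Kn) : Set _) := le_top.trans (top_le_normalizer_secV N Kn)
  have hsC : Sb ≤ Subgroup.normalizer (CV : Set _) :=
    CfsgLib.Coprime.le_normalizer_inf_of_le hsV (CfsgLib.Coprime.le_normalizer_centralizer hsAb)
  have hsVA : Sb ≤ Subgroup.normalizer ((⁅(secV N Kn), Ab⁆ : Subgroup _) : Set _) :=
    CfsgLib.Coprime.le_normalizer_commutator hsV hsAb
  have hdec := CfsgLib.Coprime.centralizer_sup_commutator_eq hAbV hcop
  have hScop : (Nat.card Sb).Coprime (Nat.card CV) := by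
    obtain ⟨k, hk⟩ := hVp
    obtain ⟨j, -, hj⟩ := (Nat.dvd_prime_pow (Fact.out : p.Prime)).1
      (hk ▸ Subgroup.card_dvd_of_le (inf_le_left : CV ≤ (secV N Kn)))
    rw [hj, Nat.card_zpowers]
    refine (((Nat.coprime_primes hr (Fact.out : p.Prime)).2 hrp).pow_right j).coprime_dvd_left ?_
    refine orderOf_dvd_of_pow_eq_one ?_
    rw [← map_pow, show (⟨s, hs⟩ : (amb N Kn)) ^ r = 1 from Subtype.ext (by simpa using hsr), map_one]
  have hcommV : ⁅(secV N Kn), Ab⁆ ≤ (secV N Kn) := CfsgLib.Coprime.commutator_le_left_of_le_normalizer hAbV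
  -- the moved functionals vanish on the fixed part of `A`
  have hvan : ∀ c : (secV N Kn), (c : (amb N Kn) ⧸ (frat N Kn).subgroupOf (amb N Kn)) ∈ Subgroup.centralizer (Ab : Set (amb N Kn ⧸ (frat N Kn).subgroupOf (amb N Kn))) →
      f (Additive.ofMul c) = 0 := by
    intro c hc
    refine Submodule.iSup_induction (fun e : A.subgroupOf (amb N Kn) => LinearMap.range (secRep N Kn p (e : (amb N Kn)) - 1))
      (motive := fun z => z (Additive.ofMul c) = 0) hfm ?_ rfl
      (fun a b ha hb => by rw [AddMonoidHom.add_apply, ha, hb, add_zero])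
    rintro ⟨e, he⟩ _ ⟨g, rfl⟩
    rw [LinearMap.sub_apply, Module.End.one_apply, AddMonoidHom.sub_apply, secRep_apply, sub_eq_zero]
    refine congrArg (fun w => g (Additive.ofMul w)) (Subtype.ext ?_)
    rw [CfsgLib.Coprime.coe_conjAct]
    show (sq N Kn e)⁻¹ * (c : (amb N Kn) ⧸ (frat N Kn).subgroupOf (amb N Kn)) * ((sq N Kn e)⁻¹)⁻¹ = c
    rw [inv_inv, mul_assoc, (hc _ (Subgroup.mem_map_of_mem _ he)).symm, inv_mul_cancel_left]
  refine h.apply_fixed hr hrp hsr hs hxs hf fun v hv => ?_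
  have hveq : (v : (amb N Kn) ⧸ (frat N Kn).subgroupOf (amb N Kn)) ∈
      (CV ⊓ Subgroup.centralizer (Sb : Set (amb N Kn ⧸ (frat N Kn).subgroupOf (amb N Kn)))) ⊔ (⁅(secV N Kn), Ab⁆ ⊓ Subgroup.centralizer (Sb : Set (amb N Kn ⧸ (frat N Kn).subgroupOf (amb N Kn)))) := by
    refine CfsgLib.Coprime.inf_centralizer_le_sup hsC hsVA ?_ hScop
      (Or.inl (CfsgLib.Coprime.isSolvable_of_isMulCommutative _)) ⟨hdec.ge v.2, ?_⟩
    · intro w hw
      refine mem_normalizer_of_conj fun c hc => ?_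
      have e : (⟨w, hcommV hw⟩ : (secV N Kn)) * ⟨c, hc.1⟩ = ⟨c, hc.1⟩ * ⟨w, hcommV hw⟩ := mul_comm' _ _
      have e' : w * c = c * w := congrArg Subtype.val e
      rwa [e', mul_inv_cancel_right]
    · rintro a ha
      obtain ⟨i, rfl⟩ := Subgroup.mem_zpowers_iff.1 ha
      exact ((show Commute (v : (amb N Kn) ⧸ (frat N Kn).subgroupOf (amb N Kn)) (sq N Kn ⟨s, hs⟩) from
        (Subgroup.mem_centralizer_singleton_iff.1 hv)).zpow_right i).eq.symm
  let D : Subgroup ((amb N Kn) ⧸ (frat N Kn).subgroupOf (amb N Kn)) :=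
    { carrier := {w | ∃ hw : w ∈ (secV N Kn), (secRep N Kn p x f) (Additive.ofMul ⟨w, hw⟩) = f (Additive.ofMul ⟨w, hw⟩)}
      one_mem' := ⟨(secV N Kn).one_mem, by
        rw [show (⟨1, (secV N Kn).one_mem⟩ : (secV N Kn)) = 1 from rfl, ofMul_one, map_zero, map_zero]⟩
      mul_mem' := by
        rintro a b ⟨ha, ha'⟩ ⟨hb, hb'⟩
        refine ⟨(secV N Kn).mul_mem ha hb, ?_⟩
        rw [show (⟨a * b, (secV N Kn).mul_mem ha hb⟩ : (secV N Kn)) = (⟨a, ha⟩ : (secV N Kn)) * ⟨b, hb⟩ from rfl, ofMul_mul, map_add,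
          map_add, ha', hb']
      inv_mem' := by
        rintro a ⟨ha, ha'⟩
        refine ⟨(secV N Kn).inv_mem ha, ?_⟩
        rw [show (⟨a⁻¹, (secV N Kn).inv_mem ha⟩ : (secV N Kn)) = (⟨a, ha⟩ : (secV N Kn))⁻¹ from rfl, ofMul_inv, map_neg, map_neg, ha'] }
  obtain ⟨_, hD⟩ : (v : (amb N Kn) ⧸ (frat N Kn).subgroupOf (amb N Kn)) ∈ D := by
    refine (sup_le ?_ ?_ : (CV ⊓ Subgroup.centralizer (Sb : Set (amb N Kn ⧸ (frat N Kn).subgroupOf (amb N Kn)))) ⊔
      (⁅(secV N Kn), Ab⁆ ⊓ Subgroup.centralizer (Sb : Set (amb N Kn ⧸ (frat N Kn).subgroupOf (amb N Kn)))) ≤ D) hveq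
    · rintro c ⟨⟨hcV, hcA⟩, -⟩
      refine ⟨hcV, ?_⟩
      rw [hvan ⟨c, hcV⟩ hcA, secRep_apply]
      refine hvan _ ?_
      have hn := CfsgLib.Coprime.le_normalizer_centralizer (A := Subgroup.zpowers (sq N Kn x))
        (Subgroup.zpowers_le.2 (hnormA x hxA)) (inv_mem (Subgroup.mem_zpowers _))
      exact (Subgroup.mem_normalizer_iff.1 hn c).1 hcA
    · rintro c ⟨hc, hcs⟩
      refine ⟨hcommV hc, ?_⟩
      rw [secRep_apply]
      refine congrArg (fun w => f (Additive.ofMul w)) (Subtype.ext ?_)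
      have hmap : ⁅(secV N Kn), Ab⁆ = ((⁅N, A⁆ : Subgroup X).subgroupOf (amb N Kn)).map (sq N Kn) := by
        have hc1 : ⁅N.subgroupOf (amb N Kn), A.subgroupOf (amb N Kn)⁆ = (⁅N, A⁆ : Subgroup X).subgroupOf (amb N Kn) := by
          apply Subgroup.map_injective (amb N Kn).subtype_injective
          rw [commutator_subgroupOf_map h.le_amb hA, Subgroup.map_subgroupOf_eq_of_le]
          exact (CfsgLib.Coprime.commutator_le_left_of_le_normalizer (hA.trans inf_le_left)).trans h.le_amb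
        rw [← hc1, Subgroup.map_commutator, hAb, secV]
      obtain ⟨d, hd, hds, hde⟩ := h.lift_fixed hr hrp hsr hs
        (CfsgLib.Coprime.commutator_le_left_of_le_normalizer (hA.trans inf_le_left))
        (CfsgLib.Coprime.le_normalizer_commutator (A := Subgroup.zpowers s)
          (Subgroup.zpowers_le.2 (show s ∈ _ from hs.1)) (Subgroup.zpowers_le.2 hsA) (Subgroup.mem_zpowers s))
        (hmap ▸ hc) (Subgroup.mem_centralizer_singleton_iff.2 (hcs _ (Subgroup.mem_zpowers _)).symm)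
      rw [CfsgLib.Coprime.coe_conjAct]
      show (sq N Kn x)⁻¹ * c * ((sq N Kn x)⁻¹)⁻¹ = c
      rw [← hde, inv_inv, ← map_inv, ← map_mul, ← map_mul, sq_eq_iff]
      have h1 := (Subgroup.mem_normalizer_iff.1 (inv_mem x.2.2) _).1
        (hx _ (Subgroup.inv_mem _ hd) (show Commute (d : X) s from hds).inv_left.eq)
      refine Subgroup.mem_sup_right ?_
      simpa [commutatorElement_def, mul_assoc] using h1
  exact hD

end CfsgLib.FitTuran
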