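import Cfsg.Agent.Lib.FitTuran.Small
import Cfsg.Agent.Lib.FitTuran.FuncF
import Cfsg.Agent.Lib.CoprimePlane.Structure

/-!
Elements of the fixed points that act trivially on the moved fixed vectors act trivially.
-/

set_option autoImplicit false
set_option linter.style.haveILetI false
set_option linter.unusedSectionVars false

open scoped commutatorElement

namespace CfsgLib.FitTuran

open CfsgLib.BG.FixedLine CfsgLib.HallHigman

section Group

variable {Y : Type*} [Group Y] [Finite Y]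

/-- Invariance under conjugation by `s` gives invariance under its powers. -/
theorem invariant_zpowers {β : Type*} {Q : Subgroup Y} {s : Y}
    (hsQ : s ∈ Subgroup.normalizer (Q : Set Y)) {φ : Q → β}
    (h : ∀ u v : Q, (v : Y) = s * (u : Y) * s⁻¹ → φ v = φ u) :
    ∀ a ∈ Subgroup.zpowers s, ∀ u v : Q, (v : Y) = a * (u : Y) * a⁻¹ → φ v = φ u := by
  intro a ha
  obtain ⟨m, hm⟩ := (isOfFinOrder_of_finite s).mem_powers_iff_mem_zpowers.2 ha
  have hm' : s ^ m = a := hm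
  subst hm'
  clear hm ha
  induction m with
  | zero =>
    intro u v e
    rw [pow_zero, one_mul, inv_one, mul_one] at e
    rw [Subtype.ext e]
  | succ m ih =>
    intro u v e
    have hw : s ^ m * (u : Y) * (s ^ m)⁻¹ ∈ Q :=
      (Subgroup.mem_normalizer_iff.1 (pow_mem hsQ m) _).1 u.2
    rw [h ⟨_, hw⟩ v (by rw [e, pow_succ']; group), ih u ⟨_, hw⟩ rfl]

/-- An invariant homomorphism to a commutative group kills the commutators. -/
theorem map_eq_one_on_commutator {κ : Type*} [CommGroup κ] {Q A : Subgroup Y}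
    (hA : A ≤ Subgroup.normalizer (Q : Set Y)) (φ : Q →* κ)
    (h : ∀ a ∈ A, ∀ u v : Q, (v : Y) = a * (u : Y) * a⁻¹ → φ v = φ u)
    (e : Q) (he : (e : Y) ∈ ⁅Q, A⁆) : φ e = 1 := by
  have hle : ⁅Q, A⁆ ≤ φ.ker.map Q.subtype := by
    refine Subgroup.commutator_le.2 fun u hu a ha => ?_
    have hu' : a * u * a⁻¹ ∈ Q := (Subgroup.mem_normalizer_iff.1 (hA ha) u).1 hu
    refine ⟨(⟨u, hu⟩ : Q) * (⟨_, hu'⟩ : Q)⁻¹, ?_, ?_⟩
    · rw [SetLike.mem_coe, MonoidHom.mem_ker, map_mul, map_inv, h a ha ⟨u, hu⟩ ⟨_, hu'⟩ rfl,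
        mul_inv_cancel]
    · simp [commutatorElement_def, mul_assoc]
  obtain ⟨e', he', ee⟩ := hle he
  rw [← (Subtype.ext ee : e' = e)]
  exact he'

/-- A subgroup normalizes its commutator with any other. -/
theorem left_le_normalizer_comm (Q S : Subgroup Y) :
    Q ≤ Subgroup.normalizer ((⁅Q, S⁆ : Subgroup Y) : Set Y) := by
  intro h hh
  refine mem_normalizer_of_conj ?_
  have hle : ⁅Q, S⁆ ≤ (⁅Q, S⁆).comap (MulAut.conj h).toMonoidHom := by
    refine Subgroup.commutator_le.2 fun a ha g hg => ?_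
    rw [Subgroup.mem_comap]
    show h * ⁅a, g⁆ * h⁻¹ ∈ ⁅Q, S⁆
    rw [show h * ⁅a, g⁆ * h⁻¹ = ⁅h * a, g⁆ * ⁅h, g⁆⁻¹ by simp only [commutatorElement_def]; group]
    exact Subgroup.mul_mem _ (Subgroup.commutator_mem_commutator (Q.mul_mem hh ha) hg)
      (Subgroup.inv_mem _ (Subgroup.commutator_mem_commutator hh hg))
  exact fun z hz => hle hz

end Group

variable {K W Y : Type*} [Field K] [IsAlgClosed K] [AddCommGroup W] [Module K W]
  [FiniteDimensional K W] [Group Y] [Finite Y] {ρ : Y →* Module.End K W}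

omit [IsAlgClosed K] [FiniteDimensional K W] in
/-- Two elements acting equally on a nonzero component have equal scalars. -/
theorem chi_eq {A : Subgroup Y} {U : Submodule K W} (hne : U ≠ ⊥) {μ : Chi K A}
    (hμ : U ≤ comp ρ A μ) {a b : A} (h : ∀ v ∈ U, ρ (a : Y) v = ρ (b : Y) v) : μ a = μ b := by
  obtain ⟨v, hv, hv0⟩ := Submodule.exists_mem_ne_zero_of_ne_bot hne
  refine Units.ext (smul_left_injective K hv0 ?_)
  show (μ a : K) • v = (μ b : K) • v
  rw [← hμ hv a, ← hμ hv b, h v hv]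

omit [IsAlgClosed K] [FiniteDimensional K W] in
theorem chi_eq_one {A : Subgroup Y} {U : Submodule K W} (hne : U ≠ ⊥) {μ : Chi K A}
    (hμ : U ≤ comp ρ A μ) {a : A} {v : W} (hv : v ∈ U) (hv0 : v ≠ 0) (h : ρ (a : Y) v = v) :
    μ a = 1 := by
  refine Units.ext (smul_left_injective K hv0 ?_)
  show (μ a : K) • v = ((1 : Kˣ) : K) • v
  rw [Units.val_one, one_smul, ← hμ hv a, h]

namespace QData

variable {Q : Subgroup Y} {s : Y} {r q : ℕ} (hd : QData ρ Q s r q)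

include hd

/-- A fixed element acting trivially on the moved fixed vectors is the identity on a stable
component with moved fixed vectors. -/
theorem apply_eq_self {U : Submodule K W} (hU : Irred ρ (Q ⊔ Subgroup.zpowers s) U) (hUQ : Inv ρ Q U)
    {μ : Chi K (centOn ρ Q U hUQ)} (hμ : U ≤ comp ρ _ μ)
    (hinv : ∀ a b : centOn ρ Q U hUQ, (b : Y) = s * (a : Y) * s⁻¹ → μ b = μ a)
    (hne : fix ρ s ⊓ U ≠ ⊥) (hmoves : ¬ ∀ e ∈ ⁅Q, Subgroup.zpowers s⁆, ∀ v ∈ U, ρ e v = v)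
    {x : Y} (hx : x ∈ Q) (hxs : x * s = s * x)
    (hfix : ∀ u ∈ moved ρ ⁅Q, Subgroup.zpowers s⁆, ρ s u = u → ρ x u = u) :
    ∀ v ∈ U, ρ x v = v := by
  set EQ := ⁅Q, Subgroup.zpowers s⁆ with hEQ
  have hEQQ : EQ ≤ Q := commutator_zpowers_le hd.hsQ
  -- the moved vectors cover the component
  have hUmov : U ≤ moved ρ EQ := by
    refine mem_of_no_fixed (hd.card_Q_ne_zero hEQQ) (hUQ.mono hEQQ) (fun v e he => sub_mem_moved v he) ?_
    intro v hv hvfix
    by_contra hv0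
    let S : Submodule K W :=
      { carrier := {w | w ∈ U ∧ ∀ e ∈ EQ, ρ e w = w}
        add_mem' := fun {a b} ha hb => ⟨U.add_mem ha.1 hb.1, fun e he => by rw [map_add, ha.2 e he, hb.2 e he]⟩
        zero_mem' := ⟨U.zero_mem, fun e _ => map_zero _⟩
        smul_mem' := fun c a ha => ⟨U.smul_mem c ha.1, fun e he => by rw [map_smul, ha.2 e he]⟩ }
    have hS : Inv ρ (Q ⊔ Subgroup.zpowers s) S := by
      intro g hg w hw
      have hgN : g ∈ Subgroup.normalizer (EQ : Set Y) :=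
        (sup_le (left_le_normalizer_comm Q _)
          (Subgroup.zpowers_le.2 (le_normalizer_commutator_zpowers hd.hsQ)) :
          Q ⊔ Subgroup.zpowers s ≤ _) hg
      refine ⟨hU.2.1 g hg w hw.1, fun e he => ?_⟩
      have he' : g⁻¹ * e * g ∈ EQ := by
        have := (Subgroup.mem_normalizer_iff.1 (inv_mem hgN) e).1 he
        rwa [inv_inv] at this
      rw [← rho_mul, show e * g = g * (g⁻¹ * e * g) by group, rho_mul, hw.2 _ he']
    rcases hU.2.2 S (fun w hw => hw.1) hS with e | e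
    · have : v ∈ S := ⟨hv, hvfix⟩
      rw [e, Submodule.mem_bot] at this
      exact hv0 this
    · exact hmoves fun g hg w hw => (e.symm ▸ hw : w ∈ S).2 g hg
  obtain ⟨u, hu, hu0⟩ := Submodule.exists_mem_ne_zero_of_ne_bot hne
  have hxu : ∀ w ∈ fix ρ s ⊓ U, ρ x w = w := fun w hw => hfix w (hUmov hw.2) hw.1
  -- the commutator scalar of `x`
  have hxc : ∀ g : Q, ⁅x, (g : Y)⁆ ∈ centOn ρ Q U hUQ := fun g => hd.commutator_mem_centOn hUQ hx g.2
  let φ : Q →* Kˣ :=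
    { toFun := fun g => μ ⟨_, hxc g⟩
      map_one' := by
        rw [← map_one μ]
        exact congrArg μ (Subtype.ext (by simp))
      map_mul' := fun g h => by
        rw [← map_mul]
        refine chi_eq hU.1 hμ fun v hv => ?_
        show ρ ⁅x, ((g * h : Q) : Y)⁆ v = ρ (⁅x, (g : Y)⁆ * ⁅x, (h : Y)⁆) v
        rw [Subgroup.coe_mul, show ⁅x, (g : Y) * h⁆ = ⁅x, (g : Y)⁆ * ((g : Y) * ⁅x, (h : Y)⁆ * (g : Y)⁻¹) by
          simp only [commutatorElement_def]; group, rho_mul, rho_mul ρ ⁅x, (g : Y)⁆ ⁅x, (h : Y)⁆, rho_mul,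
          rho_mul, (mem_centOn.1 (hxc h)).2 _ (Q.inv_mem g.2) v hv, rho_apply_inv] }
  have hφ : ∀ (g : Q) (v : W), v ∈ U → ρ ⁅x, (g : Y)⁆ v = (φ g : K) • v := fun g v hv => hμ hv ⟨_, hxc g⟩
  have hφs : ∀ g g' : Q, (g' : Y) = s * (g : Y) * s⁻¹ → φ g' = φ g := by
    intro g g' e
    refine hinv ⟨_, hxc g⟩ ⟨_, hxc g'⟩ ?_
    show ⁅x, (g' : Y)⁆ = s * ⁅x, (g : Y)⁆ * s⁻¹
    have hx' : s * x * s⁻¹ = x := by rw [← hxs, mul_inv_cancel_right]
    conv_lhs => rw [e, ← hx']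
    simp only [commutatorElement_def]
    group
  have hkill : ∀ g : Q, φ g = 1 := by
    have hsup := CfsgLib.Coprime.commutator_sup_centralizer (K := Q) (Subgroup.zpowers_le.2 hd.hsQ) hd.coprime
      (Or.inl (CfsgLib.Coprime.isSolvable_of_isMulCommutative _))
    have hle : Q ≤ φ.ker.map Q.subtype := by
      refine hsup.symm.le.trans (sup_le (fun e he => ?_) fun c hc => ?_)
      · exact ⟨⟨e, hEQQ he⟩, map_eq_one_on_commutator (Subgroup.zpowers_le.2 hd.hsQ) φ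
          (invariant_zpowers hd.hsQ hφs) _ he, rfl⟩
      · refine ⟨⟨c, hc.1⟩, ?_, rfl⟩
        rw [SetLike.mem_coe, MonoidHom.mem_ker]
        have hcs : s * c = c * s := hc.2 s (Subgroup.mem_zpowers s)
        have hwU : ρ c u ∈ U := hUQ c hc.1 u hu.2
        have hwf : ρ c u ∈ fix ρ s ⊓ U := ⟨by
          show ρ s (ρ c u) = ρ c u
          rw [← rho_mul, hcs, rho_mul, (mem_fix ρ).1 hu.1], hwU⟩
        have hw0 : ρ c u ≠ 0 := fun e => hu0 (by rw [← rho_inv_apply (ρ := ρ) c u, e, map_zero])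
        refine Units.ext (smul_left_injective K hw0 ?_)
        show (φ ⟨c, hc.1⟩ : K) • ρ c u = ((1 : Kˣ) : K) • ρ c u
        rw [Units.val_one, one_smul, ← hφ _ _ hwU]
        show ρ ⁅x, c⁆ (ρ c u) = ρ c u
        conv_lhs => rw [← hxu u hu]
        rw [← rho_mul, ← rho_mul, show ⁅x, c⁆ * c * x = x * c by simp only [commutatorElement_def]; group,
          rho_mul, hxu _ hwf]
    intro g
    obtain ⟨g', hg', e⟩ := hle g.2
    rw [← (Subtype.ext e : g' = g)]
    exact hg'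
  have hxZ : x ∈ centOn ρ Q U hUQ := ⟨hx, fun f hf v hv => by
    rw [← rho_mul, ← rho_mul, show x * f = ⁅x, f⁆ * (f * x) by simp only [commutatorElement_def]; group,
      rho_mul, hφ ⟨f, hf⟩ _ (hUQ _ (Q.mul_mem hf hx) v hv), hkill, Units.val_one, one_smul]⟩
  intro v hv
  have := hμ hv ⟨x, hxZ⟩
  rwa [chi_eq_one hU.1 hμ (a := ⟨x, hxZ⟩) hu.2 hu0 (hxu u hu), Units.val_one, one_smul] at this

end QData

namespace PData

variable {P Q : Subgroup Y} {s : Y} {r q ℓ : ℕ} (h : PData ρ P Q s r q ℓ) (hd : QData ρ Q s r q)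

include h hd

omit [IsAlgClosed K] [FiniteDimensional K W] in
theorem le_normalizer_Q1 :
    ⁅P, Subgroup.zpowers s⁆ ≤ Subgroup.normalizer ((⁅Q, ⁅P, Subgroup.zpowers s⁆⁆ : Subgroup Y) : Set Y) :=
  CfsgLib.Coprime.le_normalizer_commutator ((commutator_zpowers_le h.hsP).trans h.hPQ) Subgroup.le_normalizer

omit [IsAlgClosed K] [FiniteDimensional K W] in
theorem mem_normalizer_Q1 {g : Y} (hgP : g ∈ Subgroup.normalizer (P : Set Y))
    (hgQ : g ∈ Subgroup.normalizer (Q : Set Y)) (hgs : g * s = s * g) :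
    g ∈ Subgroup.normalizer ((⁅Q, ⁅P, Subgroup.zpowers s⁆⁆ : Subgroup Y) : Set Y) :=
  CfsgLib.Coprime.le_normalizer_commutator (A := Subgroup.zpowers g) (Subgroup.zpowers_le.2 hgQ)
    (Subgroup.zpowers_le.2 (normalizer_commutator_zpowers hgP hgs)) (Subgroup.mem_zpowers g)

omit [IsAlgClosed K] [FiniteDimensional K W] in
theorem Q1_le : ⁅Q, ⁅P, Subgroup.zpowers s⁆⁆ ≤ Q :=
  CfsgLib.Coprime.commutator_le_left_of_le_normalizer ((commutator_zpowers_le h.hsP).trans h.hPQ)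

/-- Elements of the fixed points of `[Q, [P, s]]`, or their commutators with an element commuting
with `s`, that act trivially on the moved fixed vectors act trivially. -/
theorem eq_one_of_fix_moved (X : Set Y)
    (hX : X = {c | c ∈ ⁅Q, ⁅P, Subgroup.zpowers s⁆⁆ ∧ c * s = s * c} ∨
      ∃ y : Y, ∃ n : ℕ, y * s = s * y ∧ y ∈ Subgroup.normalizer (P : Set Y) ∧
        y ∈ Subgroup.normalizer (Q : Set Y) ∧ y ^ n = 1 ∧ ¬ r ∣ n ∧ (n.Coprime ℓ ∨ y ∈ P) ∧
        X = {x | ∃ c ∈ ⁅Q, ⁅P, Subgroup.zpowers s⁆⁆, c * s = s * c ∧ ⁅y, c⁆ = x})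
    (hfix : ∀ x ∈ X, ∀ u ∈ moved ρ ⁅Q, Subgroup.zpowers s⁆, ρ s u = u → ρ x u = u) :
    ∀ x ∈ X, ρ x = 1 := by
  classical
  haveI := Fact.mk hd.hq
  haveI := Fact.mk h.hℓ
  set E := ⁅P, Subgroup.zpowers s⁆ with hEdef
  set Q1 := ⁅Q, E⁆ with hQ1def
  have hEP : E ≤ P := commutator_zpowers_le h.hsP
  have hEQn : E ≤ Subgroup.normalizer (Q : Set Y) := hEP.trans h.hPQ
  have hQ1Q : Q1 ≤ Q := h.Q1_le hd
  have hsQ1 : s ∈ Subgroup.normalizer (Q1 : Set Y) := h.mem_normalizer_Q1 hd h.hsP hd.hsQ rfl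
  have hsE : s ∈ Subgroup.normalizer (E : Set Y) := le_normalizer_commutator_zpowers h.hsP
  -- the elements of `X` are fixed points of `Q1`
  have hXmem : ∀ x ∈ X, x ∈ Q1 ∧ x * s = s * x := by
    intro x hx
    rcases hX with e | ⟨y, n, hys, hyP, hyQ, -, -, -, e⟩ <;> rw [e] at hx
    · exact hx
    · obtain ⟨c, hc, hcs, rfl⟩ := hx
      refine ⟨?_, ?_⟩
      · rw [commutatorElement_def]
        exact Q1.mul_mem ((Subgroup.mem_normalizer_iff.1 (h.mem_normalizer_Q1 hd hyP hyQ hys) c).1 hc)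
          (Q1.inv_mem hc)
      · have h1 : Commute y s := hys
        have h2 : Commute c s := hcs
        rw [commutatorElement_def]
        exact (((h1.mul_left h2).mul_left h1.inv_left).mul_left h2.inv_left).eq
  intro x hx
  refine eq_id_of_irred (ρ := ρ) hd.top_ne_zero (ρ x) fun U hU => ?_
  obtain ⟨hUQ, hsZ, ⟨-, -, hfree⟩ | ⟨μ, hμ, hinv⟩⟩ := hd.dichotomy hU
  · refine hfree (ρ x) ?_ (fun V hV v hv => hV x (hQ1Q (hXmem x hx).1) v hv) (hfix x hx)
    rw [← map_mul, ← map_mul, (hXmem x hx).2]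
  by_cases hgood : fix ρ s ⊓ U ≠ ⊥ ∧ ¬ ∀ e ∈ ⁅Q, Subgroup.zpowers s⁆, ∀ v ∈ U, ρ e v = v
  · exact hd.apply_eq_self hU hUQ hμ hinv hgood.1 hgood.2 (hQ1Q (hXmem x hx).1) (hXmem x hx).2 (hfix x hx)
  have hsmall : fix ρ s ⊓ U = ⊥ ∨ ∀ e ∈ ⁅Q, Subgroup.zpowers s⁆, ∀ v ∈ U, ρ e v = v := by tauto
  have hQ1Z : Q1 ≤ centOn ρ Q U hUQ := h.commutator_le_centOn hd hU hUQ hμ hsmall
  set ν₀ : Q1 →* Kˣ := μ.comp (Subgroup.inclusion hQ1Z) with hν₀
  have hν₀app : ∀ (a : Q1) (v : W), v ∈ U → ρ (a : Y) v = (ν₀ a : K) • v :=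
    fun a v hv => hμ hv (Subgroup.inclusion hQ1Z a)
  suffices hone : ∀ a : Q1, (a : Y) ∈ X → ν₀ a = 1 by
    intro v hv
    have := hν₀app ⟨x, (hXmem x hx).1⟩ v hv
    rwa [hone _ hx, Units.val_one, one_smul] at this
  have hν₀inv : ∀ a b : Q1, (b : Y) = s * (a : Y) * s⁻¹ → ν₀ b = ν₀ a :=
    fun a b e => hinv (Subgroup.inclusion hQ1Z a) (Subgroup.inclusion hQ1Z b) e
  have hEQ1 : E ≤ Subgroup.normalizer (Q1 : Set Y) := h.le_normalizer_Q1 hd
  have hν₀inv' := invariant_zpowers hsQ1 hν₀inv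
  -- the stabilizer of `ν₀` in `E`
  let Γ : Subgroup Y :=
    { carrier := {g | g ∈ E ∧ ∀ a b : Q1, (b : Y) = g * (a : Y) * g⁻¹ → ν₀ b = ν₀ a}
      one_mem' := ⟨E.one_mem, fun a b e => by
        rw [one_mul, inv_one, mul_one] at e
        rw [Subtype.ext e]⟩
      mul_mem' := fun {g g'} hg hg' => ⟨E.mul_mem hg.1 hg'.1, fun a b e => by
        have hw := (Subgroup.mem_normalizer_iff.1 (hEQ1 hg'.1) (a : Y)).1 a.2
        rw [hg.2 ⟨_, hw⟩ b (by rw [e]; group), hg'.2 a ⟨_, hw⟩ rfl]⟩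
      inv_mem' := fun {g} hg => ⟨E.inv_mem hg.1, fun a b e => (hg.2 b a (by rw [e]; group)).symm⟩ }
  set H : Subgroup Y := Γ ⊔ ⁅E, E⁆ with hHdef
  have hΓE : Γ ≤ E := fun g hg => hg.1
  have hEEE : ⁅E, E⁆ ≤ E := Subgroup.commutator_le_self E
  have hHE : H ≤ E := sup_le hΓE hEEE
  by_cases hproper : E ≤ H
  · -- then `ν₀` is trivial
    have hEΓ : E ≤ Γ := CfsgLib.CoprimePlane.le_of_le_sup_commutator (h.hP.to_le hEP) hΓE hproper
    have hcopE : (Nat.card E).Coprime (Nat.card Q) :=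
      IsPGroup.coprime_card_of_ne ℓ q h.hℓq E Q (h.hP.to_le hEP) hd.hQ
    have hgen : ⁅Q1, E⁆ = Q1 := CfsgLib.Coprime.commutator_commutator_eq hEQn hcopE
      (Or.inr (haveI := hd.hQ.isNilpotent; inferInstance))
    intro a _
    exact map_eq_one_on_commutator hEQ1 ν₀ (fun g hg => (hEΓ hg).2) a (by rw [hgen]; exact a.2)
  -- moved translates
  have hHn : ∀ e ∈ E, ∀ g ∈ H, e * g * e⁻¹ ∈ H := fun e he g hg => by
    rw [show e * g * e⁻¹ = ⁅e, g⁆ * g by simp only [commutatorElement_def]; group]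
    exact H.mul_mem (Subgroup.mem_sup_right (Subgroup.commutator_mem_commutator he (hHE hg))) hg
  have hΓs : s ∈ Subgroup.normalizer (Γ : Set Y) := by
    refine mem_normalizer_of_conj fun g hg => ⟨(Subgroup.mem_normalizer_iff.1 hsE g).1 hg.1, fun a b e => ?_⟩
    have ha' : s⁻¹ * (a : Y) * s ∈ Q1 := by
      have := (Subgroup.mem_normalizer_iff.1 (inv_mem hsQ1) (a : Y)).1 a.2
      rwa [inv_inv] at this
    have hb' : g * (s⁻¹ * (a : Y) * s) * g⁻¹ ∈ Q1 := (Subgroup.mem_normalizer_iff.1 (hEQ1 hg.1) _).1 ha'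
    rw [hν₀inv ⟨_, hb'⟩ b (by rw [e]; group), hg.2 ⟨_, ha'⟩ ⟨_, hb'⟩ rfl]
    exact (hν₀inv ⟨_, ha'⟩ a (by group)).symm
  have hHs : ∀ g ∈ H, s * g * s⁻¹ ∈ H := by
    intro g hg
    have : s ∈ Subgroup.normalizer (H : Set Y) :=
      CfsgLib.Coprime.le_normalizer_sup_of_le (A := Subgroup.zpowers s) (Subgroup.zpowers_le.2 hΓs)
        (CfsgLib.Coprime.le_normalizer_commutator (Subgroup.zpowers_le.2 hsE) (Subgroup.zpowers_le.2 hsE))
        (Subgroup.mem_zpowers s)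
    exact (Subgroup.mem_normalizer_iff.1 this g).1 hg
  have hfpf : ∀ e ∈ E, e⁻¹ * (s * e * s⁻¹) ∈ H → e ∈ H := fun e he h1 =>
    fpf_of_eq_commutator (Q := E) hHE
      (fun u hu v hv => Subgroup.mem_sup_right (Subgroup.commutator_mem_commutator hu hv)) hsE
      (mem_normalizer_of_conj hHs) (h.hgen hd) he h1
  have hmove : ∀ e ∈ E, e ∉ H → ∀ a b : Q1, (a : Y) ∈ X → (b : Y) = e * (a : Y) * e⁻¹ → ν₀ b = 1 := by
    intro e he heH a b ha hb
    have hec : ∀ z : Q1, e * (z : Y) * e⁻¹ ∈ Q1 := fun z =>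
      (Subgroup.mem_normalizer_iff.1 (hEQ1 he) _).1 z.2
    let μ' : Chi K Q1 :=
      { toFun := fun z => ν₀ ⟨_, hec z⟩
        map_one' := by rw [← map_one ν₀]; exact congrArg ν₀ (Subtype.ext (by simp))
        map_mul' := fun z w => by
          rw [← map_mul]; exact congrArg ν₀ (Subtype.ext (by push_cast; group)) }
    set V : Submodule K W := U.map (ρ e⁻¹) with hV
    have hVQ : Inv ρ Q V := by
      rintro f hf _ ⟨v, hv, rfl⟩
      refine ⟨ρ (e * f * e⁻¹) v, hUQ _ ((Subgroup.mem_normalizer_iff.1 (hEQn he) f).1 hf) v hv, ?_⟩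
      rw [← rho_mul, ← rho_mul]
      congr 2
      group
    have hVA : V ≤ comp ρ Q1 μ' := by
      rintro _ ⟨v, hv, rfl⟩ z
      rw [← rho_mul, show (z : Y) * e⁻¹ = e⁻¹ * (e * (z : Y) * e⁻¹) by group, rho_mul,
        hν₀app ⟨_, hec z⟩ v hv, map_smul]
      rfl
    have hmoved : (⟨s, hsQ1⟩ : Subgroup.normalizer (Q1 : Set Y)) • μ' ≠ μ' := by
      intro hfixed
      have hes : s * e * s⁻¹ ∈ E := (Subgroup.mem_normalizer_iff.1 hsE e).1 he
      set g := s * e * s⁻¹ * e⁻¹ with hg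
      have hgΓ : g ∈ Γ := by
        refine ⟨E.mul_mem hes (E.inv_mem he), fun c d hcd => ?_⟩
        have hz : e⁻¹ * (c : Y) * e ∈ Q1 := by
          have := (Subgroup.mem_normalizer_iff.1 (inv_mem (hEQ1 he)) (c : Y)).1 c.2
          rwa [inv_inv] at this
        have h1 := DFunLike.congr_fun hfixed ⟨_, hz⟩
        rw [smul_chi_apply] at h1
        set z' := CfsgLib.Coprime.conjAct le_rfl (⟨s, hsQ1⟩ : Subgroup.normalizer (Q1 : Set Y))⁻¹
          (⟨_, hz⟩ : Q1) with hz'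
        have hz'v : (z' : Y) = s⁻¹ * (e⁻¹ * (c : Y) * e) * s := by
          rw [hz', CfsgLib.Coprime.coe_conjAct]; simp
        change ν₀ ⟨_, hec z'⟩ = ν₀ ⟨_, hec ⟨_, hz⟩⟩ at h1
        rw [hν₀inv ⟨_, hec z'⟩ d (by
          show (d : Y) = s * (e * (z' : Y) * e⁻¹) * s⁻¹
          rw [hcd, hg, hz'v]
          group), h1]
        exact congrArg ν₀ (Subtype.ext (by group))
      refine heH (hfpf e he ?_)
      have := hHn e⁻¹ (E.inv_mem he) g (Subgroup.mem_sup_left hgΓ)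
      rw [hg] at this
      convert this using 1
      group
    obtain ⟨-, htriv⟩ := hd.moved_component hQ1Q hsQ1 hmoved hVQ hVA
    obtain ⟨v, hv, hv0⟩ := Submodule.exists_mem_ne_zero_of_ne_bot hU.1
    have h1 := htriv (ρ (a : Y)) (by rw [← map_mul, ← map_mul, (hXmem _ ha).2])
      (fun w hw => hVQ _ (hQ1Q a.2) w hw) (hfix _ ha) (ρ e⁻¹ v) ⟨v, hv, rfl⟩
    refine chi_eq_one hU.1 (μ := ν₀) (fun w hw z => hν₀app z w hw) hv hv0 ?_
    rw [hb, rho_mul, rho_mul, h1, rho_apply_inv]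
  -- the abelian quotient
  set M : Subgroup Y := Subgroup.normalizer (Q1 : Set Y) with hM
  set N0 : Subgroup Q1 := commutator Q1 ⊔ (ρ.comp Q1.subtype).ker with hN0
  haveI hN0n : N0.Normal := inferInstance
  have hcA : ∀ u v : Q1 ⧸ N0, u * v = v * u := by
    intro u v
    induction u using QuotientGroup.induction_on with | _ u => ?_
    induction v using QuotientGroup.induction_on with | _ v => ?_
    rw [← QuotientGroup.mk_mul, ← QuotientGroup.mk_mul, QuotientGroup.eq]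
    refine Subgroup.mem_sup_left ?_
    rw [show (u * v)⁻¹ * (v * u) = ⁅v⁻¹, u⁻¹⁆ by simp only [commutatorElement_def]; group]
    exact Subgroup.commutator_mem_commutator (Subgroup.mem_top _) (Subgroup.mem_top _)
  letI : CommGroup (Q1 ⧸ N0) := { (inferInstance : Group (Q1 ⧸ N0)) with mul_comm := hcA }
  have hN0le : ∀ m : M, N0.map (Q1.normalizerMonoidHom m).toMonoidHom ≤ N0 := by
    intro m
    rw [Subgroup.map_sup, commutator_def, Subgroup.map_commutator]
    refine sup_le_sup (Subgroup.commutator_mono le_top le_top) ?_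
    rintro _ ⟨u, hu, rfl⟩
    rw [SetLike.mem_coe, MonoidHom.mem_ker, MonoidHom.comp_apply] at hu
    show ρ ((m : Y) * (u : Y) * (m : Y)⁻¹) = 1
    rw [map_mul, map_mul, show ρ (u : Y) = 1 from hu, mul_one, ← map_mul, mul_inv_cancel, map_one]
  have hN0eq : ∀ m : M, N0.map (Q1.normalizerMonoidHom m).toMonoidHom = N0 := fun m =>
    le_antisymm (hN0le m) fun u hu => ⟨(Q1.normalizerMonoidHom m)⁻¹ u, by
      rw [← map_inv]; exact hN0le m⁻¹ (Subgroup.mem_map_of_mem _ hu), by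
      show (Q1.normalizerMonoidHom m) ((Q1.normalizerMonoidHom m)⁻¹ u) = u
      exact MulAut.apply_inv_self _ _ _⟩
  let α : M →* MulAut (Q1 ⧸ N0) :=
    { toFun := fun m => QuotientGroup.congr N0 N0 (Q1.normalizerMonoidHom m) (hN0eq m)
      map_one' := by
        refine MulEquiv.ext fun u => ?_
        induction u using QuotientGroup.induction_on with | _ u => ?_
        show ((Q1.normalizerMonoidHom (1 : M) u : Q1) : Q1 ⧸ N0) = u
        rw [map_one]; rfl
      map_mul' := fun m m' => by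
        refine MulEquiv.ext fun u => ?_
        induction u using QuotientGroup.induction_on with | _ u => ?_
        show ((Q1.normalizerMonoidHom (m * m') u : Q1) : Q1 ⧸ N0) = _
        rw [map_mul]; rfl }
  have hα : ∀ (m : M) (u v : Q1), (v : Y) = (m : Y) * (u : Y) * (m : Y)⁻¹ →
      α m (u : Q1 ⧸ N0) = (v : Q1 ⧸ N0) := by
    intro m u v e
    show ((Q1.normalizerMonoidHom m u : Q1) : Q1 ⧸ N0) = _
    rw [show Q1.normalizerMonoidHom m u = v from Subtype.ext e.symm]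
  let ν : (Q1 ⧸ N0) →* Kˣ := QuotientGroup.lift N0 ν₀ (sup_le (Abelianization.commutator_subset_ker ν₀)
    fun u hu => by
      obtain ⟨v, hv, hv0⟩ := Submodule.exists_mem_ne_zero_of_ne_bot hU.1
      refine chi_eq_one hU.1 (μ := ν₀) (fun w hw z => hν₀app z w hw) hv hv0 ?_
      rw [show ρ (u : Y) = 1 from hu]; rfl)
  have hEM : E ≤ M := hEQ1
  have hsM : s ∈ M := hsQ1
  set sM : M := ⟨s, hsM⟩ with hsMdef
  -- lifting of fixed points
  have hlift : ∀ u : Q1 ⧸ N0, α sM u = u → ∃ c : Q1, (c : Y) * s = s * c ∧ (c : Q1 ⧸ N0) = u := by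
    intro u hu
    induction u using QuotientGroup.induction_on with | _ u => ?_
    have hall : ∀ a ∈ Subgroup.zpowers s, ∀ am : M, (am : Y) = a → α am (u : Q1 ⧸ N0) = u := by
      intro a ha am e
      obtain ⟨i, hi⟩ := (isOfFinOrder_of_finite s).mem_powers_iff_mem_zpowers.2 ha
      rw [show am = sM ^ i from Subtype.ext (by simpa [hsMdef] using e.trans hi.symm)]
      clear hi e am ha
      induction i with
      | zero => rw [pow_zero, map_one, MulAut.one_apply]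
      | succ i ih => rw [pow_succ, map_mul, MulAut.mul_apply, hu, ih]
    have hzN : Subgroup.zpowers s ≤ Subgroup.normalizer ((N0.map Q1.subtype : Subgroup Y) : Set Y) := by
      intro a ha
      have haM : a ∈ M := (Subgroup.zpowers_le.2 hsM) ha
      refine mem_normalizer_of_conj ?_
      rintro _ ⟨v, hv, rfl⟩
      exact ⟨Q1.normalizerMonoidHom ⟨a, haM⟩ v, hN0le ⟨a, haM⟩ (Subgroup.mem_map_of_mem _ hv), rfl⟩
    obtain ⟨c, hc, hcN⟩ := CfsgLib.Coprime.exists_centralizer_mem_coset (K := Q1)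
      (Subgroup.zpowers_le.2 hsQ1) (hd.coprime.coprime_dvd_right (Subgroup.card_dvd_of_le hQ1Q))
      (Or.inl (CfsgLib.Coprime.isSolvable_of_isMulCommutative _)) (Subgroup.map_subtype_le N0) hzN
      u.2 (fun a ha => by
        have haM : a ∈ M := (Subgroup.zpowers_le.2 hsM) ha
        have h1 := hall a ha ⟨a, haM⟩ rfl
        rw [hα ⟨a, haM⟩ u (Q1.normalizerMonoidHom ⟨a, haM⟩ u) rfl, eq_comm, QuotientGroup.eq] at h1
        exact ⟨_, h1, rfl⟩)
    obtain ⟨w, hw, hw'⟩ := hcN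
    refine ⟨⟨c, hc.1⟩, (hc.2 s (Subgroup.mem_zpowers s)).symm, ?_⟩
    rw [eq_comm, QuotientGroup.eq, show u⁻¹ * (⟨c, hc.1⟩ : Q1) = w from Subtype.ext hw'.symm]
    exact hw
  set E' := E.subgroupOf M with hE'
  set H' := H.subgroupOf M with hH'
  have hF : FpfMod E' H' sM r :=
    { hr := hd.hr
      hsr := Subtype.ext (by simpa [hsMdef] using hd.hsr)
      hle := fun g hg => Subgroup.mem_subgroupOf.2 (hHE (Subgroup.mem_subgroupOf.1 hg))
      hne := fun hle => hproper fun g hg =>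
        Subgroup.mem_subgroupOf.1 (hle (Subgroup.mem_subgroupOf.2 hg : (⟨g, hEM hg⟩ : M) ∈ E'))
      hsE := fun g hg => Subgroup.mem_subgroupOf.2
        ((Subgroup.mem_normalizer_iff.1 hsE _).1 (Subgroup.mem_subgroupOf.1 hg))
      hsH := fun g hg => Subgroup.mem_subgroupOf.2 (hHs _ (Subgroup.mem_subgroupOf.1 hg))
      hfpf := fun g hg h1 => Subgroup.mem_subgroupOf.2
        (hfpf _ (Subgroup.mem_subgroupOf.1 hg) (Subgroup.mem_subgroupOf.1 h1)) }
  have hνX : ∀ a : Q1, (a : Y) ∈ X → ∀ e ∈ E', e ∉ H' → ν (α e (a : Q1 ⧸ N0)) = 1 := by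
    intro a ha e he heH
    rw [hα e a (Q1.normalizerMonoidHom e a) rfl]
    exact hmove (e : Y) (Subgroup.mem_subgroupOf.1 he) (fun hh => heH (Subgroup.mem_subgroupOf.2 hh))
      a _ ha rfl
  rcases hX with eX | ⟨y, n, hys, hyP, hyQ, hyn, hrn, hor, eX⟩
  · intro a ha
    have ha' := hXmem _ ha
    refine hF.eq_one_of_fixed α ν {u | α sM u = u} (fun u hu => hu)
      (fun u hu g _ => hF.orbitProd_fixed α hu g) ?_ (a : Q1 ⧸ N0) (hα sM a a ?_)
    · intro u hu e he heH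
      obtain ⟨c, hcs, rfl⟩ := hlift u hu
      refine hνX c ?_ e he heH
      rw [eX]
      exact ⟨c.2, hcs⟩
    · show (a : Y) = s * (a : Y) * s⁻¹
      rw [← ha'.2, mul_inv_cancel_right]
  · intro a ha
    have hyM : y ∈ M := h.mem_normalizer_Q1 hd hyP hyQ hys
    set yM : M := ⟨y, hyM⟩ with hyMdef
    have hyE : y ∈ Subgroup.normalizer (E : Set Y) := normalizer_commutator_zpowers hyP hys
    have hcomm : ∀ (c : Q1), (c : Y) * s = s * c → ∀ b : Q1, (b : Y) = ⁅y, (c : Y)⁆ →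
        (b : Q1 ⧸ N0) = α yM (c : Q1 ⧸ N0) * ((c : Q1 ⧸ N0))⁻¹ := by
      intro c _ b hb
      rw [hα yM c (Q1.normalizerMonoidHom yM c) rfl, ← QuotientGroup.mk_inv, ← QuotientGroup.mk_mul]
      refine congrArg _ (Subtype.ext ?_)
      rw [hb, Subgroup.coe_mul, Subgroup.coe_inv, commutatorElement_def]
      rfl
    have hXmk : ∀ c : Q1, (c : Y) * s = s * c → ∃ b : Q1, (b : Y) ∈ X ∧ (b : Y) = ⁅y, (c : Y)⁆ := by
      intro c hcs
      have hb : ⁅y, (c : Y)⁆ ∈ X := by rw [eX]; exact ⟨c, c.2, hcs, rfl⟩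
      exact ⟨⟨_, (hXmem _ hb).1⟩, hb, rfl⟩
    rw [eX] at ha
    obtain ⟨c₀, hc₀, hc₀s, hc₀e⟩ := ha
    show ν (a : Q1 ⧸ N0) = 1
    rw [hcomm ⟨c₀, hc₀⟩ hc₀s a hc₀e.symm]
    refine hF.eq_one_of_commutator α ν (y := yM) (n := n) (Subtype.ext hys)
      (Subtype.ext (by simpa [hyMdef] using hyn)) hrn (fun g hg => Subgroup.mem_subgroupOf.2
        ((Subgroup.mem_normalizer_iff.1 hyE _).1 (Subgroup.mem_subgroupOf.1 hg))) ?_ ?_
      (fun e he g hg => Subgroup.mem_subgroupOf.2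
        (hHn _ (Subgroup.mem_subgroupOf.1 he) _ (Subgroup.mem_subgroupOf.1 hg))) ?_ (hα sM _ _ ?_)
    · rcases hor with hnl | hyP'
      · left
        intro g hg
        obtain ⟨k, hk⟩ := (IsPGroup.iff_orderOf.1 (h.hP.to_le hEP)) (⟨(g : Y), Subgroup.mem_subgroupOf.1 hg⟩ : E)
        rw [Subgroup.orderOf_mk, Subgroup.orderOf_coe] at hk
        rw [hk]
        exact (hnl.pow_right k).symm
      · right
        intro e he b hb u
        induction u using QuotientGroup.induction_on with | _ u => ?_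
        set t := e⁻¹ * (yM * e * yM⁻¹) with ht
        rw [hα (t * b) u (Q1.normalizerMonoidHom (t * b) u) rfl,
          hα (b * t) u (Q1.normalizerMonoidHom (b * t) u) rfl, eq_comm, QuotientGroup.eq]
        refine Subgroup.mem_sup_right ?_
        rw [MonoidHom.mem_ker, MonoidHom.comp_apply]
        set u' : Y := (Q1.normalizerMonoidHom (b * t) u : Y) with hu'
        show ρ (u'⁻¹ * ((↑(t * b) : Y) * (u : Y) * (↑(t * b) : Y)⁻¹)) = 1
        have hu'Q : u' ∈ Q := hQ1Q (Q1.normalizerMonoidHom (b * t) u).2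
        have hrel : u'⁻¹ * ((↑(t * b) : Y) * (u : Y) * (↑(t * b) : Y)⁻¹) =
            u'⁻¹ * ⁅⁅(t : Y), (b : Y)⁆, u'⁆ * u' := by
          rw [show u' = (↑(b * t) : Y) * (u : Y) * (↑(b * t) : Y)⁻¹ from rfl]
          simp only [Subgroup.coe_mul, commutatorElement_def]
          group
        have hone : ρ ⁅⁅(t : Y), (b : Y)⁆, u'⁆ = 1 := by
          have := h.hP2 _ (P.inv_mem (hEP (Subgroup.mem_subgroupOf.1 he))) y hyP' _
            (hEP (Subgroup.mem_subgroupOf.1 hb)) u' hu'Q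
          convert this using 5
          simp [ht, hyMdef, commutatorElement_def, mul_assoc]
        rw [hrel, map_mul, map_mul, hone, mul_one, ← map_mul, inv_mul_cancel, map_one]
    · have hc1 : (Nat.card E').Coprime (Nat.card Q1) := by
        rw [Nat.card_congr (Subgroup.subgroupOfEquivOfLe hEM).toEquiv]
        exact IsPGroup.coprime_card_of_ne ℓ q h.hℓq E Q1 (h.hP.to_le hEP) (hd.hQ.to_le hQ1Q)
      exact hc1.coprime_dvd_right (Subgroup.card_quotient_dvd_card N0)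
    · intro u hu e he heH
      obtain ⟨c, hcs, rfl⟩ := hlift u hu
      obtain ⟨b, hbX, hb⟩ := hXmk c hcs
      rw [← hcomm c hcs b hb]
      exact hνX b hbX e he heH
    · show (c₀ : Y) = s * c₀ * s⁻¹
      rw [← hc₀s, mul_inv_cancel_right]

/-- Without fixed vectors a group moved by `s` and by `[P, s]` acts trivially. -/
theorem eq_one_of_fix_eq_bot (hfix : fix ρ s = ⊥)
    (hQs : ∀ u ∈ Q, ∃ e ∈ ⁅Q, Subgroup.zpowers s⁆, ρ u = ρ e)
    (hQ1 : Q ≤ ⁅Q, ⁅P, Subgroup.zpowers s⁆⁆) : ∀ u ∈ Q, ρ u = 1 := by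
  intro u hu
  obtain ⟨e, he, hue⟩ := hQs u hu
  rw [hue]
  have heQ : e ∈ Q := commutator_zpowers_le hd.hsQ he
  refine eq_id_of_irred (ρ := ρ) hd.top_ne_zero (ρ e) fun U hU v hv => ?_
  obtain ⟨hUQ, hsZ, ⟨-, hne, -⟩ | ⟨μ, hμ, hinv⟩⟩ := hd.dichotomy hU
  · exact absurd (by rw [hfix, bot_inf_eq]) hne
  have hQ1Z : Q ≤ centOn ρ Q U hUQ :=
    hQ1.trans (h.commutator_le_centOn hd hU hUQ hμ (Or.inl (by rw [hfix, bot_inf_eq])))
  have h1 := map_eq_one_on_commutator (Subgroup.zpowers_le.2 hd.hsQ) (μ.comp (Subgroup.inclusion hQ1Z))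
    (invariant_zpowers hd.hsQ fun a b e => hinv _ _ e) ⟨e, heQ⟩ he
  rw [MonoidHom.comp_apply] at h1
  have h2 := hμ hv (Subgroup.inclusion hQ1Z ⟨e, heQ⟩)
  rwa [h1, Units.val_one, one_smul] at h2

end PData

end CfsgLib.FitTuran
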