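import Cfsg.Agent.Lib.FitTuran.SkipBound
import Cfsg.Agent.Lib.FitTuran.Step

/-!
A group commuting with the operator and fixing all its fixed vectors commutes with the moved group,
unless it is detected inside the derived subgroup.
-/

set_option autoImplicit false
set_option linter.style.haveILetI false
set_option linter.unusedSectionVars false

open scoped commutatorElement

namespace CfsgLib.FitTuran

open CfsgLib.BG.FixedLine CfsgLib.HallHigman

section Classes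

variable {Y : Type*} [Group Y] [Finite Y]

/-- The operators fixing the class of `u` modulo `Z`. -/
def fixCls (Q Z : Subgroup Y) (u : Y) : Subgroup Y where
  carrier := {g | Normalizes Q Z g ∧ u⁻¹ * (g * u * g⁻¹) ∈ Z}
  one_mem' := ⟨⟨one_mem _, one_mem _⟩, by simp⟩
  mul_mem' := fun {g g'} hg hg' => ⟨hg.1.mul hg'.1, by
    have h1 := Z.mul_mem hg.2 ((Subgroup.mem_normalizer_iff.1 hg.1.2 _).1 hg'.2)
    convert h1 using 1
    group⟩
  inv_mem' := fun {g} hg => ⟨⟨inv_mem hg.1.1, inv_mem hg.1.2⟩, by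
    have h1 := Z.inv_mem ((Subgroup.mem_normalizer_iff.1 (inv_mem hg.1.2) _).1 hg.2)
    convert h1 using 1
    group⟩

theorem mem_fixCls {Q Z : Subgroup Y} {u g : Y} :
    g ∈ fixCls Q Z u ↔ Normalizes Q Z g ∧ u⁻¹ * (g * u * g⁻¹) ∈ Z := Iff.rfl

/-- The operators fixing every class. -/
def trivOn (Q Z : Subgroup Y) : Subgroup Y where
  carrier := {g | Normalizes Q Z g ∧ ∀ u ∈ Q, g ∈ fixCls Q Z u}
  one_mem' := ⟨⟨one_mem _, one_mem _⟩, fun _ _ => one_mem _⟩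
  mul_mem' := fun hg hg' => ⟨hg.1.mul hg'.1, fun u hu => mul_mem (hg.2 u hu) (hg'.2 u hu)⟩
  inv_mem' := fun hg => ⟨⟨inv_mem hg.1.1, inv_mem hg.1.2⟩, fun u hu => inv_mem (hg.2 u hu)⟩

theorem mem_trivOn {Q Z : Subgroup Y} {g : Y} :
    g ∈ trivOn Q Z ↔ Normalizes Q Z g ∧ ∀ u ∈ Q, g ∈ fixCls Q Z u := Iff.rfl

/-- An invariant homomorphism that is trivial on the fixed points is trivial. -/
theorem map_eq_one_of_fixed {κ : Type*} [CommGroup κ] {A : Subgroup Y} {s : Y}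
    (hsA : s ∈ Subgroup.normalizer (A : Set Y))
    (hcop : (Nat.card (Subgroup.zpowers s)).Coprime (Nat.card A)) (φ : A →* κ)
    (hinv : ∀ u v : A, (v : Y) = s * (u : Y) * s⁻¹ → φ v = φ u)
    (hC : ∀ c : A, (c : Y) * s = s * c → φ c = 1) : φ = 1 := by
  have hsup := CfsgLib.Coprime.commutator_sup_centralizer (K := A) (Subgroup.zpowers_le.2 hsA) hcop
    (Or.inl (CfsgLib.Coprime.isSolvable_of_isMulCommutative _))
  have hle : A ≤ φ.ker.map A.subtype := by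
    refine hsup.symm.le.trans (sup_le (fun e he => ?_) fun c hc => ?_)
    · have heA : e ∈ A := commutator_zpowers_le hsA he
      exact ⟨⟨e, heA⟩, map_eq_one_on_commutator (Subgroup.zpowers_le.2 hsA) φ
        (invariant_zpowers hsA hinv) _ he, rfl⟩
    · exact ⟨⟨c, hc.1⟩, hC ⟨c, hc.1⟩ (hc.2 s (Subgroup.mem_zpowers s)).symm, rfl⟩
  refine MonoidHom.ext fun a => ?_
  obtain ⟨a', ha', e⟩ := hle a.2
  rw [← (Subtype.ext e : a' = a)]
  exact ha'

/-- Coprime commuting elements are powers of their product. -/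
theorem mem_zpowers_mul {s y : Y} (hc : Commute s y) {a b : ℕ} (hab : a.Coprime b) (ha : s ^ a = 1)
    (hb : y ^ b = 1) : s ∈ Subgroup.zpowers (s * y) ∧ y ∈ Subgroup.zpowers (s * y) := by
  constructor
  · obtain ⟨m, hm⟩ := exists_pow_eq_self_of_coprime
      (hab.symm.coprime_dvd_right (orderOf_dvd_of_pow_eq_one ha))
    have key : s ^ b ∈ Subgroup.zpowers (s * y) := by
      rw [show s ^ b = (s * y) ^ b by rw [hc.mul_pow, hb, mul_one]]
      exact Subgroup.pow_mem _ (Subgroup.mem_zpowers _) b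
    have h := Subgroup.pow_mem _ key m
    rwa [hm] at h
  · obtain ⟨m, hm⟩ := exists_pow_eq_self_of_coprime
      (hab.coprime_dvd_right (orderOf_dvd_of_pow_eq_one hb))
    have key : y ^ a ∈ Subgroup.zpowers (s * y) := by
      rw [show y ^ a = (s * y) ^ a by rw [hc.mul_pow, ha, one_mul]]
      exact Subgroup.pow_mem _ (Subgroup.mem_zpowers _) a
    have h := Subgroup.pow_mem _ key m
    rwa [hm] at h

end Classes

variable {K W Y : Type*} [Field K] [IsAlgClosed K] [AddCommGroup W] [Module K W]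
  [FiniteDimensional K W] [Group Y] [Finite Y] {ρ : Y →* Module.End K W}

omit [IsAlgClosed K] in
/-- A normal coprime subgroup that fixes every irreducible subspace acts trivially. -/
theorem eq_one_of_fixed_irred {G N : Subgroup Y} (hN : (Nat.card N : K) ≠ 0)
    (hGN : G ≤ Subgroup.normalizer (N : Set Y))
    (h : ∀ U, Irred ρ G U → ∀ g ∈ N, ∀ v ∈ U, ρ g v = v) : ∀ g ∈ N, ρ g = 1 := by
  let S : Submodule K W := LinearMap.ker (avg ρ N)
  have hS : Inv ρ G S := fun g hg v hv => by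
    rw [LinearMap.mem_ker, ← Module.End.mul_apply, ← avg_commute ρ fun a ha =>
      (Subgroup.mem_normalizer_iff.1 (hGN hg) a).1 ha, Module.End.mul_apply, LinearMap.mem_ker.1 hv, map_zero]
  have hS0 : S = ⊥ := by
    by_contra hne
    obtain ⟨U, hUS, hU⟩ := exists_irred hS hne
    obtain ⟨v, hv, hv0⟩ := Submodule.exists_mem_ne_zero_of_ne_bot hU.1
    have h1 : avg ρ N v = 0 := LinearMap.mem_ker.1 (hUS hv)
    rw [avg_of_fixed ρ fun a ha => h U hU a ha v hv] at h1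
    exact hv0 ((smul_eq_zero.1 h1).resolve_left hN)
  intro g hg
  refine LinearMap.ext fun v => ?_
  have hw : (Nat.card N : K) • v - avg ρ N v ∈ S := by
    rw [LinearMap.mem_ker, map_sub, map_smul,
      avg_of_fixed ρ (v := avg ρ N v) fun a ha => by rw [← Module.End.mul_apply, mul_avg ρ ha], sub_self]
  rw [hS0, Submodule.mem_bot, sub_eq_zero] at hw
  refine smul_right_injective W hN ?_
  show (Nat.card N : K) • ρ g v = (Nat.card N : K) • v
  rw [← map_smul, hw, ← Module.End.mul_apply, mul_avg ρ hg]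

/-- An element of coprime order fixing the fixed vectors of `x` fixes every moved vector. -/
theorem fixed_of_moved {A : Subgroup Y} (hA0 : (Nat.card A : K) ≠ 0) {μ : Chi K A}
    {x g : Subgroup.normalizer (A : Set Y)} {r o : ℕ} (hr : r.Prime) (hxr : x ^ r = 1) (hμ : x • μ ≠ μ)
    (hgx : g * x = x * g) (hgo : g ^ o = 1) (hor : o.Coprime r)
    (hgfix : ∀ v, ρ (x : Y) v = v → ρ (g : Y) v = v) {w : W} (hw : w ∈ comp ρ A μ) :
    ρ (g : Y) w = w := by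
  by_cases hw0 : w = 0
  · rw [hw0, map_zero]
  have hcomm : ρ (g : Y) * ρ (x : Y) = ρ (x : Y) * ρ (g : Y) := by
    rw [← map_mul, ← map_mul, ← Subgroup.coe_mul, ← Subgroup.coe_mul, hgx]
  have hsum := hgfix _ (orbitSum_fixed hxr w)
  have hgμ : g • μ = μ := by
    by_contra hne
    have h1 := congrArg (proj ρ A μ) hsum
    rw [proj_orbitSum hr hxr hμ hw, map_sum, map_sum, Finset.sum_eq_zero] at h1
    · exact hw0 ((smul_eq_zero.1 h1.symm).resolve_left hA0)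
    intro i hi
    refine proj_other ρ A ?_ (ν := (g * x ^ i) • μ) ?_
    · intro e
      have hpow : (g * x ^ i) ^ o • μ = μ := by
        have : g * x ^ i ∈ MulAction.stabilizer (Subgroup.normalizer (A : Set Y)) μ := e.symm
        exact pow_mem this o
      rw [((show Commute g x from hgx).pow_right i).mul_pow, hgo, one_mul, ← pow_mul,
        ← Nat.div_add_mod (i * o) r, pow_add, pow_mul x r, hxr, one_pow, one_mul] at hpow
      by_cases him : i * o % r = 0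
      · have hd : r ∣ i * o := Nat.dvd_of_mod_eq_zero him
        rcases Nat.eq_zero_of_dvd_of_lt ((hor.symm).dvd_of_dvd_mul_right hd) (Finset.mem_range.1 hi) with rfl
        rw [pow_zero, mul_one] at e
        exact hne e.symm
      · refine pow_smul_ne A hr hxr hμ (i := 0) (Nat.pos_of_ne_zero him) (Nat.mod_lt _ hr.pos) ?_
        rw [pow_zero, one_smul, hpow]
    · have := rho_mem_comp ρ A (g * x ^ i) hw
      rwa [Subgroup.coe_mul, Subgroup.coe_pow, rho_mul] at this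
  refine fixed_of_orbitSum hA0 hr hxr hμ hcomm hw ?_ hsum
  have := rho_mem_comp ρ A g hw
  rwa [hgμ] at this

namespace QData

variable {Q : Subgroup Y} {s : Y} {r q : ℕ} (hd : QData ρ Q s r q)

include hd

/-- On a stable component an element commuting with `s` that fixes the fixed vectors fixes every
class or inverts every class. -/
theorem trivial_or_inverts (hQs : Q ≤ ⁅Q, Subgroup.zpowers s⁆) {U : Submodule K W} (hU0 : U ≠ ⊥)
    (hUQ : Inv ρ Q U) (hUs : ∀ v ∈ U, ρ s v ∈ U) {μ : Chi K (centOn ρ Q U hUQ)}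
    (hμ : U ≤ comp ρ _ μ) {y : Y} (hyU : ∀ v ∈ U, ρ y v ∈ U)
    (hyQ : y ∈ Subgroup.normalizer (Q : Set Y)) (hys : y * s = s * y) {N : ℕ} (hyN : y ^ N = 1)
    (hN : 0 < N) (hNr : N.Coprime r) (hNQ : N.Coprime (Nat.card Q))
    (hyfix : ∀ v, ρ s v = v → ρ y v = v) :
    (y ∈ trivOn Q (centOn ρ Q U hUQ) ∧ ∀ u ∈ Q, ∀ v ∈ U, ρ y (ρ u v) = ρ u (ρ y v)) ∨
    (fix ρ s ⊓ U ≠ ⊥ ∧ y ∉ trivOn Q (centOn ρ Q U hUQ) ∧
      ∀ u ∈ Q, u * (y * u * y⁻¹) ∈ centOn ρ Q U hUQ) := by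
  classical
  haveI := Fact.mk hd.hq
  let Z := centOn ρ Q U hUQ
  have hsZ : s ∈ Subgroup.normalizer (Z : Set Y) := CfsgLib.FitTuran.normalizer_centOn hUQ hd.hsQ hUs
  have hyZ : y ∈ Subgroup.normalizer (Z : Set Y) := CfsgLib.FitTuran.normalizer_centOn hUQ hyQ hyU
  have hyNorm : Normalizes Q Z y := ⟨hyQ, hyZ⟩
  have hzero : Inv ρ (Q ⊔ Subgroup.zpowers (s * y)) U := inv_sup hUQ (inv_zpowers fun v hv => by
    rw [rho_mul]; exact hUs _ (hyU v hv))
  -- an irreducible part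
  obtain ⟨U₁, hU₁U, hU₁⟩ := exists_irred hzero hU0
  obtain ⟨hs_mem, hy_mem⟩ := mem_zpowers_mul (show Commute s y from hys.symm) hNr.symm hd.hsr hyN
  have hU₁Q : Inv ρ Q U₁ := hU₁.2.1.mono le_sup_left
  have hsU₁ : ∀ v ∈ U₁, ρ s v ∈ U₁ := hU₁.2.1 s (Subgroup.mem_sup_right hs_mem)
  have hyU₁ : ∀ v ∈ U₁, ρ y v ∈ U₁ := hU₁.2.1 y (Subgroup.mem_sup_right hy_mem)
  have hZle : Z ≤ centOn ρ Q U₁ hU₁Q := fun z hz => ⟨hz.1, fun f hf v hv => hz.2 f hf v (hU₁U hv)⟩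
  have hscal : ∀ {z : Y}, z ∈ Z → ∀ {v : W}, v ∈ U₁ → v ≠ 0 → ρ z v = v → ∀ w ∈ U, ρ z w = w := by
    intro z hz v hv hv0 e w hw
    have := hμ hw ⟨z, hz⟩
    rwa [chi_eq_one hU0 hμ (a := ⟨z, hz⟩) (hU₁U hv) hv0 e, Units.val_one, one_smul] at this
  obtain ⟨v₀, hv₀, hv₀0⟩ := Submodule.exists_mem_ne_zero_of_ne_bot hU₁.1
  have hZeq : centOn ρ Q U₁ hU₁Q = Z := by
    refine le_antisymm (fun g hg => ⟨hg.1, fun f hf v hv => ?_⟩) hZle
    have hc : ⁅g, f⁆ ∈ Z := hd.commutator_mem_centOn hUQ hg.1 hf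
    have h1 : ρ ⁅g, f⁆ v₀ = v₀ := by
      rw [commutatorElement_def, rho_mul, rho_mul, rho_mul,
        hg.2 f hf _ (hU₁Q _ (Q.inv_mem hg.1) _ (hU₁Q _ (Q.inv_mem hf) v₀ hv₀)), rho_apply_inv, rho_apply_inv]
    rw [← rho_mul, ← rho_mul, show g * f = ⁅g, f⁆ * (f * g) by simp only [commutatorElement_def]; group,
      rho_mul, hscal hc hv₀ hv₀0 h1 _ (hUQ _ (Q.mul_mem hf hg.1) v hv)]
  let μ₁ : Chi K (centOn ρ Q U₁ hU₁Q) := μ.comp (Subgroup.inclusion hZeq.le)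
  have hμ₁ : U₁ ≤ comp ρ _ μ₁ := fun v hv a => by
    have := hμ (hU₁U hv) (Subgroup.inclusion hZeq.le a)
    simpa [μ₁] using this
  obtain ⟨lam, hlam⟩ := ext_exists μ₁
  haveI : Nontrivial U₁ := Submodule.nontrivial_iff_ne_bot.2 hU₁.1
  have hst := hd.stable hU₁Q hμ₁ hlam
  have hirr := hd.stable_irr hU₁Q hμ₁ hlam (mul_mem hd.hsQ hyQ) hU₁
  have hQ' : IsPGroup q (Q.subgroupOf (stab ρ U₁)) :=
    hd.hQ.comap_of_injective (stab ρ U₁).subtype (stab ρ U₁).subtype_injective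
  have hcommQ : ∀ u ∈ Q, ∀ v ∈ Q, ⁅u, v⁆ ∈ Z := fun u hu v hv => hd.commutator_mem_centOn hUQ hu hv
  have hfpf : ∀ u ∈ Q, u⁻¹ * (s * u * s⁻¹) ∈ Z → u ∈ Z := fun u hu =>
    fpf_of_eq_commutator (centOn_le hUQ) hcommQ hd.hsQ hsZ hQs hu
  set sU : stab ρ U₁ := ⟨s, hsU₁⟩ with hsU
  set yU : stab ρ U₁ := ⟨y, hyU₁⟩ with hyUdef
  have hnorm : ∀ (g : stab ρ U₁), Normalizes Q Z (g : Y) →
      Normalizes (Q.subgroupOf (stab ρ U₁)) ((centOn ρ Q U₁ hU₁Q).subgroupOf (stab ρ U₁)) g :=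
    fun g hg => normalizes_subgroupOf hg.1 (by rw [hZeq]; exact hg.2)
  have hcQ : Nat.card (Q.subgroupOf (stab ρ U₁)) = Nat.card Q :=
    Nat.card_congr (Subgroup.subgroupOfEquivOfLe (show Q ≤ stab ρ U₁ from hU₁Q)).toEquiv
  have mkC : ∀ (j o : ℕ), 0 < o → o ∣ N → y ^ (j * o) ∈ trivOn Q Z →
      Commuting (res ρ U₁) (Q.subgroupOf (stab ρ U₁)) ((centOn ρ Q U₁ hU₁Q).subgroupOf (stab ρ U₁))
        sU (yU ^ j) r o := by
    intro j o _ hoN hjo
    refine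
      { hs := hnorm sU ⟨hd.hsQ, hsZ⟩
        hy := hnorm (yU ^ j) (by simpa [hyUdef] using hyNorm.pow j)
        hys := Subtype.ext (by simpa [hsU, hyUdef] using ((show Commute y s from hys).pow_left j).eq)
        hyz := res_commute hU₁Q hμ₁ _
        hsz := res_commute hU₁Q hμ₁ _
        hr := hd.hr
        hr0 := hd.hr0
        hsr := Subtype.ext (by simpa [hsU] using hd.hsr)
        hfpf := fun u hu h1 => ?_
        hyo := fun u hu => ?_
        hyfix := fun v hv => ?_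
        hor := hNr.coprime_dvd_left hoN
        hoQ := by rw [hcQ]; exact hNQ.coprime_dvd_left hoN }
    · rw [Subgroup.mem_subgroupOf, hZeq] at h1 ⊢
      exact hfpf _ (Subgroup.mem_subgroupOf.1 hu) (by simpa [hsU] using h1)
    · rw [Subgroup.mem_subgroupOf, hZeq]
      have := (mem_fixCls.1 (hjo.2 _ (Subgroup.mem_subgroupOf.1 hu))).2
      simpa [hyUdef, pow_mul] using this
    · refine Subtype.ext ?_
      rw [res_apply]
      have h1 : ρ s (v : W) = v := by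
        have := congrArg Subtype.val hv
        rwa [res_apply] at this
      have : ∀ i : ℕ, ρ (y ^ i) (v : W) = v := by
        intro i
        induction i with
        | zero => simp
        | succ i ih => rw [pow_succ, rho_mul, hyfix _ h1, ih]
      simpa [hyUdef] using this j
  by_cases htriv : y ∈ trivOn Q Z
  · refine Or.inl ⟨htriv, fun u hu v hv => ?_⟩
    have hc : ⁅y, u⁆ ∈ Z := by
      have hQn : u ∈ Subgroup.normalizer (Z : Set Y) :=
        CfsgLib.FitTuran.normalizer_centOn hUQ (Subgroup.le_normalizer hu) (hUQ u hu)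
      have h1 := (Subgroup.mem_normalizer_iff.1 hQn _).1 (htriv.2 u hu).2
      simpa [commutatorElement_def, mul_assoc] using h1
    have hcom := hst.commute_of_trivial (hnorm sU ⟨hd.hsQ, hsZ⟩) (res_commute hU₁Q hμ₁ sU)
      (fun w hw h1 => by
        rw [Subgroup.mem_subgroupOf, hZeq] at h1 ⊢
        exact hfpf _ (Subgroup.mem_subgroupOf.1 hw) (by simpa [hsU] using h1))
      (g := yU) (Subtype.ext hys) (res_commute hU₁Q hμ₁ yU) (fun w hw => by
        rw [Subgroup.mem_subgroupOf, hZeq]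
        simpa [hyUdef] using (htriv.2 _ (Subgroup.mem_subgroupOf.1 hw)).2)
      ⟨u, hU₁Q u hu⟩ (Subgroup.mem_subgroupOf.2 hu)
    have hy' : ρ y⁻¹ v₀ ∈ U₁ := hU₁.2.1 _ (Subgroup.mem_sup_right (inv_mem hy_mem)) v₀ hv₀
    have hu' : ρ u⁻¹ v₀ ∈ U₁ := hU₁Q _ (Q.inv_mem hu) v₀ hv₀
    have h1 : ρ ⁅y, u⁆ v₀ = v₀ := by
      have hswap : ∀ w ∈ U₁, ρ y (ρ u w) = ρ u (ρ y w) := fun w hw =>
        congrArg Subtype.val (LinearMap.congr_fun hcom ⟨w, hw⟩)
      have hw : ρ y⁻¹ (ρ u⁻¹ v₀) ∈ U₁ :=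
        hU₁.2.1 _ (Subgroup.mem_sup_right (inv_mem hy_mem)) _ hu'
      rw [commutatorElement_def, rho_mul, rho_mul, rho_mul, hswap _ hw, rho_apply_inv, rho_apply_inv]
    rw [← rho_mul, ← rho_mul, show y * u = ⁅y, u⁆ * (u * y) by simp only [commutatorElement_def]; group,
      rho_mul, hscal hc hv₀ hv₀0 h1]
    rw [rho_mul]
    exact hUQ u hu _ (hyU v hv)
  -- the order on the classes
  have hex : ∃ k, 0 < k ∧ y ^ k ∈ trivOn Q Z := ⟨N, hN, by rw [hyN]; exact one_mem _⟩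
  set o := Nat.find hex with hodef
  obtain ⟨ho0, hyo⟩ : 0 < o ∧ y ^ o ∈ trivOn Q Z := Nat.find_spec hex
  have hdvd : ∀ k, y ^ k ∈ trivOn Q Z → o ∣ k := by
    intro k hk
    refine Nat.dvd_of_mod_eq_zero (by_contra fun hne => ?_)
    refine Nat.find_min hex (Nat.mod_lt k ho0) ⟨Nat.pos_of_ne_zero hne, ?_⟩
    have h1 : y ^ k = (y ^ o) ^ (k / o) * y ^ (k % o) := by rw [← pow_mul, ← pow_add, Nat.div_add_mod]
    rw [show y ^ (k % o) = ((y ^ o) ^ (k / o))⁻¹ * y ^ k by rw [h1, inv_mul_cancel_left]]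
    exact mul_mem (inv_mem (pow_mem hyo _)) hk
  have hoN : o ∣ N := hdvd N (by rw [hyN]; exact one_mem _)
  have ho2 : 2 ≤ o := by
    by_contra hlt
    have : o = 1 := by omega
    rw [this, pow_one] at hyo
    exact htriv hyo
  have hpr : ∀ ℓ : ℕ, ℓ.Prime → ℓ ∣ o → (∀ u ∈ Q, y ^ (o / ℓ) ∈ fixCls Q Z u → u ∈ Z) ∧
      Module.finrank K (fix (res ρ U₁) sU) ≤ 1 := by
    intro ℓ hℓ hℓo
    have hC := mkC (o / ℓ) ℓ hℓ.pos (hℓo.trans hoN) (by rw [Nat.div_mul_cancel hℓo]; exact hyo)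
    obtain ⟨hf, hm⟩ := hst.fixed_part_trivial hC hirr hℓ hd.hq hQ' (by
      intro hle
      have hmem : y ^ (o / ℓ) ∈ trivOn Q Z := ⟨hyNorm.pow _, fun u hu => ⟨hyNorm.pow _, by
        have := ((Stable.mem_fixMod hst hC.hy).1 (hle (Subgroup.mem_subgroupOf.2 hu :
          (⟨u, hU₁Q u hu⟩ : stab ρ U₁) ∈ Q.subgroupOf (stab ρ U₁)))).2
        rw [Subgroup.mem_subgroupOf, hZeq] at this
        simpa [hyUdef] using this⟩⟩
      have h1 := Nat.le_of_dvd (Nat.div_pos (Nat.le_of_dvd ho0 hℓo) hℓ.pos) (hdvd _ hmem)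
      exact absurd (Nat.div_lt_self ho0 hℓ.one_lt) (by omega))
    refine ⟨fun u hu h1 => ?_, hm⟩
    have hmemU : (⟨u, hU₁Q u hu⟩ : stab ρ U₁) ∈ hst.fixMod hC.hy := by
      refine (Stable.mem_fixMod hst hC.hy).2 ⟨Subgroup.mem_subgroupOf.2 hu, ?_⟩
      rw [Subgroup.mem_subgroupOf, hZeq]
      simpa [hyUdef] using h1.2
    have := Subgroup.mem_subgroupOf.1 (hf hmemU)
    rwa [hZeq] at this
  have hne : ¬ Q.subgroupOf (stab ρ U₁) ≤ (centOn ρ Q U₁ hU₁Q).subgroupOf (stab ρ U₁) := by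
    intro hle
    refine htriv ⟨hyNorm, fun u hu => ⟨hyNorm, ?_⟩⟩
    have hz : u ∈ Z := by
      have := Subgroup.mem_subgroupOf.1 (hle (Subgroup.mem_subgroupOf.2 hu :
        (⟨u, hU₁Q u hu⟩ : stab ρ U₁) ∈ Q.subgroupOf (stab ρ U₁)))
      rwa [hZeq] at this
    exact Z.mul_mem (Z.inv_mem hz) ((Subgroup.mem_normalizer_iff.1 hyZ _).1 hz)
  have hmove : ∀ u ∈ Q, u ∉ Z → ∀ k, ¬ o ∣ k → u⁻¹ * (y ^ k * u * (y ^ k)⁻¹) ∉ Z := by
    intro u hu huZ k hk h1
    have hg0 : 0 < Nat.gcd k o := Nat.gcd_pos_of_pos_right _ ho0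
    obtain ⟨t, ht⟩ := Nat.gcd_dvd_right k o
    have ht1 : t ≠ 1 := fun e => hk (by rw [e, mul_one] at ht; rw [ht]; exact Nat.gcd_dvd_left k o)
    obtain ⟨ℓ, hℓ, hℓt⟩ := Nat.exists_prime_and_dvd ht1
    obtain ⟨t', ht'⟩ := hℓt
    have heo : o = ℓ * (Nat.gcd k o * t') := ht.trans (by rw [ht']; ring)
    have hℓo : ℓ ∣ o := ⟨_, heo⟩
    refine huZ ((hpr ℓ hℓ hℓo).1 u hu ?_)
    have hgcd : y ^ Nat.gcd k o ∈ fixCls Q Z u := by
      rw [← zpow_natCast, Nat.gcd_eq_gcd_ab, zpow_add, zpow_mul, zpow_mul, zpow_natCast, zpow_natCast]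
      exact mul_mem (zpow_mem (show y ^ k ∈ fixCls Q Z u from ⟨hyNorm.pow k, h1⟩) _) (zpow_mem (hyo.2 u hu) _)
    rw [show o / ℓ = Nat.gcd k o * t' from
      (congrArg (· / ℓ) heo).trans (Nat.mul_div_cancel_left _ hℓ.pos), pow_mul]
    exact pow_mem hgcd _
  obtain ⟨ℓ, hℓ, hℓo⟩ := Nat.exists_prime_and_dvd (show o ≠ 1 by omega)
  obtain ⟨ho_two, hm1⟩ := hst.order_eq_two (mkC 1 o ho0 hoN (by rwa [one_mul])) hirr ho2 hne (hpr ℓ hℓ hℓo).2
    (fun u hu huZ k hk h1 => by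
      rw [Subgroup.mem_subgroupOf, hZeq] at huZ h1
      exact hmove _ (Subgroup.mem_subgroupOf.1 hu) huZ k hk (by simpa [hyUdef] using h1))
  refine Or.inr ⟨?_, htriv, fun u hu => ?_⟩
  · intro e
    have hbot : fix (res ρ U₁) sU = ⊥ := (Submodule.eq_bot_iff _).2 fun v hv => Subtype.ext (by
      have h1 : ρ s (v : W) = v := by
        have := congrArg Subtype.val ((mem_fix _).1 hv)
        rwa [res_apply] at this
      have h2 : (v : W) ∈ fix ρ s ⊓ U := ⟨h1, hU₁U v.2⟩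
      rw [e, Submodule.mem_bot] at h2
      exact h2)
    rw [hbot, finrank_bot] at hm1
    exact zero_ne_one hm1
  · by_contra hw
    have hyu : y * u * y⁻¹ ∈ Q := (Subgroup.mem_normalizer_iff.1 hyQ u).1 hu
    refine hmove _ (Q.mul_mem hu hyu) hw 1 (fun hd1 => by have := Nat.le_of_dvd one_pos hd1; omega) ?_
    rw [pow_one]
    have h2 : u⁻¹ * (y ^ 2 * u * (y ^ 2)⁻¹) ∈ Z := by
      have := (hyo.2 u hu).2
      rwa [ho_two] at this
    have h3 := Z.mul_mem (hcommQ _ (Q.inv_mem hyu) _ (Q.inv_mem hu)) h2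
    convert h3 using 1
    simp only [commutatorElement_def, pow_two]
    group

/-- A group commuting with `s` and fixing the fixed vectors commutes with `Q`, unless the derived
subgroup of `Q` detects it. -/
theorem commute_or_exists (hQs : Q ≤ ⁅Q, Subgroup.zpowers s⁆) {R A : Subgroup Y}
    (hRs : ∀ y ∈ R, y * s = s * y) (hRQ : R ≤ Subgroup.normalizer (Q : Set Y))
    (hRr : (Nat.card R).Coprime r) (hRq : (Nat.card R).Coprime (Nat.card Q))
    (hcenR : ∀ u ∈ Q, ∀ v ∈ Q, ∀ y ∈ R, ρ ⁅⁅u, v⁆, y⁆ = 1)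
    (hyfix : ∀ y ∈ R, ∀ v, ρ s v = v → ρ y v = v)
    (hA : fix ρ s = ⊥ ∨ ((∀ a ∈ A, a * s = s * a) ∧ A ≤ Subgroup.normalizer (Q : Set Y) ∧
      A ≤ Subgroup.normalizer (R : Set Y) ∧ R ≤ ⁅R, A⁆)) :
    (∀ g ∈ ⁅Q, R⁆, ρ g = 1) ∨
      ∃ z ∈ ⁅Q, Q⁆, z * s = s * z ∧ ∃ a ∈ A, ∃ v, ρ s v = v ∧ ρ ⁅a, z⁆ v ≠ v := by
  classical
  haveI := Fact.mk hd.hq
  by_cases hdet : ∃ z ∈ ⁅Q, Q⁆, z * s = s * z ∧ ∃ a ∈ A, ∃ v, ρ s v = v ∧ ρ ⁅a, z⁆ v ≠ v
  · exact Or.inr hdet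
  refine Or.inl (eq_one_of_fixed_irred (G := Q ⊔ Subgroup.zpowers s ⊔ R)
    (hd.card_Q_ne_zero (CfsgLib.Coprime.commutator_le_left_of_le_normalizer hRQ)) ?_ fun U hU => ?_)
  · refine sup_le (sup_le (left_le_normalizer_comm Q R) (Subgroup.zpowers_le.2 ?_))
      (CfsgLib.Coprime.le_normalizer_commutator hRQ Subgroup.le_normalizer)
    refine CfsgLib.Coprime.le_normalizer_commutator (Subgroup.zpowers_le.2 hd.hsQ) ?_ (Subgroup.mem_zpowers s)
    exact Subgroup.zpowers_le.2 (mem_normalizer_of_conj fun y hy => by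
      rw [← hRs y hy, mul_inv_cancel_right]; exact hy)
  suffices hcomm : ∀ y ∈ R, ∀ u ∈ Q, ∀ v ∈ U, ρ y (ρ u v) = ρ u (ρ y v) by
    intro g hg
    let F : Subgroup Y :=
      { carrier := {g | ∀ v ∈ U, ρ g v = v}
        one_mem' := fun v _ => by simp
        mul_mem' := fun {a b} ha hb v hv => by rw [rho_mul, hb v hv, ha v hv]
        inv_mem' := fun {a} ha v hv => by
          conv_lhs => rw [← ha v hv]
          rw [rho_inv_apply] }
    refine (Subgroup.commutator_le.2 fun u hu y hy => ?_ : ⁅Q, R⁆ ≤ F) hg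
    intro v hv
    have hw : ρ u⁻¹ (ρ y⁻¹ v) ∈ U := hU.2.1 _ (Subgroup.mem_sup_left (Subgroup.mem_sup_left (Q.inv_mem hu))) _
      (hU.2.1 _ (Subgroup.mem_sup_right (R.inv_mem hy)) v hv)
    rw [commutatorElement_def, rho_mul, rho_mul, rho_mul, ← hcomm y hy u hu _ hw, rho_apply_inv, rho_apply_inv]
  have hUQ : Inv ρ Q U := hU.2.1.mono (le_sup_left.trans le_sup_left)
  have hUs : ∀ v ∈ U, ρ s v ∈ U :=
    hU.2.1 s (Subgroup.mem_sup_left (Subgroup.mem_sup_right (Subgroup.mem_zpowers s)))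
  have hUR : Inv ρ R U := hU.2.1.mono le_sup_right
  set Z := centOn ρ Q U hUQ with hZdef
  have hsZ : s ∈ Subgroup.normalizer (Z : Set Y) := CfsgLib.FitTuran.normalizer_centOn hUQ hd.hsQ hUs
  have hRZ : ∀ y ∈ R, y ∈ Subgroup.normalizer (Z : Set Y) := fun y hy =>
    CfsgLib.FitTuran.normalizer_centOn hUQ (hRQ hy) (hUR y hy)
  have hZ0 : (Nat.card Z : K) ≠ 0 := hd.card_Q_ne_zero (centOn_le hUQ)
  set x : Subgroup.normalizer (Z : Set Y) := ⟨s, hsZ⟩ with hx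
  have hxr : x ^ r = 1 := Subtype.ext (by simp [hx, hd.hsr])
  have hQcomp : ∀ (μ : Chi K Z), Inv ρ Q (U ⊓ comp ρ Z μ) := fun μ f hf v hv =>
    ⟨hUQ f hf v hv.1, fun a => by rw [(mem_centOn.1 a.2).2 f hf v hv.1, hv.2 a, map_smul]⟩
  by_cases hmov : ∃ μ : Chi K Z, x • μ ≠ μ ∧ U ⊓ comp ρ Z μ ≠ ⊥
  · obtain ⟨μ₀, hμ₀, hne⟩ := hmov
    let M : Submodule K W := ⨆ μ : {μ : Chi K Z // x • μ ≠ μ}, U ⊓ comp ρ Z (μ : Chi K Z)
    have hfixM : ∀ y ∈ R, ∀ v ∈ M, ρ y v = v := by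
      intro y hy v hv
      refine Submodule.iSup_induction (fun μ : {μ : Chi K Z // x • μ ≠ μ} => U ⊓ comp ρ Z (μ : Chi K Z))
        (motive := fun z => ρ y z = z) hv ?_ (map_zero _) (fun a b ha hb => by rw [map_add, ha, hb])
      rintro ⟨μ, hμ⟩ w hw
      exact fixed_of_moved (g := (⟨y, hRZ y hy⟩ : Subgroup.normalizer (Z : Set Y))) hZ0 hd.hr hxr hμ
        (Subtype.ext (hRs y hy)) (o := Nat.card R)
        (Subtype.ext (show y ^ Nat.card R = 1 by
          exact congrArg Subtype.val (pow_card_eq_one' (x := (⟨y, hy⟩ : R)))))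
        hRr (hyfix y hy) hw.2
    have hM : Inv ρ (Q ⊔ Subgroup.zpowers s ⊔ R) M := by
      refine inv_sup (inv_sup (fun f hf v hv => ?_) (inv_zpowers fun v hv => ?_))
        (fun y hy v hv => by rw [hfixM y hy v hv]; exact hv) <;>
        refine Submodule.iSup_induction (fun μ : {μ : Chi K Z // x • μ ≠ μ} => U ⊓ comp ρ Z (μ : Chi K Z))
          (motive := fun z => ρ _ z ∈ M) hv ?_ (by simp) (fun a b ha hb => by rw [map_add]; exact M.add_mem ha hb)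
      · rintro μ w hw
        exact Submodule.mem_iSup_of_mem μ (hQcomp _ f hf w hw)
      · rintro ⟨μ, hμ⟩ w hw
        exact Submodule.mem_iSup_of_mem (⟨x • μ, fun e => hμ (smul_left_cancel x e)⟩ : {μ : Chi K Z // x • μ ≠ μ})
          ⟨hUs w hw.1, rho_mem_comp ρ Z x hw.2⟩
    have hMU : M = U := by
      refine (hU.2.2 M (iSup_le fun μ => inf_le_left) hM).resolve_left fun e => hne (eq_bot_iff.2 ?_)
      rw [← e]
      exact le_iSup (fun μ : {μ : Chi K Z // x • μ ≠ μ} => U ⊓ comp ρ Z (μ : Chi K Z)) ⟨μ₀, hμ₀⟩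
    intro y hy u hu v hv
    rw [hfixM y hy v (hMU.symm ▸ hv), hfixM y hy _ (hMU.symm ▸ hUQ u hu v hv)]
  push Not at hmov
  have hfixed : ∀ μ : Chi K Z, U ⊓ comp ρ Z μ ≠ ⊥ → x • μ = μ := fun μ hμ => by
    by_contra h; exact hμ (hmov μ h)
  have hinv_of : ∀ μ : Chi K Z, x • μ = μ → ∀ a b : Z, (b : Y) = s * (a : Y) * s⁻¹ → μ b = μ a := by
    intro μ h a b hab
    conv_lhs => rw [← h]
    rw [smul_chi_apply]
    congr 1
    refine Subtype.ext ?_
    rw [CfsgLib.Coprime.coe_conjAct]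
    simp [hx, hab, mul_assoc]
  obtain ⟨U₀, hU₀le, hU₀⟩ := exists_irred hUQ hU.1
  obtain ⟨μ, hμ₀⟩ := exists_chi hU₀ (A := Z) fun a ha =>
    ⟨fun v hv => hU₀.2.1 a (centOn_le hUQ ha) v hv, fun f hf v hv => (mem_centOn.1 ha).2 f hf v (hU₀le hv)⟩
  have hne₀ : U ⊓ comp ρ Z μ ≠ ⊥ := fun e => hU₀.1 (eq_bot_iff.2 (e ▸ le_inf hU₀le hμ₀))
  have hxμ := hfixed μ hne₀
  set D := ⁅Q, Q⁆ with hDdef
  have hDQ : D ≤ Q := Subgroup.commutator_le_self Q
  have hDZ : D ≤ Z := Subgroup.commutator_le.2 fun u hu v hv => hd.commutator_mem_centOn hUQ hu hv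
  have hsD : s ∈ Subgroup.normalizer (D : Set Y) :=
    CfsgLib.Coprime.le_normalizer_commutator (A := Subgroup.zpowers s) (Subgroup.zpowers_le.2 hd.hsQ)
      (Subgroup.zpowers_le.2 hd.hsQ) (Subgroup.mem_zpowers s)
  have hcopZ : (Nat.card (Subgroup.zpowers s)).Coprime (Nat.card Z) :=
    hd.coprime.coprime_dvd_right (Subgroup.card_dvd_of_le (centOn_le hUQ))
  -- the scalar on the whole of `U`
  have hyμ : ∀ y (hy : y ∈ R), (⟨y, hRZ y hy⟩ : Subgroup.normalizer (Z : Set Y)) • μ = μ := by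
    intro y hy
    set g : Subgroup.normalizer (Z : Set Y) := ⟨y, hRZ y hy⟩ with hg
    have hxg : x • (g • μ) = g • μ := by
      rw [smul_smul, show x * g = g * x from Subtype.ext (hRs y hy).symm, ← smul_smul, hxμ]
    let φ : Z →* Kˣ := (g • μ) * μ⁻¹
    have h1 : φ = 1 := by
      refine map_eq_one_of_fixed hsZ hcopZ φ (fun a b hab => ?_) fun c hc => ?_
      · show (g • μ) b * (μ b)⁻¹ = (g • μ) a * (μ a)⁻¹
        rw [hinv_of _ hxg a b hab, hinv_of _ hxμ a b hab]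
      · have hcD : (c : Y) ∈ D := by
          refine fpf_of_eq_commutator hDQ (fun u hu v hv => Subgroup.commutator_mem_commutator hu hv)
            hd.hsQ hsD hQs (centOn_le hUQ c.2) ?_
          rw [← hc, mul_inv_cancel_right, inv_mul_cancel]
          exact one_mem _
        show (g • μ) c * (μ c)⁻¹ = 1
        rw [mul_inv_eq_one, smul_chi_apply]
        refine chi_eq hU₀.1 hμ₀ fun v _ => ?_
        have hDeq : D ≤ ((MonoidHom.eqLocus (ρ.comp (MulAut.conj y⁻¹).toMonoidHom) ρ)) := by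
          refine Subgroup.commutator_le.2 fun a ha b hb => ?_
          show ρ (y⁻¹ * ⁅a, b⁆ * y⁻¹⁻¹) = ρ ⁅a, b⁆
          rw [show y⁻¹ * ⁅a, b⁆ * y⁻¹⁻¹ = ⁅⁅a, b⁆, y⁻¹⁆⁻¹ * ⁅a, b⁆ by simp only [commutatorElement_def]; group,
            map_mul]
          have h3 := hcenR a ha b hb y⁻¹ (R.inv_mem hy)
          have h4 : ρ ⁅⁅a, b⁆, y⁻¹⁆⁻¹ * ρ ⁅⁅a, b⁆, y⁻¹⁆ = 1 := by rw [← map_mul, inv_mul_cancel, map_one]
          rw [h3, mul_one] at h4
          rw [h4, one_mul]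
        have h2 : ρ (y⁻¹ * (c : Y) * y⁻¹⁻¹) = ρ (c : Y) := hDeq hcD
        have hval : ((CfsgLib.Coprime.conjAct le_rfl g⁻¹ c : Z) : Y) = y⁻¹ * (c : Y) * y⁻¹⁻¹ := by
          rw [CfsgLib.Coprime.coe_conjAct]; simp [hg]
        rw [hval, h2]
    have := DFunLike.congr_fun h1
    exact MonoidHom.ext fun a => mul_inv_eq_one.1 (this a)
  have hUμ : U ≤ comp ρ Z μ := by
    refine inf_eq_left.1 ((hU.2.2 _ inf_le_left ?_).resolve_left hne₀)
    refine inv_sup (inv_sup (hQcomp μ) (inv_zpowers fun v hv => ⟨hUs v hv.1, ?_⟩))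
      (fun y hy v hv => ⟨hUR y hy v hv.1, ?_⟩)
    · have := rho_mem_comp ρ Z x hv.2
      rwa [hxμ] at this
    · have := rho_mem_comp ρ Z (⟨y, hRZ y hy⟩ : Subgroup.normalizer (Z : Set Y)) hv.2
      rwa [hyμ y hy] at this
  have hμinv := hinv_of μ hxμ
  have hcases : ∀ y ∈ R, (y ∈ trivOn Q Z ∧ ∀ u ∈ Q, ∀ v ∈ U, ρ y (ρ u v) = ρ u (ρ y v)) ∨
      (fix ρ s ⊓ U ≠ ⊥ ∧ y ∉ trivOn Q Z ∧ ∀ u ∈ Q, u * (y * u * y⁻¹) ∈ Z) := fun y hy =>
    hd.trivial_or_inverts hQs hU.1 hUQ hUs hUμ (hUR y hy) (hRQ hy) (hRs y hy) (N := Nat.card R)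
      (congrArg Subtype.val (pow_card_eq_one' (x := (⟨y, hy⟩ : R)))) Nat.card_pos hRr hRq (hyfix y hy)
  by_cases hall : R ≤ trivOn Q Z
  · intro y hy
    rcases hcases y hy with ⟨-, hc⟩ | ⟨-, hnT, -⟩
    · exact hc
    · exact absurd (hall hy) hnT
  exfalso
  obtain ⟨y₀, hy₀, hy₀T⟩ := SetLike.not_le_iff_exists.1 hall
  rcases hcases y₀ hy₀ with ⟨h, -⟩ | ⟨hfixU, -, -⟩
  · exact hy₀T h
  rcases hA with hbot | ⟨hAs, hAQ, hAR, hgen⟩
  · rw [hbot, bot_inf_eq] at hfixU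
    exact hfixU rfl
  -- `A` fixes the scalar on the derived subgroup
  have hAD : A ≤ Subgroup.normalizer (D : Set Y) :=
    CfsgLib.Coprime.le_normalizer_commutator hAQ hAQ
  have hζ : ∀ a ∈ A, ∀ d d' : D, (d' : Y) = a * (d : Y) * a⁻¹ →
      μ (Subgroup.inclusion hDZ d') = μ (Subgroup.inclusion hDZ d) := by
    intro a ha d d' e
    have hc : ∀ z : D, a * (z : Y) * a⁻¹ ∈ D := fun z =>
      (Subgroup.mem_normalizer_iff.1 (hAD ha) _).1 z.2
    let φ : D →* Kˣ :=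
      { toFun := fun z => μ (Subgroup.inclusion hDZ ⟨_, hc z⟩) * (μ (Subgroup.inclusion hDZ z))⁻¹
        map_one' := by
          rw [show (⟨a * ((1 : D) : Y) * a⁻¹, hc 1⟩ : D) = 1 from Subtype.ext (by simp), mul_inv_cancel]
        map_mul' := fun z w => by
          rw [show (⟨a * ((z * w : D) : Y) * a⁻¹, hc (z * w)⟩ : D) = ⟨_, hc z⟩ * ⟨_, hc w⟩ from
            Subtype.ext (by push_cast; group), map_mul, map_mul, map_mul, map_mul, mul_inv_rev]
          simp only [mul_comm, mul_left_comm, mul_assoc] }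
    suffices hφ : φ = 1 by
      have h1 : μ (Subgroup.inclusion hDZ ⟨_, hc d⟩) * (μ (Subgroup.inclusion hDZ d))⁻¹ = 1 :=
        DFunLike.congr_fun hφ d
      rw [mul_inv_eq_one] at h1
      rw [← h1]
      exact congrArg _ (Subtype.ext e)
    refine map_eq_one_of_fixed hsD (hd.coprime.coprime_dvd_right (Subgroup.card_dvd_of_le hDQ)) φ
      (fun z w hzw => ?_) fun z hz => ?_
    · show μ _ * (μ _)⁻¹ = μ _ * (μ _)⁻¹
      rw [hμinv (Subgroup.inclusion hDZ z) (Subgroup.inclusion hDZ w) hzw,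
        hμinv (Subgroup.inclusion hDZ ⟨_, hc z⟩) (Subgroup.inclusion hDZ ⟨_, hc w⟩) ?_]
      show a * (w : Y) * a⁻¹ = s * (a * (z : Y) * a⁻¹) * s⁻¹
      rw [hzw]
      calc a * (s * (z : Y) * s⁻¹) * a⁻¹ = (a * s) * (z : Y) * (a * s)⁻¹ := by group
        _ = (s * a) * (z : Y) * (s * a)⁻¹ := by rw [hAs a ha]
        _ = _ := by group
    · by_contra hne1
      obtain ⟨w, hw, hw0⟩ := Submodule.exists_mem_ne_zero_of_ne_bot hfixU
      refine hdet ⟨z, z.2, hz, a, ha, w, (mem_fix ρ).1 hw.1, fun e1 => hne1 ?_⟩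
      have hm : ⁅a, (z : Y)⁆ ∈ D := by
        rw [commutatorElement_def]; exact D.mul_mem (hc z) (D.inv_mem z.2)
      have h1 : μ (Subgroup.inclusion hDZ ⟨_, hm⟩) = 1 := chi_eq_one hU.1 hUμ hw.2 hw0 e1
      show μ _ * (μ _)⁻¹ = 1
      rw [← map_inv, ← map_inv, ← map_mul, ← map_mul, ← h1]
      exact congrArg μ (congrArg _ (Subtype.ext rfl))
  have hAZ : ∀ a ∈ A, ∀ g ∈ Z, a * g * a⁻¹ ∈ Z := by
    intro a ha g hg
    have hg' : a * g * a⁻¹ ∈ Q := (Subgroup.mem_normalizer_iff.1 (hAQ ha) g).1 (centOn_le hUQ hg)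
    refine ⟨hg', fun f hf v hv => ?_⟩
    have hf' : a⁻¹ * f * a ∈ Q := by
      have := (Subgroup.mem_normalizer_iff.1 (inv_mem (hAQ ha)) f).1 hf
      rwa [inv_inv] at this
    have h1 : μ (Subgroup.inclusion hDZ ⟨_, Subgroup.commutator_mem_commutator (centOn_le hUQ hg) hf'⟩) = 1 := by
      obtain ⟨w, hw, hw0⟩ := Submodule.exists_mem_ne_zero_of_ne_bot hU.1
      refine chi_eq_one hU.1 hUμ hw hw0 ?_
      show ρ ⁅g, a⁻¹ * f * a⁆ w = w
      rw [commutatorElement_def, rho_mul, rho_mul, rho_mul,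
        hg.2 _ hf' _ (hUQ _ (Q.inv_mem hg.1) _ (hUQ _ (Q.inv_mem hf') w hw)), rho_apply_inv, rho_apply_inv]
    rw [← rho_mul, ← rho_mul, show a * g * a⁻¹ * f = ⁅a * g * a⁻¹, f⁆ * (f * (a * g * a⁻¹)) by
      simp only [commutatorElement_def]; group, rho_mul]
    refine (hUμ (hUQ _ (Q.mul_mem hf hg') v hv) (Subgroup.inclusion hDZ ⟨_, Subgroup.commutator_mem_commutator hg' hf⟩)).trans ?_
    rw [
      hζ a ha ⟨_, Subgroup.commutator_mem_commutator (centOn_le hUQ hg) hf'⟩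
        ⟨_, Subgroup.commutator_mem_commutator hg' hf⟩ (by
          show ⁅a * g * a⁻¹, f⁆ = a * ⁅g, a⁻¹ * f * a⁆ * a⁻¹
          simp only [commutatorElement_def]; group), h1, Units.val_one, one_smul]
  -- the commutators with `A` fix the classes
  refine hall (hgen.trans (Subgroup.commutator_le.2 fun y hy a ha => ?_))
  have hya : ⁅y, a⁆ ∈ R := by
    rw [commutatorElement_def, show y * a * y⁻¹ * a⁻¹ = y * (a * y⁻¹ * a⁻¹) by group]
    exact R.mul_mem hy ((Subgroup.mem_normalizer_iff.1 (hAR ha) _).1 (R.inv_mem hy))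
  have hyN : Normalizes Q Z ⁅y, a⁆ := ⟨hRQ hya, hRZ _ hya⟩
  refine ⟨hyN, fun u hu => ⟨hyN, ?_⟩⟩
  have hw : a⁻¹ * u * a ∈ Q := by
    have := (Subgroup.mem_normalizer_iff.1 (inv_mem (hAQ ha)) u).1 hu
    rwa [inv_inv] at this
  have hQZ : ∀ f ∈ Q, ∀ z ∈ Z, f * z * f⁻¹ ∈ Z := fun f hf z hz =>
    (Subgroup.mem_normalizer_iff.1
      (CfsgLib.FitTuran.normalizer_centOn hUQ (Subgroup.le_normalizer hf) (hUQ f hf)) z).1 hz
  rcases hcases y hy with ⟨hyT, -⟩ | ⟨-, -, hyI⟩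
  · have h1 := ((inv_mem hyT : y⁻¹ ∈ trivOn Q Z).2 _ hw).2
    have h2 := hAZ a ha _ h1
    have h3 := (hyT.2 u hu).2
    have h4 := Z.mul_mem h3 ((Subgroup.mem_normalizer_iff.1 (hRZ y hy) _).1 h2)
    convert h4 using 1
    simp only [commutatorElement_def]
    group
  · have hw' : y⁻¹ * (a⁻¹ * u * a) * y ∈ Q := by
      have := (Subgroup.mem_normalizer_iff.1 (inv_mem (hRQ hy)) _).1 hw
      rwa [inv_inv] at this
    have h1 := hyI _ hw'
    -- `y⁻¹ w y = z w⁻¹`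
    have hz : (y⁻¹ * (a⁻¹ * u * a) * y) * (a⁻¹ * u * a) ∈ Z := by
      convert h1 using 1
      group
    have h2 := hAZ a ha _ hz
    have h3 := (Subgroup.mem_normalizer_iff.1 (hRZ y hy) _).1 h2
    have h4 := hQZ _ (Q.inv_mem hu) _ (Z.mul_mem h3 (Z.inv_mem (hyI u hu)))
    convert h4 using 1
    simp only [commutatorElement_def]
    group

end QData

end CfsgLib.FitTuran
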