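import Cfsg.Agent.Lib.FitTuran.SkipCount

/-!
An operator commuting with a fixed-point-free one and fixing its fixed vectors is trivial or inverts
all classes.
-/

set_option autoImplicit false
set_option linter.style.haveILetI false
set_option linter.unusedSectionVars false

open scoped commutatorElement

namespace CfsgLib.FitTuran

open CfsgLib.BG.FixedLine CfsgLib.HallHigman

variable {K W Y : Type*} [Field K] [IsAlgClosed K] [AddCommGroup W] [Module K W]
  [FiniteDimensional K W] [Nontrivial W] [Group Y] [Finite Y]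
  {ρ : Y →* Module.End K W}

namespace Stable

variable {Q Z : Subgroup Y} {lam : Y → K} (h : Stable ρ Q Z lam) {s y : Y} {r o : ℕ}
  (c : Commuting ρ Q Z s y r o)

include h c

/-- An operator of prime order has no fixed classes and leaves at most a line fixed. -/
theorem fixed_part_trivial (hirr : IsIrr (ρ.comp Q.subtype)) (ho : o.Prime) {q : ℕ} (hq : q.Prime)
    (hQq : IsPGroup q Q) (hmoves : ¬ Q ≤ h.fixMod c.hy) :
    h.fixMod c.hy ≤ Z ∧ Module.finrank K (fix ρ s) ≤ 1 := by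
  haveI := Fact.mk hq
  haveI := h.hnormal
  set F := h.fixMod c.hy with hFdef
  have hFQ : F ≤ Q := fun u hu => hu.1
  have hZF : Z ≤ F := h.le_fixMod c.hy
  obtain ⟨φ, hφ⟩ := h.relIndex_fixMod_sq c
  have hn := h.sq_finrank hirr
  have hmul := Subgroup.relIndex_mul_relIndex Z F Q hZF hFQ
  have hmove : ∀ u ∈ Q, u ∉ F → ∀ k, ¬ o ∣ k → u⁻¹ * (y ^ k * u * (y ^ k)⁻¹) ∉ Z :=
    fun u hu huF k hk e => huF (h.fix_of_coprime c.hy (a := k) (b := o)
      (ho.coprime_iff_not_dvd.2 hk).symm hu e (c.hyo u hu))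
  obtain ⟨x, z, hx, hz, hle⟩ := h.finrank_comm_le_of c hirr hZF hFQ (fun u hu => hu.2)
    (h.fixMod_invariant c.hy c.hs c.hys) (h.fixMod_invariant c.hy c.hy rfl) hmove ho.pos
  obtain ⟨o₁, hd1, hcomm⟩ := h.finrank_comm_fpf hirr c.hs c.hr (by rw [← map_pow, c.hsr, map_one])
    (fun u hu => by rw [c.hsr]; simp) c.hfpf
  obtain ⟨T, S, hT, hcs, hS, hL, -⟩ := h.exists_blocks c ho.pos hirr
  rw [← hn] at hz hmul
  set m := Module.finrank K (fix ρ s) with hmdef
  set d := Module.finrank K W with hd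
  have hr2 := c.hr.two_le
  have ho2 := ho.two_le
  -- the bound on the fixed space
  have hbound : r * m ^ 2 ≤ r + (φ ^ 2 - 1) := by
    rcases Nat.eq_zero_or_pos m with h0 | h0
    · rw [h0]; simp
    have h1 : o * m ^ 2 + S ≤ o * (1 + x + z) := (hL ho h0).trans (Nat.mul_le_mul le_rfl hle)
    have h2 : r * (o * m ^ 2 + S) ≤ r * (o * (1 + x + z)) := Nat.mul_le_mul le_rfl h1
    have h3 : φ ^ 2 - 1 = r * x := by rw [← hφ, ← hx]; omega
    rw [h3]
    have h4 : m ^ 2 + S = 1 + o₁ := by omega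
    have h5 : r * (m ^ 2 + S) = r * (1 + o₁) := by rw [h4]
    have h6 : r * o * z + (r * x + 1) = 1 + o₁ * r := by rw [hx, hz, ← hd1]
    obtain ⟨O, rfl⟩ : ∃ O, o = O + 1 := ⟨o - 1, by omega⟩
    have h7 : O * (r * m ^ 2) ≤ O * (r + r * x) := by linarith
    exact Nat.le_of_mul_le_mul_left h7 (by omega)
  have hdvdd : r ∣ d ^ 2 - 1 := ⟨o₁, by rw [hd1, Nat.add_sub_cancel_left, mul_comm]⟩
  have hlow : d ≤ r * m + (r - 1) := by
    refine (mul_fix_le c.hr.one_le hT hcs ?_).2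
    rw [← hS, hcomm, hd1, mul_add, mul_one, mul_comm r o₁]
    omega
  by_cases hφ1 : φ ≤ 1
  · have hF1 : Z.relIndex F = 1 := by
      have := pow_le_pow_left₀ (Nat.zero_le _) hφ1 2
      rw [← hφ, one_pow] at this
      exact le_antisymm this (hx ▸ Nat.le_add_left 1 _)
    refine ⟨Subgroup.relIndex_eq_one.1 hF1, ?_⟩
    have hsq : φ ^ 2 - 1 = 0 := by rw [← hφ, hF1]
    rw [hsq, add_zero] at hbound
    by_contra hh
    push Not at hh
    nlinarith [Nat.mul_le_mul hh hh]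
  exfalso
  push Not at hφ1
  obtain ⟨e, he⟩ : φ ∣ d := (Nat.pow_dvd_pow_iff two_ne_zero).1 ⟨_, by rw [← hmul, hφ]⟩
  have hg : F.relIndex Q = e ^ 2 := by
    rw [he, mul_pow, hφ] at hmul
    exact Nat.eq_of_mul_eq_mul_left (pow_pos (by omega) 2) hmul
  have he2 : 2 ≤ e := by
    by_contra hh
    have hd0 : 0 < d := Module.finrank_pos
    have : e = 1 := by
      rcases Nat.eq_zero_or_pos e with h0 | h0
      · rw [h0, mul_zero] at he; omega
      · omega
    rw [this, one_pow] at hg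
    exact hmoves (Subgroup.relIndex_eq_one.1 hg)
  have hφd : r ∣ φ ^ 2 - 1 := ⟨x, by rw [← hφ, ← hx]; omega⟩
  have hed : r ∣ e ^ 2 - 1 := by
    have h1 : 1 ≤ φ ^ 2 := Nat.one_le_pow _ _ (by omega)
    have h2 : 1 ≤ e ^ 2 := Nat.one_le_pow _ _ (by omega)
    have a1 : 1 ≡ φ ^ 2 [MOD r] := (Nat.modEq_iff_dvd' h1).2 hφd
    have a2 : 1 ≡ d ^ 2 [MOD r] := (Nat.modEq_iff_dvd' (Nat.one_le_pow _ _ Module.finrank_pos)).2 hdvdd
    rw [he, mul_pow] at a2
    have a3 : φ ^ 2 * e ^ 2 ≡ 1 * e ^ 2 [MOD r] := (a1.symm).mul_right _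
    exact (Nat.modEq_iff_dvd' h2).1 (by simpa using a2.trans a3)
  have hex : e ^ 2 ≠ r + 1 := by
    intro hcontra
    obtain ⟨x', z', hx', hz', -⟩ := h.mul_finrank_comm_le hirr c.hy hZF hFQ
      (h.fixMod_invariant c.hy c.hy rfl) (a := 1) (b := o) one_pos ho.pos
      (fun u hu => by rw [pow_one]; exact hu.2) (fun u hu => c.hyo u hu)
      (fun u _ _ j hj hj1 => by omega)
      (fun u hu huF j hj hjo => hmove u hu huF j fun hd => absurd (Nat.le_of_dvd hj hd) (by omega))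
    rw [← hn] at hz'
    have hdvd : o ∣ φ ^ 2 * r := ⟨z', by
      have e1 : d ^ 2 = φ ^ 2 * r + φ ^ 2 := by rw [he, mul_pow, hcontra]; ring
      rw [e1, hφ] at hz'
      linarith⟩
    have hco : o.Coprime (φ ^ 2) := by
      rw [← hφ]
      exact c.hoQ.coprime_dvd_right ((Z.relIndex_dvd_card F).trans (Subgroup.card_dvd_of_le hFQ))
    have h1 := hco.dvd_of_dvd_mul_left hdvd
    exact ho.ne_one (Nat.eq_one_of_dvd_coprimes c.hor dvd_rfl h1)
  refine no_fixed_part c.hr hφ1 he2 hφd hed hex ?_ hbound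
  rw [← he]; exact hlow

/-- An operator without fixed classes has order two and fixes a line. -/
theorem order_eq_two (hirr : IsIrr (ρ.comp Q.subtype)) (ho : 2 ≤ o) (hne : ¬ Q ≤ Z)
    (hm : Module.finrank K (fix ρ s) ≤ 1)
    (hmove : ∀ u ∈ Q, u ∉ Z → ∀ k, ¬ o ∣ k → u⁻¹ * (y ^ k * u * (y ^ k)⁻¹) ∉ Z) :
    o = 2 ∧ Module.finrank K (fix ρ s) = 1 := by
  haveI := h.hnormal
  obtain ⟨x, z, hx, hz, hle⟩ := h.finrank_comm_le_of c hirr le_rfl h.hZQ
    (fun u hu => Z.mul_mem (Z.inv_mem hu) ((Subgroup.mem_normalizer_iff.1 c.hy.2 u).1 hu))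
    (fun u hu => (Subgroup.mem_normalizer_iff.1 c.hs.2 u).1 hu)
    (fun u hu => (Subgroup.mem_normalizer_iff.1 c.hy.2 u).1 hu) hmove (by omega)
  rw [Subgroup.relIndex_self] at hx hz
  obtain ⟨o₁, hd1, hcomm⟩ := h.finrank_comm_fpf hirr c.hs c.hr (by rw [← map_pow, c.hsr, map_one])
    (fun u hu => by rw [c.hsr]; simp) c.hfpf
  obtain ⟨T, S, hT, hcs, hS, -, hL⟩ := h.exists_blocks c (by omega) hirr
  have hn := h.sq_finrank hirr
  set m := Module.finrank K (fix ρ s)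
  set d := Module.finrank K W with hd
  have hx0 : x = 0 := by
    have : r * x = 0 := by omega
    exact (Nat.mul_eq_zero.1 this).resolve_left c.hr.ne_zero
  subst hx0
  have ho₁ : o₁ = o * z := by
    rw [← hn] at hz
    have : r * (o * z) = r * o₁ := by rw [← mul_assoc, mul_comm r o₁]; omega
    exact (Nat.eq_of_mul_eq_mul_left c.hr.pos this).symm
  have hd2 : 2 ≤ d := by
    by_contra hlt
    have h0 : 0 < d := Module.finrank_pos
    have h1 : d = 1 := by omega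
    rw [h1, one_pow] at hn
    exact hne (Subgroup.relIndex_eq_one.1 hn.symm)
  have hmS : m ^ 2 + S = 1 + o₁ := by omega
  have hcases := dims c.hr hm hT hd2 hd1 hmS hcs
  have hsum : m ^ 2 + T ≤ 1 + z := by
    refine (hL ?_).trans (hle.trans (by omega))
    rcases hcases with ⟨-, e⟩ | ⟨-, -, e⟩ | ⟨hm1, h1, e⟩
    · exact Or.inl e
    · exact Or.inr (Or.inl e)
    · exact Or.inr (Or.inr ⟨e, by omega⟩)
  refine order_le_two c.hr hT hd2 ho hd1 hm ?_ ?_
  · rw [ho₁]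
    calc o * (m ^ 2 + T) ≤ o * (1 + z) := Nat.mul_le_mul le_rfl hsum
      _ = o + o * z := by ring
  · rcases hcases with ⟨e, -⟩ | ⟨h1, e, -⟩ | ⟨h1, e, -⟩
    · exact Or.inl e
    · exact Or.inr (Or.inl ⟨h1, e⟩)
    · exact Or.inr (Or.inr ⟨h1, e⟩)

end Stable

end CfsgLib.FitTuran
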