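import Cfsg.Agent.Lib.FitTuran.Bounds

/-!
An operator commuting with a fixed-point-free one and fixing its fixed vectors.
-/

set_option autoImplicit false
set_option linter.style.haveILetI false
set_option linter.unusedSectionVars false

open scoped commutatorElement

namespace CfsgLib.FitTuran

open CfsgLib.BG.FixedLine CfsgLib.HallHigman

variable {K W Y : Type*} [Field K] [IsAlgClosed K] [AddCommGroup W] [Module K W]
  [FiniteDimensional K W] [Nontrivial W] [Group Y] [Finite Y]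
  {ρ : Y →* Module.End K W}

variable (ρ) in
/-- The operator `s`, fixed-point-free on the classes, and `y` commuting with it. -/
structure Commuting (Q Z : Subgroup Y) (s y : Y) (r o : ℕ) : Prop where
  hs : Normalizes Q Z s
  hy : Normalizes Q Z y
  hys : y * s = s * y
  hyz : ∀ z ∈ Z, ρ y * ρ z = ρ z * ρ y
  hsz : ∀ z ∈ Z, ρ s * ρ z = ρ z * ρ s
  hr : r.Prime
  hr0 : (r : K) ≠ 0
  hsr : s ^ r = 1
  hfpf : ∀ u ∈ Q, u⁻¹ * (s * u * s⁻¹) ∈ Z → u ∈ Z
  hyo : ∀ u ∈ Q, u⁻¹ * (y ^ o * u * (y ^ o)⁻¹) ∈ Z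
  hyfix : ∀ v, ρ s v = v → ρ y v = v
  hor : o.Coprime r
  hoQ : o.Coprime (Nat.card Q)

namespace Stable

variable {Q Z : Subgroup Y} {lam : Y → K} (h : Stable ρ Q Z lam) {s y : Y} {r o : ℕ}
  (c : Commuting ρ Q Z s y r o)

include h c

omit [IsAlgClosed K] [FiniteDimensional K W] in
/-- The classes fixed by `y` have square index over `Z`. -/
theorem relIndex_fixMod_sq : ∃ m, Z.relIndex (h.fixMod c.hy) = m ^ 2 := by
  classical
  have hlam1 : lam 1 = 1 := h.heis.lam_one
  have hL : ∀ u ∈ Q, ∀ u' ∈ Q, ∀ v ∈ Q, lam ⁅u * u', v⁆ = lam ⁅u, v⁆ * lam ⁅u', v⁆ :=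
    fun u hu u' hu' v hv => h.heis.lam_mul_left ⟨u, hu⟩ ⟨u', hu'⟩ ⟨v, hv⟩
  have hskew : ∀ u ∈ Q, ∀ v ∈ Q, lam ⁅v, u⁆ * lam ⁅u, v⁆ = 1 := by
    intro u hu v hv
    have h1 := h.hlam _ (Z.mul_mem (h.hcomm v hv u hu) (h.hcomm u hu v hv))
    rw [map_mul, h.hlam _ (h.hcomm v hv u hu), h.hlam _ (h.hcomm u hu v hv), smul_mul_smul_comm, one_mul,
      ← commutatorElement_inv u v, inv_mul_cancel] at h1
    rw [hlam1] at h1
    rw [← commutatorElement_inv u v]
    exact smul_left_injective K (one_ne_zero (α := Module.End K W)) h1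
  have hR : ∀ u ∈ Q, ∀ v ∈ Q, ∀ v' ∈ Q, lam ⁅u, v * v'⁆ = lam ⁅u, v⁆ * lam ⁅u, v'⁆ := by
    intro u hu v hv v' hv'
    have e := hskew u hu (v * v') (Q.mul_mem hv hv')
    rw [hL v hv v' hv' u hu] at e
    refine mul_left_cancel₀ (a := lam ⁅v, u⁆ * lam ⁅v', u⁆)
      (fun e0 => by rw [e0, zero_mul] at e; exact zero_ne_one e) ?_
    rw [e, show lam ⁅v, u⁆ * lam ⁅v', u⁆ * (lam ⁅u, v⁆ * lam ⁅u, v'⁆) =
      (lam ⁅v, u⁆ * lam ⁅u, v⁆) * (lam ⁅v', u⁆ * lam ⁅u, v'⁆) by ring, hskew u hu v hv,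
      hskew u hu v' hv', one_mul]
  have hFQ : h.fixMod c.hy ≤ Q := fun u hu => hu.1
  obtain ⟨m, hm, -⟩ := relIndex_radical_eq_sq (h.le_fixMod c.hy) (fun u v => lam ⁅u, v⁆)
    (fun u hu u' hu' v hv => hL u (hFQ hu) u' (hFQ hu') v (hFQ hv))
    (fun u hu v hv v' hv' => hR u (hFQ hu) v (hFQ hv) v' (hFQ hv'))
    (fun u _ => by rw [commutatorElement_self]; exact hlam1)
    (fun u hu => by
      have hone : ∀ {a : Y}, a ∈ Q → ∀ z ∈ Z, lam ⁅a, z⁆ = 1 := by
        intro a ha z hz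
        have h1 := h.heis.conj_rho ⟨a, ha⟩ ⟨z, h.hZQ hz⟩
        simp only [MonoidHom.coe_comp, Function.comp_apply, Subgroup.coe_subtype, Subgroup.coe_inv,
          h.hlam z hz, mul_smul_comm, smul_mul_assoc, mul_one, ← map_mul ρ, mul_inv_cancel, map_one,
          smul_smul] at h1
        have h2 := smul_left_injective K (one_ne_zero (α := Module.End K W)) h1
        exact (mul_eq_right₀ (h.heis.lam_ne_zero (z := ⟨z, h.hZQ hz⟩) hz)).1 h2.symm
      constructor
      · intro hall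
        refine h.hrad u (hFQ hu) fun w hw => ?_
        -- averaging `w` over `y`
        let P : ℕ → Y := fun i => Nat.rec 1 (fun i P => (y ^ i * w * (y ^ i)⁻¹) * P) i
        have hwi : ∀ i, y ^ i * w * (y ^ i)⁻¹ ∈ Q := fun i =>
          (Subgroup.mem_normalizer_iff.1 (c.hy.pow i).1 w).1 hw
        have hPQ : ∀ i, P i ∈ Q := by
          intro i
          induction i with
          | zero => exact Q.one_mem
          | succ i ih => exact Q.mul_mem (hwi i) ih
        have hcy : ∀ v ∈ Q, lam ⁅u, y * v * y⁻¹⁆ = lam ⁅u, v⁆ := by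
          intro v hv
          have hu' := hu.2
          have huQ := hFQ hu
          have hyv : y * v * y⁻¹ ∈ Q := (Subgroup.mem_normalizer_iff.1 c.hy.1 v).1 hv
          have hyu : y * u * y⁻¹ ∈ Q := (Subgroup.mem_normalizer_iff.1 c.hy.1 u).1 huQ
          have e1 : lam ⁅y * u * y⁻¹, y * v * y⁻¹⁆ = lam ⁅u, v⁆ := by
            rw [show ⁅y * u * y⁻¹, y * v * y⁻¹⁆ = y * ⁅u, v⁆ * y⁻¹ by
              simp only [commutatorElement_def]; group]
            exact h.lam_conj c.hy c.hyz _ (h.hcomm u huQ v hv)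
          rw [show y * u * y⁻¹ = u * (u⁻¹ * (y * u * y⁻¹)) by group, hL u huQ _ (h.hZQ hu') _ hyv] at e1
          have e2 : lam ⁅u⁻¹ * (y * u * y⁻¹), y * v * y⁻¹⁆ = 1 := by
            have := hskew _ (h.hZQ hu') _ hyv
            rwa [hone hyv _ hu', one_mul] at this
          rwa [e2, mul_one] at e1
        have hpow : ∀ i, lam ⁅u, y ^ i * w * (y ^ i)⁻¹⁆ = lam ⁅u, w⁆ := by
          intro i
          induction i with
          | zero => simp
          | succ i ih =>
            rw [pow_succ', show y * y ^ i * w * (y * y ^ i)⁻¹ = y * (y ^ i * w * (y ^ i)⁻¹) * y⁻¹ by group,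
              hcy _ (hwi i), ih]
        have hP : ∀ i, lam ⁅u, P i⁆ = lam ⁅u, w⁆ ^ i := by
          intro i
          induction i with
          | zero => show lam ⁅u, 1⁆ = _; rw [commutatorElement_one_right, hlam1, pow_zero]
          | succ i ih =>
            show lam ⁅u, y ^ i * w * (y ^ i)⁻¹ * P i⁆ = _
            rw [hR u (hFQ hu) _ (hwi i) _ (hPQ i), hpow, ih, pow_succ']
        haveI := h.hnormal
        have hcq : ∀ a b : Q, ((a : Q ⧸ Z.subgroupOf Q)) * (b : Q) = (b : Q ⧸ Z.subgroupOf Q) * (a : Q) := by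
          intro a b
          rw [← QuotientGroup.mk_mul, ← QuotientGroup.mk_mul, QuotientGroup.eq, Subgroup.mem_subgroupOf]
          have := h.hcomm ((b : Y)⁻¹) (Q.inv_mem b.2) ((a : Y)⁻¹) (Q.inv_mem a.2)
          simpa [commutatorElement_def, mul_assoc] using this
        have hshift : ∀ i, ((autQ c.hy ⟨P i, hPQ i⟩ : Q) : Q ⧸ Z.subgroupOf Q) * (⟨w, hw⟩ : Q) =
            ((⟨P (i + 1), hPQ (i + 1)⟩ : Q) : Q ⧸ Z.subgroupOf Q) := by
          intro i
          induction i with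
          | zero =>
            rw [show (⟨P 0, hPQ 0⟩ : Q) = 1 from rfl, map_one, QuotientGroup.mk_one, one_mul]
            congr 1
            exact Subtype.ext (by show w = y ^ 0 * w * (y ^ 0)⁻¹ * 1; simp)
          | succ i ih =>
            have e1 : (autQ c.hy ⟨P (i + 1), hPQ (i + 1)⟩ : Q) =
                ⟨y ^ (i + 1) * w * (y ^ (i + 1))⁻¹, hwi (i + 1)⟩ * autQ c.hy ⟨P i, hPQ i⟩ :=
              Subtype.ext (by
                show y * (y ^ i * w * (y ^ i)⁻¹ * P i) * y⁻¹ =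
                  y ^ (i + 1) * w * (y ^ (i + 1))⁻¹ * (y * P i * y⁻¹)
                rw [pow_succ']; group)
            rw [e1, QuotientGroup.mk_mul, mul_assoc, ih, ← QuotientGroup.mk_mul]
            rfl
        have hlast : P o ∈ h.fixMod c.hy := by
          refine ⟨hPQ o, ?_⟩
          have h1 : ((⟨P (o + 1), hPQ (o + 1)⟩ : Q) : Q ⧸ Z.subgroupOf Q) =
              ((⟨P o, hPQ o⟩ : Q) : Q ⧸ Z.subgroupOf Q) * (⟨w, hw⟩ : Q) := by
            have e : (⟨P (o + 1), hPQ (o + 1)⟩ : Q) = ⟨y ^ o * w * (y ^ o)⁻¹, hwi o⟩ * ⟨P o, hPQ o⟩ := rfl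
            rw [e, QuotientGroup.mk_mul, hcq]
            congr 1
            rw [eq_comm, QuotientGroup.eq, Subgroup.mem_subgroupOf]
            simpa [mul_assoc] using c.hyo w hw
          rw [← hshift] at h1
          have h2 := mul_right_cancel h1
          rw [eq_comm, QuotientGroup.eq, Subgroup.mem_subgroupOf] at h2
          simpa [coe_autQ, mul_assoc] using h2
        have e1 : lam ⁅u, w⁆ ^ o = 1 := by rw [← hP o]; exact hall _ hlast
        have e2 : lam ⁅u, w⁆ ^ Nat.card Q = 1 := by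
          have key : ∀ i : ℕ, lam ⁅u ^ i, w⁆ = lam ⁅u, w⁆ ^ i := by
            intro i
            induction i with
            | zero => rw [pow_zero, commutatorElement_one_left, hlam1, pow_zero]
            | succ i ih => rw [pow_succ', pow_succ', hL u (hFQ hu) _ (Q.pow_mem (hFQ hu) i) w hw, ih]
          rw [← key, show u ^ Nat.card Q = 1 from congrArg Subtype.val
            (pow_card_eq_one' (x := (⟨u, hFQ hu⟩ : Q))), commutatorElement_one_left, hlam1]
        have e3 : lam ⁅u, w⁆ = 1 := by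
          have := pow_gcd_eq_one.2 ⟨e1, e2⟩
          rwa [c.hoQ.gcd_eq_one, pow_one] at this
        have e4 := h.heis.conj_rho ⟨u, hFQ hu⟩ ⟨w, hw⟩
        simp only [MonoidHom.coe_comp, Function.comp_apply, Subgroup.coe_subtype, Subgroup.coe_inv] at e4
        rw [show ((⁅(⟨u, hFQ hu⟩ : Q), ⟨w, hw⟩⁆ : Q) : Y) = ⁅u, w⁆ from rfl, e3, one_smul] at e4
        conv_rhs => rw [← e4]
        rw [mul_assoc, mul_assoc (ρ u) (ρ w), ← map_mul ρ u⁻¹, inv_mul_cancel, map_one, mul_one]
      · intro hz v hv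
        have := hskew u (h.hZQ hz) v (hFQ hv)
        rwa [hone (hFQ hv) u hz, one_mul] at this)
  exact ⟨m, hm⟩

omit [IsAlgClosed K] [Nontrivial W] [FiniteDimensional K W] in
/-- The powers of the product that fix a class. -/
theorem fix_of_pow {u : Y} (hu : u ∈ Q) {j : ℕ} (hj : u⁻¹ * ((s * y) ^ j * u * ((s * y) ^ j)⁻¹) ∈ Z)
    (hne : u ∉ Z) : r ∣ j ∧ u⁻¹ * (y ^ j * u * (y ^ j)⁻¹) ∈ Z := by
  haveI := h.hnormal
  have hcomm : Commute s y := (show Commute y s from c.hys).symm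
  have hsy : Normalizes Q Z (s * y) := c.hs.mul c.hy
  have hjo : u⁻¹ * ((s * y) ^ (j * o) * u * ((s * y) ^ (j * o))⁻¹) ∈ Z := by
    have h1 := (classPerm_pow_eq_iff h.hnormal hsy j ⟨u, hu⟩).2 hj
    refine (classPerm_pow_eq_iff h.hnormal hsy (j * o) ⟨u, hu⟩).1 ?_
    rw [pow_mul]; exact Equiv.Perm.pow_apply_eq_self_of_apply_eq_self h1 o
  have hyjo : ∀ v ∈ Q, v⁻¹ * (y ^ (j * o) * v * (y ^ (j * o))⁻¹) ∈ Z := by
    intro v hv
    refine (classPerm_pow_eq_iff h.hnormal c.hy (j * o) ⟨v, hv⟩).1 ?_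
    rw [mul_comm, pow_mul]
    exact Equiv.Perm.pow_apply_eq_self_of_apply_eq_self
      ((classPerm_pow_eq_iff h.hnormal c.hy o ⟨v, hv⟩).2 (c.hyo v hv)) j
  have hrj : r ∣ j := by
    by_contra hrj
    have hsu : s ^ (j * o) * u * (s ^ (j * o))⁻¹ ∈ Q :=
      (Subgroup.mem_normalizer_iff.1 (c.hs.pow _).1 u).1 hu
    have h2 : u⁻¹ * (s ^ (j * o) * u * (s ^ (j * o))⁻¹) ∈ Z := by
      have h3 := Z.mul_mem hjo (Z.inv_mem (hyjo _ hsu))
      rw [hcomm.mul_pow] at h3
      convert h3 using 1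
      rw [(hcomm.pow_pow (j * o) (j * o)).eq]
      group
    refine hne (c.hfpf u hu ?_)
    exact (h.fix_of_coprime c.hs (a := j * o) (b := r) (Nat.Coprime.mul_left
      (c.hr.coprime_iff_not_dvd.2 hrj).symm c.hor) hu h2 (by rw [c.hsr]; simpa using Z.one_mem)).2
  refine ⟨hrj, ?_⟩
  obtain ⟨t, rfl⟩ := hrj
  rw [hcomm.mul_pow, pow_mul s r t, c.hsr, one_pow, one_mul] at hj
  exact hj

/-- The count for the product `s y`. -/
theorem finrank_comm_le_of (hirr : IsIrr (ρ.comp Q.subtype)) {F : Subgroup Y} (hZF : Z ≤ F) (hFQ : F ≤ Q)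
    (hF : ∀ u ∈ F, u⁻¹ * (y * u * y⁻¹) ∈ Z) (hsF : ∀ u ∈ F, s * u * s⁻¹ ∈ F)
    (hyF : ∀ u ∈ F, y * u * y⁻¹ ∈ F)
    (hmove : ∀ u ∈ Q, u ∉ F → ∀ k, ¬ o ∣ k → u⁻¹ * (y ^ k * u * (y ^ k)⁻¹) ∉ Z) (ho : 0 < o) :
    ∃ x z : ℕ, r * x + 1 = Z.relIndex F ∧ r * o * z + Z.relIndex F = Z.relIndex Q ∧
      Module.finrank K (comm (ρ (s * y))) ≤ 1 + x + z := by
  haveI := h.hnormal
  have hcomm : Commute s y := (show Commute y s from c.hys).symm
  have hsy : Normalizes Q Z (s * y) := c.hs.mul c.hy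
  have hyk : ∀ u ∈ F, ∀ k, u⁻¹ * (y ^ k * u * (y ^ k)⁻¹) ∈ Z := by
    intro u hu k
    refine (classPerm_pow_eq_iff h.hnormal c.hy k ⟨u, hFQ hu⟩).1 ?_
    exact Equiv.Perm.pow_apply_eq_self_of_apply_eq_self (by
      have := (classPerm_pow_eq_iff h.hnormal c.hy 1 ⟨u, hFQ hu⟩).2 (by rw [pow_one]; exact hF u hu)
      rwa [pow_one] at this) k
  refine h.mul_finrank_comm_le hirr hsy hZF hFQ (fun u hu => ?_) (a := r) (b := r * o) c.hr.pos
    (Nat.mul_pos c.hr.pos ho) (fun u hu => ?_) (fun u hu => ?_) (fun u hu huZ j hj hjr e => ?_)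
    (fun u hu huF j hj hjb e => ?_)
  · have := hsF _ (hyF u hu)
    simpa [mul_assoc] using this
  · rw [hcomm.mul_pow, c.hsr, one_mul]; exact hyk u hu r
  · rw [hcomm.mul_pow, pow_mul s, c.hsr, one_pow, one_mul]
    refine (classPerm_pow_eq_iff h.hnormal c.hy (r * o) ⟨u, hu⟩).1 ?_
    rw [mul_comm, pow_mul]
    exact Equiv.Perm.pow_apply_eq_self_of_apply_eq_self
      ((classPerm_pow_eq_iff h.hnormal c.hy o ⟨u, hu⟩).2 (c.hyo u hu)) r
  · exact absurd (Nat.le_of_dvd hj (h.fix_of_pow c (hFQ hu) e huZ).1) (by omega)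
  · obtain ⟨h1, h2⟩ := h.fix_of_pow c hu e fun hz => huF (hZF hz)
    by_cases hoj : o ∣ j
    · exact absurd (Nat.le_of_dvd hj (Nat.Coprime.mul_dvd_of_dvd_of_dvd c.hor.symm h1 hoj)) (by omega)
    · exact hmove u hu huF j hoj h2

/-- The blocks of the commutant of `s` seen by `y`. -/
theorem exists_blocks (ho : 0 < o) (hirr : IsIrr (ρ.comp Q.subtype)) :
    ∃ T S : ℕ, T + Module.finrank K (fix ρ s) = Module.finrank K W ∧ T ^ 2 ≤ (r - 1) * S ∧
      Module.finrank K (comm (ρ s)) = Module.finrank K (fix ρ s) ^ 2 + S ∧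
      (o.Prime → 0 < Module.finrank K (fix ρ s) →
        o * Module.finrank K (fix ρ s) ^ 2 + S ≤ o * Module.finrank K (comm (ρ (s * y)))) ∧
      ((S = T ∨ S = T + 2 ∨ (S = 2 * T ∧ T = 2 * (r - 1))) →
        Module.finrank K (fix ρ s) ^ 2 + T ≤ Module.finrank K (comm (ρ (s * y)))) := by
  classical
  obtain ⟨hf, e, hdec, hblk, hfix, hcard⟩ := exists_decomp ρ s (h.cast_orderOf_ne_zero c.hr0 c.hsr)
  letI := hf
  set U := fun μ : Chi K (Subgroup.zpowers s) => comp ρ (Subgroup.zpowers s) μ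
  have hU1 : U 1 = fix ρ s := hfix
  have hY : ∀ i, ∀ v ∈ U i, ρ y v ∈ U i := by
    intro i v hv
    have : ρ y ∈ blk U := by
      rw [hblk, mem_comm, ← map_mul, ← map_mul, c.hys]
    exact this i v hv
  set m : Chi K (Subgroup.zpowers s) → ℕ := fun i => Module.finrank K (U i)
  set C : Chi K (Subgroup.zpowers s) → ℕ := fun i =>
    Module.finrank K (comm ((ρ y).restrict (hY i)))
  have hm1 : m 1 = Module.finrank K (fix ρ s) :=
    congrArg (fun V : Submodule K W => Module.finrank K V) hU1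
  have hC1 : C 1 = m 1 ^ 2 := by
    have : (ρ y).restrict (hY 1) = 1 := LinearMap.ext fun v => Subtype.ext (c.hyfix _ (by
      have hv : (v : W) ∈ fix ρ s := hU1 ▸ v.2
      exact hv))
    show Module.finrank K (comm ((ρ y).restrict (hY 1))) = m 1 ^ 2
    rw [this, finrank_comm_one, Module.finrank_linearMap, sq]
  have hle : ∑ i, C i ≤ Module.finrank K (comm (ρ (s * y))) := by
    rw [← hdec.finrank_blk (ρ y) hY]
    refine Submodule.finrank_mono fun f hf => ?_
    obtain ⟨h1, h2⟩ := Submodule.mem_inf.1 hf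
    rw [hblk, mem_comm] at h1
    rw [mem_comm] at h2
    rw [mem_comm, map_mul, mul_assoc, h2, ← mul_assoc, h1, mul_assoc]
  have hsplit : ∀ f : Chi K (Subgroup.zpowers s) → ℕ, ∑ i, f i = f 1 + ∑ i ∈ Finset.univ.erase 1, f i :=
    fun f => (Finset.add_sum_erase _ _ (Finset.mem_univ _)).symm
  set T := ∑ i ∈ Finset.univ.erase (1 : Chi K (Subgroup.zpowers s)), m i with hT
  set S := ∑ i ∈ Finset.univ.erase (1 : Chi K (Subgroup.zpowers s)), m i ^ 2 with hS
  have hcard' : (Finset.univ.erase (1 : Chi K (Subgroup.zpowers s))).card ≤ r - 1 := by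
    rw [Finset.card_erase_of_mem (Finset.mem_univ _), Finset.card_univ, hcard]
    exact Nat.sub_le_sub_right (Nat.le_of_dvd c.hr.pos (orderOf_dvd_of_pow_eq_one c.hsr)) 1
  refine ⟨T, S, ?_, sq_sum_le_card_mul_sum_sq.trans (Nat.mul_le_mul hcard' le_rfl), ?_, ?_, ?_⟩
  · rw [← hdec.finrank_sum, ← hm1, add_comm, hT, ← hsplit m]
  · have h1 := hdec.finrank_blk (1 : Module.End K W) (fun i v hv => hv)
    rw [comm_one, inf_top_eq, hblk] at h1
    have hsq : ∀ i, Module.finrank K
        (comm ((1 : Module.End K W).restrict fun v (hv : v ∈ U i) => hv)) = m i ^ 2 := fun i => by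
      rw [show (1 : Module.End K W).restrict (fun v (hv : v ∈ U i) => hv) = 1 from
        LinearMap.ext fun v => rfl, finrank_comm_one, Module.finrank_linearMap, sq]
    rw [h1, Finset.sum_congr rfl fun i _ => hsq i, ← hm1, hS, ← hsplit fun i => m i ^ 2]
  · intro hop hpos
    have hpow : (ρ y) ^ o = 1 := by
      -- `y ^ o` is a scalar fixing a vector
      have hyo : ∀ u : Q, (ρ (y ^ o)) * ρ (u : Y) = ρ (u : Y) * ρ (y ^ o) := by
        intro u
        refine h.commute_of_trivial c.hs c.hsz c.hfpf ((show Commute y s from c.hys).pow_left o).eq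
          (fun z hz => ?_) (fun v hv => c.hyo v hv) u u.2
        rw [map_pow]; exact ((show Commute (ρ y) (ρ z) from c.hyz z hz).pow_left o).eq
      obtain ⟨t, ht⟩ := Intw.scalar (A := ρ (y ^ o)) (ρ := ρ.comp Q.subtype)
        (fun u w => LinearMap.congr_fun (hyo u) w) hirr
      obtain ⟨v, hv, hv0⟩ := Submodule.exists_mem_ne_zero_of_ne_bot
        (show fix ρ s ≠ ⊥ from fun e => by rw [e, finrank_bot] at hpos; omega)
      have hfixv : ∀ i : ℕ, ρ (y ^ i) v = v := by
        intro i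
        induction i with
        | zero => simp
        | succ i ih => rw [pow_succ, rho_mul, c.hyfix v (mem_fix ρ |>.1 hv), ih]
      have h1 := hfixv o
      rw [ht] at h1
      have : t = 1 := smul_left_injective K hv0 (show t • v = (1 : K) • v by rw [one_smul]; exact h1)
      rw [← map_pow, ht, this, one_smul]
      rfl
    calc o * Module.finrank K (fix ρ s) ^ 2 + S
        ≤ o * C 1 + ∑ i ∈ Finset.univ.erase 1, o * C i := by
          refine Nat.add_le_add (by rw [hC1, hm1]) (Finset.sum_le_sum fun i _ => ?_)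
          refine sq_le_mul_finrank_comm _ hop (LinearMap.ext fun v => Subtype.ext ?_)
          have key : ∀ n : ℕ, ((((ρ y).restrict (hY i)) ^ n) v : W) = ((ρ y) ^ n) (v : W) := by
            intro n
            induction n with
            | zero => rfl
            | succ n ih =>
              rw [pow_succ', Module.End.mul_apply, LinearMap.coe_restrict_apply, ih, pow_succ',
                Module.End.mul_apply]
          rw [key, hpow]
          rfl
      _ = o * ∑ i, C i := by rw [hsplit C, mul_add, Finset.mul_sum]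
      _ ≤ _ := Nat.mul_le_mul le_rfl hle
  · intro hcase
    have hsmall : ∀ i ∈ Finset.univ.erase (1 : Chi K (Subgroup.zpowers s)), m i ≤ 2 := by
      intro i hi
      have h1 : (m i) ^ 2 + ∑ k ∈ (Finset.univ.erase (1 : Chi K (Subgroup.zpowers s))).erase i, m k ^ 2 = S :=
        Finset.add_sum_erase _ (fun k => m k ^ 2) hi
      have h2 : m i + ∑ k ∈ (Finset.univ.erase (1 : Chi K (Subgroup.zpowers s))).erase i, m k = T :=
        Finset.add_sum_erase _ m hi
      have h3 : ∑ k ∈ (Finset.univ.erase (1 : Chi K (Subgroup.zpowers s))).erase i, m k ≤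
          ∑ k ∈ (Finset.univ.erase (1 : Chi K (Subgroup.zpowers s))).erase i, m k ^ 2 :=
        Finset.sum_le_sum fun k _ => Nat.le_self_pow two_ne_zero _
      rcases hcase with h4 | h4 | ⟨h4, h5⟩
      · by_contra hh
        nlinarith
      · by_contra hh
        nlinarith
      · have key : ∑ k ∈ Finset.univ.erase (1 : Chi K (Subgroup.zpowers s)), (((m k : ℤ) - 2) ^ 2) ≤ 0 := by
          have e1 : ∀ k, ((m k : ℤ) - 2) ^ 2 = ((m k : ℤ)) ^ 2 - 4 * (m k : ℤ) + 4 := fun k => by ring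
          simp only [e1, Finset.sum_add_distrib, Finset.sum_sub_distrib, ← Finset.mul_sum, Finset.sum_const,
            nsmul_eq_mul]
          have e2 : (∑ k ∈ Finset.univ.erase (1 : Chi K (Subgroup.zpowers s)), ((m k : ℤ)) ^ 2) = (S : ℤ) := by
            rw [hS]; push_cast; rfl
          have e3 : (∑ k ∈ Finset.univ.erase (1 : Chi K (Subgroup.zpowers s)), ((m k : ℤ))) = (T : ℤ) := by
            rw [hT]; push_cast; rfl
          rw [e2, e3]
          have := c.hr.one_le
          omega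
        have h6 := (Finset.single_le_sum (fun k _ => sq_nonneg ((m k : ℤ) - 2)) hi).trans key
        have : (m i : ℤ) - 2 = 0 := pow_eq_zero_iff two_ne_zero |>.1 (le_antisymm h6 (sq_nonneg _))
        omega
    calc Module.finrank K (fix ρ s) ^ 2 + T
        ≤ C 1 + ∑ i ∈ Finset.univ.erase 1, C i := by
          refine Nat.add_le_add (by rw [hC1, hm1]) (Finset.sum_le_sum fun i hi => ?_)
          exact le_finrank_comm _ (hsmall i hi)
      _ = ∑ i, C i := (hsplit C).symm
      _ ≤ _ := hle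

end Stable

end CfsgLib.FitTuran
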