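import Cfsg.Agent.Lib.FitTuran.Layer
import Cfsg.Agent.Lib.FitTuran.PForm

/-!
On a component with few moved classes the acting group is trivial on the classes.
-/

set_option autoImplicit false
set_option linter.style.haveILetI false
set_option linter.unusedSectionVars false

open scoped commutatorElement

namespace CfsgLib.FitTuran

open CfsgLib.BG.FixedLine CfsgLib.HallHigman

variable {K W Y : Type*} [Field K] [IsAlgClosed K] [AddCommGroup W] [Module K W]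
  [FiniteDimensional K W] [Group Y] [Finite Y] {ρ : Y →* Module.End K W}

theorem normalizes_subgroupOf {H Q Z : Subgroup Y} {g : H}
    (hQ : (g : Y) ∈ Subgroup.normalizer (Q : Set Y)) (hZ : (g : Y) ∈ Subgroup.normalizer (Z : Set Y)) :
    Normalizes (Q.subgroupOf H) (Z.subgroupOf H) g :=
  ⟨Subgroup.mem_normalizer_iff.2 fun u => by
      simpa [Subgroup.mem_subgroupOf] using Subgroup.mem_normalizer_iff.1 hQ (u : Y),
    Subgroup.mem_normalizer_iff.2 fun u => by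
      simpa [Subgroup.mem_subgroupOf] using Subgroup.mem_normalizer_iff.1 hZ (u : Y)⟩

namespace QData

variable {Q : Subgroup Y} {s : Y} {r q : ℕ} (h : QData ρ Q s r q)

include h

/-- A component with scalar centre is stable. -/
theorem stable {U : Submodule K W} (hUQ : Inv ρ Q U) {μ : Chi K (centOn ρ Q U hUQ)}
    (hμ : U ≤ comp ρ _ μ) {lam : Y → K} (hlam : ∀ a : centOn ρ Q U hUQ, lam a = (μ a : K)) :
    Stable (res ρ U) (Q.subgroupOf (stab ρ U)) ((centOn ρ Q U hUQ).subgroupOf (stab ρ U))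
      (fun g => lam (g : Y)) := by
  refine ⟨fun z hz => Subgroup.mem_subgroupOf.2 (centOn_le hUQ (Subgroup.mem_subgroupOf.1 hz)),
    fun u hu v hv => Subgroup.mem_subgroupOf.2 ?_, fun z hz => LinearMap.ext fun v => Subtype.ext ?_,
    fun u hu hc => Subgroup.mem_subgroupOf.2 ?_, ?_⟩
  · exact h.commutator_mem_centOn hUQ (Subgroup.mem_subgroupOf.1 hu) (Subgroup.mem_subgroupOf.1 hv)
  · rw [res_apply]
    exact (hμ v.2 ⟨_, Subgroup.mem_subgroupOf.1 hz⟩).trans (by rw [← hlam]; rfl)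
  · exact ⟨Subgroup.mem_subgroupOf.1 hu, fun f hf v hv =>
      congrArg Subtype.val (LinearMap.congr_fun (hc ⟨f, fun w hw => hUQ f hf w hw⟩
        (Subgroup.mem_subgroupOf.2 hf)) ⟨v, hv⟩)⟩
  · rw [Nat.card_congr (Subgroup.subgroupOfEquivOfLe (show Q ≤ stab ρ U from hUQ)).toEquiv]
    exact h.card_Q_ne_zero le_rfl

omit h in
theorem res_commute {U : Submodule K W} (hUQ : Inv ρ Q U) {μ : Chi K (centOn ρ Q U hUQ)}
    (hμ : U ≤ comp ρ _ μ) (g : stab ρ U) :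
    ∀ z ∈ (centOn ρ Q U hUQ).subgroupOf (stab ρ U), res ρ U g * res ρ U z = res ρ U z * res ρ U g := by
  intro z hz
  refine LinearMap.ext fun v => Subtype.ext ?_
  show ρ (g : Y) (ρ (z : Y) (v : W)) = ρ (z : Y) (ρ (g : Y) (v : W))
  rw [hμ v.2 ⟨_, Subgroup.mem_subgroupOf.1 hz⟩, map_smul, hμ (g.2 _ v.2) ⟨_, Subgroup.mem_subgroupOf.1 hz⟩]

/-- Irreducibility of a stable component under a cyclic extension. -/
theorem stable_irr {U : Submodule K W} (hUQ : Inv ρ Q U) {μ : Chi K (centOn ρ Q U hUQ)}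
    (hμ : U ≤ comp ρ _ μ) {lam : Y → K} (hlam : ∀ a : centOn ρ Q U hUQ, lam a = (μ a : K)) {g : Y}
    (hg : g ∈ Subgroup.normalizer (Q : Set Y)) (hU : Irred ρ (Q ⊔ Subgroup.zpowers g) U) :
    IsIrr ((res ρ U).comp (Q.subgroupOf (stab ρ U)).subtype) := by
  haveI : Nontrivial U := Submodule.nontrivial_iff_ne_bot.2 hU.1
  have hgU : ∀ v ∈ U, ρ g v ∈ U := hU.2.1 g (Subgroup.mem_sup_right (Subgroup.mem_zpowers g))
  refine (h.stable hUQ hμ hlam).irr_of_cyclic (g := ⟨g, hgU⟩)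
    (normalizes_subgroupOf hg (normalizer_centOn hUQ hg hgU)) (res_commute hUQ hμ _) fun X hX hgX => ?_
  have h1 : Inv ρ (Q ⊔ Subgroup.zpowers g) (X.map U.subtype) := by
    refine inv_sup (fun e he v hv => ?_) (inv_zpowers fun v hv => ?_) <;> obtain ⟨u, hu, rfl⟩ := hv
    · exact ⟨_, hX ⟨e, fun w hw => hUQ e he w hw⟩ (Subgroup.mem_subgroupOf.2 he) u hu, rfl⟩
    · exact ⟨_, hgX u hu, rfl⟩
  rcases hU.2.2 _ (Submodule.map_subtype_le _ _) h1 with e | e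
  · left
    refine (Submodule.eq_bot_iff _).2 fun v hv => Subtype.ext ?_
    have := Submodule.mem_map_of_mem (f := U.subtype) hv
    rw [e, Submodule.mem_bot] at this
    exact this
  · right
    rw [eq_top_iff]
    intro v _
    obtain ⟨v', hv', e'⟩ := e.symm.le v.2
    exact (Subtype.ext e' : v' = v) ▸ hv'

/-- A component without fixed vectors, or without moved ones, moves few classes. -/
theorem few_moved {U : Submodule K W} (hU : Irred ρ (Q ⊔ Subgroup.zpowers s) U) (hUQ : Inv ρ Q U)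
    {μ : Chi K (centOn ρ Q U hUQ)} (hμ : U ≤ comp ρ _ μ)
    (hsmall : fix ρ s ⊓ U = ⊥ ∨ ∀ e ∈ ⁅Q, Subgroup.zpowers s⁆, ∀ v ∈ U, ρ e v = v) :
    ∃ F : Subgroup Y, F ≤ Q ∧ (∀ u ∈ F, u⁻¹ * (s * u * s⁻¹) ∈ centOn ρ Q U hUQ) ∧
      F.relIndex Q ≤ (r - 1) ^ 2 := by
  obtain ⟨lam, hlam⟩ := ext_exists μ
  have hUs : ∀ v ∈ U, ρ s v ∈ U := hU.2.1 s (Subgroup.mem_sup_right (Subgroup.mem_zpowers s))
  haveI : Nontrivial U := Submodule.nontrivial_iff_ne_bot.2 hU.1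
  rcases hsmall with hfix | htriv
  · set sU : stab ρ U := ⟨s, hUs⟩
    have hst := h.stable hUQ hμ hlam
    have hsN : Normalizes (Q.subgroupOf (stab ρ U)) ((centOn ρ Q U hUQ).subgroupOf (stab ρ U)) sU :=
      normalizes_subgroupOf h.hsQ (normalizer_centOn hUQ h.hsQ hUs)
    have hbd := hst.relIndex_le_of_no_fixed (h.stable_irr hUQ hμ hlam h.hsQ hU) hsN h.hr h.hr0
      (Subtype.ext (by simpa [sU] using h.hsr)) (by
        refine (Submodule.eq_bot_iff _).2 fun v hv => Subtype.ext ?_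
        have : (v : W) ∈ fix ρ s ⊓ U := ⟨congrArg Subtype.val (mem_fix _ |>.1 hv), v.2⟩
        rwa [hfix, Submodule.mem_bot] at this)
    refine ⟨(hst.fixMod hsN).map (stab ρ U).subtype, ?_, ?_, ?_⟩
    · rintro _ ⟨u, hu, rfl⟩; exact Subgroup.mem_subgroupOf.1 hu.1
    · rintro _ ⟨u, hu, rfl⟩
      exact Subgroup.mem_subgroupOf.1 hu.2
    · have e : Q = (Q.subgroupOf (stab ρ U)).map (stab ρ U).subtype :=
        (Subgroup.map_subgroupOf_eq_of_le (show Q ≤ stab ρ U from hUQ)).symm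
      refine (congrArg (fun X => Subgroup.relIndex ((hst.fixMod hsN).map (stab ρ U).subtype) X) e).trans_le ?_
      rwa [Subgroup.relIndex_map_map_of_injective _ _ (Subgroup.subtype_injective _)]
  · refine ⟨Q, le_rfl, fun u hu => ⟨?_, fun f hf v hv => ?_⟩, ?_⟩
    · exact Q.mul_mem (Q.inv_mem hu) ((Subgroup.mem_normalizer_iff.1 h.hsQ u).1 hu)
    · have hm : u⁻¹ * (s * u * s⁻¹) ∈ ⁅Q, Subgroup.zpowers s⁆ := by
        have := Subgroup.commutator_mem_commutator (Q.inv_mem hu) (Subgroup.mem_zpowers s)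
        rwa [commutatorElement_def, inv_inv, mul_assoc u⁻¹, mul_assoc u⁻¹] at this
      rw [htriv _ hm _ (hUQ f hf v hv), htriv _ hm v hv]
    · rw [Subgroup.relIndex_self]
      exact Nat.one_le_pow _ _ (by have := h.hr.two_le; omega)

end QData

variable (ρ) in
/-- A group `P` acting on the class-two group. -/
structure PData (P Q : Subgroup Y) (s : Y) (r q ℓ : ℕ) : Prop where
  hℓ : ℓ.Prime
  hℓq : ℓ ≠ q
  hrℓ : r ≠ ℓ
  hP : IsPGroup ℓ P
  hsP : s ∈ Subgroup.normalizer (P : Set Y)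
  hPQ : P ≤ Subgroup.normalizer (Q : Set Y)
  hcenP : ∀ u ∈ Q, ∀ v ∈ Q, ∀ a ∈ P, ρ ⁅⁅u, v⁆, a⁆ = 1
  hP2 : ∀ a ∈ P, ∀ b ∈ P, ∀ c ∈ P, ∀ u ∈ Q, ρ ⁅⁅⁅a, b⁆, c⁆, u⁆ = 1

namespace PData

variable {P Q : Subgroup Y} {s : Y} {r q ℓ : ℕ} (h : PData ρ P Q s r q ℓ)

include h

omit [IsAlgClosed K] [FiniteDimensional K W] in
theorem coprime (hd : QData ρ Q s r q) : (Nat.card (Subgroup.zpowers s)).Coprime (Nat.card P) :=
  coprime_zpowers h.hℓ hd.hr h.hrℓ.symm h.hP hd.hsr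

omit [IsAlgClosed K] [FiniteDimensional K W] in
theorem hgen (hd : QData ρ Q s r q) :
    ⁅P, Subgroup.zpowers s⁆ ≤ ⁅⁅P, Subgroup.zpowers s⁆, Subgroup.zpowers s⁆ :=
  (CfsgLib.Coprime.commutator_commutator_eq (Subgroup.zpowers_le.2 h.hsP) (h.coprime hd)
    (Or.inl (CfsgLib.Coprime.isSolvable_of_isMulCommutative _))).ge

omit [IsAlgClosed K] [FiniteDimensional K W] in
/-- Conjugation by `P` does not change the action of commutators of `Q`. -/
theorem rho_conj_commutator {u v a : Y} (hu : u ∈ Q) (hv : v ∈ Q) (ha : a ∈ P) :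
    ρ (a * ⁅u, v⁆ * a⁻¹) = ρ ⁅u, v⁆ := by
  rw [show a * ⁅u, v⁆ * a⁻¹ = ⁅⁅u, v⁆, a⁆⁻¹ * ⁅u, v⁆ by simp only [commutatorElement_def]; group, map_mul]
  have h1 := h.hcenP u hu v hv a ha
  have h2 : ρ ⁅⁅u, v⁆, a⁆⁻¹ * ρ ⁅⁅u, v⁆, a⁆ = 1 := by rw [← map_mul, inv_mul_cancel, map_one]
  rw [h1, mul_one] at h2
  rw [h2, one_mul]

/-- The acting group normalizes the central elements. -/
theorem normalizer_centOn {U : Submodule K W} (hUQ : Inv ρ Q U) :
    P ≤ Subgroup.normalizer (centOn ρ Q U hUQ : Set Y) := fun a ha => by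
  refine mem_normalizer_of_conj fun z hz => ⟨(Subgroup.mem_normalizer_iff.1 (h.hPQ ha) z).1 hz.1, fun f hf v hv => ?_⟩
  have hf' : a⁻¹ * f * a ∈ Q := by
    have := (Subgroup.mem_normalizer_iff.1 (inv_mem (h.hPQ ha)) f).1 hf
    rwa [inv_inv] at this
  have h1 : ρ ⁅a * z * a⁻¹, f⁆ = ρ ⁅z, a⁻¹ * f * a⁆ := by
    rw [← h.rho_conj_commutator hz.1 hf' ha]
    congr 1
    simp only [commutatorElement_def]; group
  rw [← rho_mul, show a * z * a⁻¹ * f = ⁅a * z * a⁻¹, f⁆ * (f * (a * z * a⁻¹)) by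
    simp only [commutatorElement_def]; group, rho_mul, h1, rho_mul]
  have haz : a * z * a⁻¹ ∈ Q := (Subgroup.mem_normalizer_iff.1 (h.hPQ ha) z).1 hz.1
  set w := ρ f (ρ (a * z * a⁻¹) v)
  have hw : w ∈ U := hUQ f hf _ (hUQ _ haz v hv)
  clear_value w
  set f' := a⁻¹ * f * a
  rw [commutatorElement_def, rho_mul, rho_mul, rho_mul,
    hz.2 f' hf' _ (hUQ _ (Q.inv_mem hz.1) _ (hUQ _ (Q.inv_mem hf') w hw)), rho_apply_inv, rho_apply_inv]

variable (hd : QData ρ Q s r q)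

include hd

/-- With few moved classes the commutators with `[P, s]` are central on the component. -/
theorem commutator_le_centOn {U : Submodule K W} (hU : Irred ρ (Q ⊔ Subgroup.zpowers s) U)
    (hUQ : Inv ρ Q U) {μ : Chi K (centOn ρ Q U hUQ)} (hμ : U ≤ comp ρ _ μ)
    (hsmall : fix ρ s ⊓ U = ⊥ ∨ ∀ e ∈ ⁅Q, Subgroup.zpowers s⁆, ∀ v ∈ U, ρ e v = v) :
    ⁅Q, ⁅P, Subgroup.zpowers s⁆⁆ ≤ centOn ρ Q U hUQ := by
  classical
  haveI := Fact.mk hd.hq
  haveI := Fact.mk h.hℓ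
  obtain ⟨lam, hlam⟩ := ext_exists μ
  haveI : Nontrivial U := Submodule.nontrivial_iff_ne_bot.2 hU.1
  have hUs : ∀ v ∈ U, ρ s v ∈ U := hU.2.1 s (Subgroup.mem_sup_right (Subgroup.mem_zpowers s))
  obtain ⟨F, hFQ, hF, hbound⟩ := hd.few_moved hU hUQ hμ hsmall
  set E := ⁅P, Subgroup.zpowers s⁆ with hE
  have hEP : E ≤ P := commutator_zpowers_le h.hsP
  set Z := centOn ρ Q U hUQ with hZdef
  set M : Subgroup Y := Subgroup.normalizer (Z : Set Y) ⊓ Subgroup.normalizer (Q : Set Y) with hM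
  have hQM : Q ≤ M := le_inf (fun u hu => CfsgLib.FitTuran.normalizer_centOn hUQ (Subgroup.le_normalizer hu) (hUQ u hu))
    Subgroup.le_normalizer
  have hsM : s ∈ M := ⟨CfsgLib.FitTuran.normalizer_centOn hUQ hd.hsQ hUs, hd.hsQ⟩
  have hEM : E ≤ M := hEP.trans (le_inf (h.normalizer_centOn hUQ) h.hPQ)
  have hzM : Subgroup.zpowers s ≤ M := Subgroup.zpowers_le.2 hsM
  haveI hn : (Z.subgroupOf M).Normal := ⟨fun z hz g => Subgroup.mem_subgroupOf.2
    (((Subgroup.mem_normalizer_iff.1 g.2.1) z).1 (Subgroup.mem_subgroupOf.1 hz))⟩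
  set mk := QuotientGroup.mk' (Z.subgroupOf M) with hmk
  set V := (Q.subgroupOf M).map mk with hV
  set El := (E.subgroupOf M).map mk with hEl
  set sl := mk ⟨s, hsM⟩ with hsl
  have hmkeq : ∀ a b : M, mk a = mk b ↔ (a : Y)⁻¹ * (b : Y) ∈ Z := fun a b => by
    rw [hmk, QuotientGroup.mk'_apply, QuotientGroup.mk'_apply, QuotientGroup.eq, Subgroup.mem_subgroupOf]
    rfl
  have hnormal : ∀ {A : Subgroup Y} (g : M), (g : Y) ∈ Subgroup.normalizer (A : Set Y) →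
      mk g ∈ Subgroup.normalizer (((A.subgroupOf M).map mk : Subgroup _) : Set (M ⧸ Z.subgroupOf M)) := by
    intro A g hg
    refine mem_normalizer_of_conj ?_
    rintro _ ⟨u, hu, rfl⟩
    exact ⟨g * u * g⁻¹, Subgroup.mem_subgroupOf.2 (by
      simpa using (Subgroup.mem_normalizer_iff.1 hg (u : Y)).1 (Subgroup.mem_subgroupOf.1 hu)),
      by rw [map_mul, map_mul, map_inv]⟩
  have hVel : Cfsg.IsElementaryAbelian q V := by
    refine ⟨⟨⟨fun a b => Subtype.ext ?_⟩⟩, ?_⟩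
    · obtain ⟨a, ha, e1⟩ := a.2
      obtain ⟨b, hb, e2⟩ := b.2
      rw [Subgroup.coe_mul, Subgroup.coe_mul, ← e1, ← e2, ← map_mul, ← map_mul, hmkeq]
      have := hd.commutator_mem_centOn hUQ (Q.inv_mem (Subgroup.mem_subgroupOf.1 hb))
        (Q.inv_mem (Subgroup.mem_subgroupOf.1 ha))
      simpa [hZdef, commutatorElement_def, mul_assoc] using this
    · rintro _ ⟨u, hu, rfl⟩
      rw [← map_pow]
      refine (QuotientGroup.eq_one_iff _).2 (Subgroup.mem_subgroupOf.2 ?_)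
      simpa using hd.pow_mem_centOn hUQ (Subgroup.mem_subgroupOf.1 hu)
  suffices hmain : El ≤ Subgroup.centralizer (V : Set (M ⧸ Z.subgroupOf M)) by
    refine Subgroup.commutator_le.2 fun u hu e he => ?_
    have h1 := hmain (Subgroup.mem_map_of_mem mk
      (Subgroup.mem_subgroupOf.2 he : (⟨e, hEM he⟩ : M) ∈ E.subgroupOf M))
      (mk ⟨u, hQM hu⟩⁻¹) (Subgroup.mem_map_of_mem mk (Subgroup.mem_subgroupOf.2 (Q.inv_mem hu)))
    rw [← map_mul, ← map_mul, hmkeq] at h1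
    have h2 := (Subgroup.mem_normalizer_iff.1 (hEM he).1 _).1 h1
    simpa [commutatorElement_def, mul_assoc] using h2
  by_contra hmoved
  -- the pairing
  have hst := hd.stable hUQ hμ hlam
  have hQs : ∀ {u : Y}, u ∈ Q → u ∈ stab ρ U := fun {u} hu => hUQ u hu
  have hlam1 : lam 1 = 1 := by simpa using hst.heis.lam_one
  have hL : ∀ {u u' v : Y}, u ∈ Q → u' ∈ Q → v ∈ Q → lam ⁅u * u', v⁆ = lam ⁅u, v⁆ * lam ⁅u', v⁆ :=
    fun {u u' v} hu hu' hv => hst.heis.lam_mul_left ⟨⟨u, hQs hu⟩, Subgroup.mem_subgroupOf.2 hu⟩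
      ⟨⟨u', hQs hu'⟩, Subgroup.mem_subgroupOf.2 hu'⟩ ⟨⟨v, hQs hv⟩, Subgroup.mem_subgroupOf.2 hv⟩
  have hZone : ∀ {z v : Y}, z ∈ Z → v ∈ Q → lam ⁅z, v⁆ = 1 := by
    intro z v hz hv
    have h1 : ∀ w ∈ U, ρ ⁅z, v⁆ w = w := by
      intro w hw
      rw [commutatorElement_def, rho_mul, rho_mul, rho_mul,
        hz.2 v hv _ (hUQ _ (Q.inv_mem hz.1) _ (hUQ _ (Q.inv_mem hv) w hw)), rho_apply_inv, rho_apply_inv]
    obtain ⟨w, hw, hw0⟩ := Submodule.exists_mem_ne_zero_of_ne_bot hU.1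
    refine smul_left_injective K hw0 ?_
    show lam ⁅z, v⁆ • w = (1 : K) • w
    rw [one_smul]
    conv_rhs => rw [← h1 w hw, hμ hw ⟨_, hd.commutator_mem_centOn hUQ hz.1 hv⟩, ← hlam]
  have hskew : ∀ {u v : Y}, u ∈ Q → v ∈ Q → lam ⁅u, v⁆ * lam ⁅v, u⁆ = 1 := by
    intro u v hu hv
    have h1 := hlam ⟨_, hd.commutator_mem_centOn hUQ hu hv⟩
    have h2 := hlam ⟨_, hd.commutator_mem_centOn hUQ hv hu⟩
    rw [h1, h2, ← Units.val_mul, ← map_mul, show (⟨⁅u, v⁆, hd.commutator_mem_centOn hUQ hu hv⟩ : Z) *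
      ⟨⁅v, u⁆, hd.commutator_mem_centOn hUQ hv hu⟩ = 1 from Subtype.ext (by
        show ⁅u, v⁆ * ⁅v, u⁆ = 1
        rw [← commutatorElement_inv u v, mul_inv_cancel]),
      map_one, Units.val_one]
  have hR : ∀ {u v v' : Y}, u ∈ Q → v ∈ Q → v' ∈ Q → lam ⁅u, v * v'⁆ = lam ⁅u, v⁆ * lam ⁅u, v'⁆ := by
    intro u v v' hu hv hv'
    have e := hskew (Q.mul_mem hv hv') hu
    rw [hL hv hv' hu] at e
    refine mul_left_cancel₀ (a := lam ⁅v, u⁆ * lam ⁅v', u⁆)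
      (fun e0 => by rw [e0, zero_mul] at e; exact zero_ne_one e) ?_
    rw [e, show lam ⁅v, u⁆ * lam ⁅v', u⁆ * (lam ⁅u, v⁆ * lam ⁅u, v'⁆) =
      (lam ⁅v, u⁆ * lam ⁅u, v⁆) * (lam ⁅v', u⁆ * lam ⁅u, v'⁆) by ring, hskew hv hu, hskew hv' hu, one_mul]
  have hroot : ∀ {u v : Y}, u ∈ Q → v ∈ Q → lam ⁅u, v⁆ ^ q = 1 := by
    intro u v hu hv
    have key : ∀ i : ℕ, lam ⁅u ^ i, v⁆ = lam ⁅u, v⁆ ^ i := by
      intro i
      induction i with
      | zero => rw [pow_zero, commutatorElement_one_left, hlam1, pow_zero]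
      | succ i ih => rw [pow_succ', pow_succ', hL hu (Q.pow_mem hu i) hv, ih]
    rw [← key, hZone (hd.pow_mem_centOn hUQ hu) hv]
  haveI : NeZero q := ⟨hd.hq.ne_zero⟩
  haveI : NeZero (q : K) := ⟨hd.hq0⟩
  obtain ⟨ω, hω⟩ := HasEnoughRootsOfUnity.exists_primitiveRoot K q
  have hpowval : ∀ i j : ZMod q, ω ^ (i + j).val = ω ^ i.val * ω ^ j.val := fun i j => by
    rw [← pow_add, ZMod.val_add]
    exact (pow_eq_pow_mod _ hω.pow_eq_one).symm
  have hinjval : ∀ i j : ZMod q, ω ^ i.val = ω ^ j.val → i = j := fun i j e =>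
    ZMod.val_injective q (hω.pow_inj (ZMod.val_lt i) (ZMod.val_lt j) e)
  have hrep : ∀ v : V, ∃ u : M, (u : Y) ∈ Q ∧ mk u = v := fun v => by
    obtain ⟨u, hu, e⟩ := v.2
    exact ⟨u, Subgroup.mem_subgroupOf.1 hu, e⟩
  choose rp hrpQ hrp using hrep
  have hwd : ∀ {u u' v : Y}, u ∈ Q → u' ∈ Q → v ∈ Q → u⁻¹ * u' ∈ Z → lam ⁅u', v⁆ = lam ⁅u, v⁆ := by
    intro u u' v hu hu' hv hz
    have := hL hu (centOn_le hUQ hz) hv
    rw [mul_inv_cancel_left, hZone hz hv, mul_one] at this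
    exact this
  have hwdR : ∀ {u v v' : Y}, u ∈ Q → v ∈ Q → v' ∈ Q → v⁻¹ * v' ∈ Z → lam ⁅u, v'⁆ = lam ⁅u, v⁆ := by
    intro u v v' hu hv hv' hz
    have h1 := hskew hu hv'
    rw [hwd hv hv' hu hz] at h1
    have h2 := hskew hu hv
    exact mul_right_cancel₀ (fun e0 => by rw [e0, mul_zero] at h2; exact zero_ne_one h2) (h1.trans h2.symm)
  have hex : ∀ v w : V, ∃ i : ZMod q, ω ^ i.val = lam ⁅(rp v : Y), (rp w : Y)⁆ := fun v w => by
    obtain ⟨i, hi, e⟩ := hω.eq_pow_of_pow_eq_one (hroot (hrpQ v) (hrpQ w))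
    exact ⟨(i : ZMod q), by rw [ZMod.val_natCast, Nat.mod_eq_of_lt hi]; exact e⟩
  choose B hB using hex
  have hrpmul : ∀ a b : V, (rp (a * b) : Y)⁻¹ * ((rp a : Y) * (rp b : Y)) ∈ Z := fun a b => by
    rw [← Subgroup.coe_mul, ← hmkeq, map_mul, hrp, hrp, hrp]; rfl
  let Bp : V → (Additive V →+ ZMod q) := fun v => AddMonoidHom.mk' (fun w => B v (Additive.toMul w))
    fun a b => hinjval _ _ (by
      rw [hpowval, hB, hB, hB, toMul_add, ← hR (hrpQ v) (hrpQ _) (hrpQ _),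
        hwdR (hrpQ v) (hrpQ _) (Q.mul_mem (hrpQ _) (hrpQ _)) (hrpmul _ _)])
  have hBp : ∀ v w : V, ω ^ (Bp v (Additive.ofMul w)).val = lam ⁅(rp v : Y), (rp w : Y)⁆ := fun v w => hB v w
  have hEl' : El ≤ Subgroup.normalizer (V : Set (M ⧸ Z.subgroupOf M)) := by
    rintro _ ⟨e, he, rfl⟩
    exact hnormal e e.2.2
  have hzmap : (Subgroup.zpowers (⟨s, hsM⟩ : M)).map mk = Subgroup.zpowers sl := MonoidHom.map_zpowers _ _
  have hbig : (r - 1) ^ 2 < (V ⊓ Subgroup.centralizer ({sl} : Set (M ⧸ Z.subgroupOf M))).relIndex V := by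
    refine pside_bound (ℓ := ℓ) h.hℓ hd.hr h.hℓq hd.hrq hVel
      (((h.hP.to_le hEP).comap_of_injective M.subtype M.subtype_injective).map mk) ?_ hEl'
      (hnormal _ hd.hsQ) (hnormal _ (le_normalizer_commutator_zpowers h.hsP)) ?_ ?_ hmoved Bp ?_ ?_ ?_
    · rw [hsl, ← map_pow, show (⟨s, hsM⟩ : M) ^ r = 1 from Subtype.ext (by simpa using hd.hsr), map_one]
    · have h1 : E.subgroupOf M ≤ ⁅E.subgroupOf M, Subgroup.zpowers (⟨s, hsM⟩ : M)⁆ := by
        rw [← Subgroup.map_le_map_iff_of_injective M.subtype_injective, Subgroup.map_commutator,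
          Subgroup.map_subgroupOf_eq_of_le hEM,
          show (Subgroup.zpowers (⟨s, hsM⟩ : M)).map M.subtype = Subgroup.zpowers s from
            MonoidHom.map_zpowers _ _]
        exact h.hgen hd
      calc El ≤ (⁅E.subgroupOf M, Subgroup.zpowers (⟨s, hsM⟩ : M)⁆).map mk := Subgroup.map_mono h1
        _ = _ := by rw [Subgroup.map_commutator, hzmap]; rfl
    · rintro _ ⟨a, ha, rfl⟩ _ ⟨b, hb, rfl⟩ _ ⟨c, hc, rfl⟩ _ ⟨u, hu, rfl⟩
      have hu' : (u : Y) ∈ Q := Subgroup.mem_subgroupOf.1 hu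
      rw [← map_commutatorElement, ← map_commutatorElement, ← map_mul, ← map_mul, hmkeq]
      set t : M := ⁅⁅a, b⁆, c⁆ with ht
      have ht1 : ρ ⁅(t : Y), (u : Y)⁆ = 1 := h.hP2 _ (hEP ha) _ (hEP hb) _ (hEP hc) _ hu'
      have htu : ρ (t : Y) * ρ (u : Y) = ρ (u : Y) * ρ (t : Y) :=
        LinearMap.ext fun v => commute_of_rho_commutator ht1 v
      have htn : (t : Y) ∈ Subgroup.normalizer (Q : Set Y) := t.2.2
      have hmem : (↑(u * t) : Y)⁻¹ * ↑(t * u) ∈ Q := by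
        have := Q.mul_mem ((Subgroup.mem_normalizer_iff.1 (inv_mem htn) _).1 (Q.inv_mem hu')) hu'
        simpa [mul_assoc] using this
      have hone : ρ ((↑(u * t) : Y)⁻¹ * ↑(t * u)) = 1 := by
        rw [map_mul, Subgroup.coe_mul, Subgroup.coe_mul, map_mul ρ (t : Y), htu, ← map_mul ρ (u : Y),
          ← map_mul, inv_mul_cancel, map_one]
      exact ⟨hmem, fun f _ v _ => by rw [hone]; rfl⟩
    · intro v w e
      have hz : (rp v : Y)⁻¹ * (rp w : Y) ∈ Z := by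
        refine Subgroup.mem_subgroupOf.1 (hst.heis.hrad
          ⟨⟨(rp v : Y)⁻¹ * (rp w : Y), hQs (Q.mul_mem (Q.inv_mem (hrpQ v)) (hrpQ w))⟩,
            Subgroup.mem_subgroupOf.2 (Q.mul_mem (Q.inv_mem (hrpQ v)) (hrpQ w))⟩ fun z => ?_)
        have hzQ : ((z : stab ρ U) : Y) ∈ Q := Subgroup.mem_subgroupOf.1 z.2
        have hdQ := Q.mul_mem (Q.inv_mem (hrpQ v)) (hrpQ w)
        have hone : lam ⁅(rp v : Y)⁻¹ * (rp w : Y), ((z : stab ρ U) : Y)⁆ = 1 := by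
          obtain ⟨x, hxz⟩ : ∃ x : V, (rp x : Y)⁻¹ * ((z : stab ρ U) : Y) ∈ Z := by
            refine ⟨⟨mk ⟨_, hQM hzQ⟩, Subgroup.mem_map_of_mem mk (Subgroup.mem_subgroupOf.2 hzQ)⟩, ?_⟩
            exact (hmkeq _ ⟨_, hQM hzQ⟩).1 (hrp _)
          rw [hwdR hdQ (hrpQ x) hzQ hxz]
          have h1 := hBp v x
          rw [e, hBp w x] at h1
          have h2 := hL (hrpQ v) hdQ (hrpQ x)
          rw [mul_inv_cancel_left, h1] at h2
          refine (mul_eq_left₀ ?_).1 h2.symm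
          intro e0
          have := hskew (hrpQ v) (hrpQ x)
          rw [e0, zero_mul] at this
          exact zero_ne_one this
        refine LinearMap.ext fun x => Subtype.ext ?_
        show ρ ((rp v : Y)⁻¹ * (rp w : Y)) (ρ ((z : stab ρ U) : Y) (x : W)) =
          ρ ((z : stab ρ U) : Y) (ρ ((rp v : Y)⁻¹ * (rp w : Y)) (x : W))
        set d := (rp v : Y)⁻¹ * (rp w : Y) with hdd
        rw [← rho_mul, ← rho_mul, show d * ((z : stab ρ U) : Y) =
          ⁅d, ((z : stab ρ U) : Y)⁆ * (((z : stab ρ U) : Y) * d) by simp only [commutatorElement_def]; group,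
          rho_mul, hμ (hUQ _ (Q.mul_mem hzQ hdQ) _ x.2) ⟨_, hd.commutator_mem_centOn hUQ hdQ hzQ⟩, ← hlam,
          hone, one_smul]
      refine Subtype.ext ?_
      rw [← hrp v, ← hrp w]
      exact (hmkeq _ _).2 hz
    · intro v w
      rw [eq_neg_iff_add_eq_zero]
      refine hinjval _ _ ?_
      rw [hpowval, hBp, hBp, hskew (hrpQ v) (hrpQ w), ZMod.val_zero, pow_zero]
    · rintro _ ⟨e, he, rfl⟩ v w v' w' hv' hw'
      refine hinjval _ _ ?_
      rw [hBp, hBp]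
      have hz : ∀ a b : V, (b : M ⧸ Z.subgroupOf M) = mk e * a * (mk e)⁻¹ →
          ((e : Y) * (rp a : Y) * (e : Y)⁻¹)⁻¹ * (rp b : Y) ∈ Z := fun a b hab => by
        have h1 : mk (e * rp a * e⁻¹) = mk (rp b) := by rw [map_mul, map_mul, map_inv, hrp, hrp, hab]
        simpa using (hmkeq _ _).1 h1
      have hePd : (e : Y) ∈ P := hEP he
      have hec : ∀ {u : Y}, u ∈ Q → (e : Y) * u * (e : Y)⁻¹ ∈ Q := fun {u} hu =>
        (Subgroup.mem_normalizer_iff.1 (h.hPQ hePd) u).1 hu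
      rw [hwd (hec (hrpQ v)) (hrpQ v') (hrpQ w') (hz v v' hv'),
        hwdR (hec (hrpQ v)) (hec (hrpQ w)) (hrpQ w') (hz w w' hw')]
      obtain ⟨x, hx, hx0⟩ := Submodule.exists_mem_ne_zero_of_ne_bot hU.1
      refine smul_left_injective K hx0 ?_
      show lam ⁅_, _⁆ • x = lam ⁅_, _⁆ • x
      rw [hlam ⟨_, hd.commutator_mem_centOn hUQ (hec (hrpQ v)) (hec (hrpQ w))⟩,
        hlam ⟨_, hd.commutator_mem_centOn hUQ (hrpQ v) (hrpQ w)⟩, ← hμ hx ⟨_, _⟩, ← hμ hx ⟨_, _⟩,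
        ← h.rho_conj_commutator (hrpQ v) (hrpQ w) hePd]
      congr 2
      simp only [commutatorElement_def]
      group
  have hle : F.relIndex Q ≥ (V ⊓ Subgroup.centralizer ({sl} : Set (M ⧸ Z.subgroupOf M))).relIndex V := by
    have e1 : (V ⊓ Subgroup.centralizer ({sl} : Set (M ⧸ Z.subgroupOf M))).relIndex V =
        ((V ⊓ Subgroup.centralizer ({sl} : Set (M ⧸ Z.subgroupOf M))).comap mk).relIndex (Q.subgroupOf M) :=
      (Subgroup.relIndex_comap _ _ _).symm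
    rw [e1]
    have e2 : F.relIndex Q = (F.subgroupOf M).relIndex (Q.subgroupOf M) := by
      rw [← Subgroup.relIndex_map_map_of_injective (F.subgroupOf M) (Q.subgroupOf M) M.subtype_injective,
        Subgroup.map_subgroupOf_eq_of_le (hFQ.trans hQM), Subgroup.map_subgroupOf_eq_of_le hQM]
    rw [e2]
    refine Nat.le_of_dvd (Nat.pos_of_ne_zero Subgroup.index_ne_zero_of_finite)
      (Subgroup.relIndex_dvd_of_le_left _ fun u hu => Subgroup.mem_comap.2 (Subgroup.mem_inf.2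
        ⟨Subgroup.mem_map_of_mem mk (Subgroup.mem_subgroupOf.2 (hFQ (Subgroup.mem_subgroupOf.1 hu))), ?_⟩))
    rw [Subgroup.mem_centralizer_singleton_iff, hsl, ← map_mul, ← map_mul, hmkeq]
    have h2 := (Subgroup.mem_normalizer_iff.1 (inv_mem hsM.1) _).1 (hF (u : Y) (Subgroup.mem_subgroupOf.1 hu))
    simpa [hZdef, mul_assoc] using h2
  omega

end PData

end CfsgLib.FitTuran
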