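import Cfsg.Agent.Lib.BG.FixedLine.Pairing
import Cfsg.Agent.Lib.FitTuran.EndBasis
import Cfsg.Agent.Lib.FitTuran.Orbit
import Cfsg.Agent.Lib.FitTuran.Blocks
import Cfsg.Agent.Lib.FitTuran.Rep

/-!
The commutant of operators normalizing a group of class two with scalar radical.
-/

set_option autoImplicit false
set_option linter.style.haveILetI false
set_option linter.unusedSectionVars false

open scoped commutatorElement

namespace CfsgLib.FitTuran

open CfsgLib.BG.FixedLine CfsgLib.HallHigman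

variable {K W Y : Type*} [Field K] [AddCommGroup W] [Module K W] [Group Y] [Finite Y]
  {ρ : Y →* Module.End K W}

variable (ρ) in
/-- A class-two subgroup with scalar radical. -/
structure Stable (Q Z : Subgroup Y) (lam : Y → K) : Prop where
  hZQ : Z ≤ Q
  hcomm : ∀ u ∈ Q, ∀ v ∈ Q, ⁅u, v⁆ ∈ Z
  hlam : ∀ z ∈ Z, ρ z = lam z • (1 : Module.End K W)
  hrad : ∀ u ∈ Q, (∀ v ∈ Q, ρ u * ρ v = ρ v * ρ u) → u ∈ Z
  hQ0 : (Nat.card Q : K) ≠ 0

variable (Q Z : Subgroup Y) in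
/-- An element normalizing `Q` and `Z`. -/
def Normalizes (g : Y) : Prop :=
  g ∈ Subgroup.normalizer (Q : Set Y) ∧ g ∈ Subgroup.normalizer (Z : Set Y)

theorem Normalizes.pow {Q Z : Subgroup Y} {g : Y} (h : Normalizes Q Z g) (n : ℕ) :
    Normalizes Q Z (g ^ n) := ⟨pow_mem h.1 n, pow_mem h.2 n⟩

theorem Normalizes.mul {Q Z : Subgroup Y} {g g' : Y} (h : Normalizes Q Z g) (h' : Normalizes Q Z g') :
    Normalizes Q Z (g * g') := ⟨mul_mem h.1 h'.1, mul_mem h.2 h'.2⟩

variable {Q Z : Subgroup Y} {lam : Y → K}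

/-- The automorphism of `Q` induced by a normalizing element. -/
noncomputable def autQ {g : Y} (hg : Normalizes Q Z g) : Q ≃* Q :=
  Q.normalizerMonoidHom ⟨g, hg.1⟩

theorem coe_autQ {g : Y} (hg : Normalizes Q Z g) (u : Q) : (autQ hg u : Y) = g * (u : Y) * g⁻¹ := rfl

theorem autQ_mem {g : Y} (hg : Normalizes Q Z g) (u : Q) :
    autQ hg u ∈ Z.subgroupOf Q ↔ u ∈ Z.subgroupOf Q := by
  rw [Subgroup.mem_subgroupOf, Subgroup.mem_subgroupOf, coe_autQ]
  exact ((Subgroup.mem_normalizer_iff.1 hg.2) (u : Y)).symm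

/-- The permutation of the classes induced by a normalizing element. -/
noncomputable def classPerm (hn : (Z.subgroupOf Q).Normal) {g : Y} (hg : Normalizes Q Z g) :
    Equiv.Perm (Q ⧸ Z.subgroupOf Q) :=
  haveI := hn
  (QuotientGroup.congr (Z.subgroupOf Q) (Z.subgroupOf Q) (autQ hg) (by
    ext u
    rw [Subgroup.mem_map]
    refine ⟨?_, fun hu => ⟨(autQ hg).symm u, ?_, (autQ hg).apply_symm_apply u⟩⟩
    · rintro ⟨v, hv, rfl⟩; exact (autQ_mem hg v).2 hv
    · rwa [← autQ_mem hg, MulEquiv.apply_symm_apply])).toEquiv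

theorem classPerm_mk (hn : (Z.subgroupOf Q).Normal) {g : Y} (hg : Normalizes Q Z g) (u : Q) :
    classPerm hn hg (u : Q ⧸ Z.subgroupOf Q) = ((autQ hg u : Q) : Q ⧸ Z.subgroupOf Q) := rfl

theorem classPerm_pow (hn : (Z.subgroupOf Q).Normal) {g : Y} (hg : Normalizes Q Z g) (j : ℕ) (u : Q) :
    ((classPerm hn hg) ^ j) (u : Q ⧸ Z.subgroupOf Q) =
      ((autQ (hg.pow j) u : Q) : Q ⧸ Z.subgroupOf Q) := by
  induction j with
  | zero =>
    rw [pow_zero, Equiv.Perm.one_apply]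
    congr 1
    exact Subtype.ext (by simp [coe_autQ])
  | succ j ih =>
    rw [pow_succ', Equiv.Perm.mul_apply, ih, classPerm_mk]
    congr 1
    exact Subtype.ext (by simp [coe_autQ, pow_succ', mul_assoc])

theorem classPerm_pow_eq_iff (hn : (Z.subgroupOf Q).Normal) {g : Y} (hg : Normalizes Q Z g) (j : ℕ)
    (u : Q) : ((classPerm hn hg) ^ j) (u : Q ⧸ Z.subgroupOf Q) = (u : Q ⧸ Z.subgroupOf Q) ↔
      (u : Y)⁻¹ * (g ^ j * (u : Y) * (g ^ j)⁻¹) ∈ Z := by
  rw [classPerm_pow, eq_comm, QuotientGroup.eq, Subgroup.mem_subgroupOf]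
  simp [coe_autQ]

namespace Stable

variable (h : Stable ρ Q Z lam)

include h

theorem heis : Heis (ρ.comp Q.subtype) (Z.subgroupOf Q) (fun u : Q => lam u) where
  hcomm u v := Subgroup.mem_subgroupOf.2 (h.hcomm u u.2 v v.2)
  hlam z hz := h.hlam z hz
  hrad u hu := Subgroup.mem_subgroupOf.2 (h.hrad u u.2 fun v hv => hu ⟨v, hv⟩)

theorem hnormal : (Z.subgroupOf Q).Normal := h.heis.normal

theorem card_ne_zero : (Nat.card Q : K) ≠ 0 := h.hQ0

theorem lam_conj [Nontrivial W] {g : Y} (hg : Normalizes Q Z g)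
    (hgz : ∀ z ∈ Z, ρ g * ρ z = ρ z * ρ g) : ∀ z ∈ Z, lam (g * z * g⁻¹) = lam z := by
  intro z hz
  have h1 := h.hlam _ (((Subgroup.mem_normalizer_iff.1 hg.2) z).1 hz)
  rw [map_mul, map_mul, hgz z hz, mul_assoc, ← map_mul, mul_inv_cancel, map_one, mul_one,
    h.hlam z hz] at h1
  exact (smul_left_injective K (one_ne_zero (α := Module.End K W)) h1).symm

variable [IsAlgClosed K] [FiniteDimensional K W] [Nontrivial W]

/-- Irreducibility under a cyclic extension gives irreducibility. -/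
theorem irr_of_cyclic {g : Y} (hg : Normalizes Q Z g) (hgz : ∀ z ∈ Z, ρ g * ρ z = ρ z * ρ g)
    (hirr : ∀ U : Submodule K W, Inv ρ Q U → (∀ v ∈ U, ρ g v ∈ U) → U = ⊥ ∨ U = ⊤) :
    IsIrr (ρ.comp Q.subtype) := by
  refine CfsgLib.FitTuran.irr_of_cyclic h.heis h.hQ0 (autQ hg) (autQ_mem hg)
    (fun z hz => h.lam_conj hg hgz z hz) (ρ g) (fun q => ?_) ?_ ?_
  · show ρ g * ρ (q : Y) = ρ (g * q * g⁻¹) * ρ g
    rw [← map_mul, ← map_mul, inv_mul_cancel_right]
  · exact Function.LeftInverse.injective (g := ρ g⁻¹) (rho_inv_apply ρ g)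
  · exact fun U hU hgU => hirr U (fun q hq => hU ⟨q, hq⟩) hgU

theorem exists_basis (hirr : IsIrr (ρ.comp Q.subtype)) :
    ∃ b : Module.Basis (Q ⧸ Z.subgroupOf Q) K (Module.End K W), ∀ i, b i = ρ (i.out : Q) := by
  haveI : Fintype (Q ⧸ Z.subgroupOf Q) := Fintype.ofFinite _
  exact h.heis.exists_basis h.hQ0 hirr

theorem sq_finrank (hirr : IsIrr (ρ.comp Q.subtype)) : Module.finrank K W ^ 2 = Z.relIndex Q := by
  haveI : Fintype (Q ⧸ Z.subgroupOf Q) := Fintype.ofFinite _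
  exact h.heis.sq_finrank h.hQ0 hirr

omit [IsAlgClosed K] [FiniteDimensional K W] in
theorem monomial {g : Y} (hg : Normalizes Q Z g)
    (b : Module.Basis (Q ⧸ Z.subgroupOf Q) K (Module.End K W)) (hb : ∀ i, b i = ρ (i.out : Q))
    (i : Q ⧸ Z.subgroupOf Q) :
    ∃ c : K, c ≠ 0 ∧ ρ g * b i * ρ g⁻¹ = c • b (classPerm h.hnormal hg i) := by
  set w : Q := autQ hg i.out with hw
  have hmk : classPerm h.hnormal hg i = ((w : Q) : Q ⧸ Z.subgroupOf Q) := by
    conv_lhs => rw [← QuotientGroup.out_eq' i]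
    rw [classPerm_mk]
  have hz : ((classPerm h.hnormal hg i).out)⁻¹ * w ∈ Z.subgroupOf Q := by
    rw [← QuotientGroup.eq, QuotientGroup.out_eq', hmk]
  refine ⟨lam ((((classPerm h.hnormal hg i).out)⁻¹ * w : Q) : Y),
    h.heis.lam_ne_zero hz, ?_⟩
  rw [hb, hb, ← map_mul, ← map_mul, ← coe_autQ hg, ← hw]
  conv_lhs => rw [← mul_inv_cancel_left (classPerm h.hnormal hg i).out w, Subgroup.coe_mul, map_mul,
    h.hlam _ (Subgroup.mem_subgroupOf.1 hz), mul_smul_comm, mul_one]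

omit [IsAlgClosed K] [FiniteDimensional K W] in
theorem eqLocus_conj (g : Y) :
    LinearMap.eqLocus ((LinearMap.mulLeft K (ρ g)).comp (LinearMap.mulRight K (ρ g⁻¹))) LinearMap.id
      = comm (ρ g) := by
  ext f
  rw [mem_comm]
  show ρ g * (f * ρ g⁻¹) = f ↔ _
  constructor
  · intro e
    conv_rhs => rw [← e]
    rw [mul_assoc, mul_assoc f, ← map_mul, inv_mul_cancel, map_one, mul_one]
  · intro e
    rw [← mul_assoc, e, mul_assoc, ← map_mul, mul_inv_cancel, map_one, mul_one]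

/-- The commutant of a normalizing element is at most the number of its orbits. -/
theorem finrank_comm_le (hirr : IsIrr (ρ.comp Q.subtype)) {g : Y} (hg : Normalizes Q Z g)
    (R : Finset (Q ⧸ Z.subgroupOf Q))
    (hR : ∀ i, ∃ a ∈ R, ∃ j : ℕ, ((classPerm h.hnormal hg) ^ j) a = i) :
    Module.finrank K (comm (ρ g)) ≤ R.card := by
  haveI : Fintype (Q ⧸ Z.subgroupOf Q) := Fintype.ofFinite _
  obtain ⟨b, hb⟩ := h.exists_basis hirr
  choose c hc0 hc using fun i => h.monomial hg b hb i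
  rw [← h.eqLocus_conj g]
  exact finrank_fixed_le b _ _ c hc0 (fun i => by
    show ρ g * (b i * ρ g⁻¹) = _
    rw [← mul_assoc]; exact hc i) R hR

omit [IsAlgClosed K] [FiniteDimensional K W] [Nontrivial W] in
theorem conj_iterate (g : Y) (n : ℕ) (f : Module.End K W) :
    (((LinearMap.mulLeft K (ρ g)).comp (LinearMap.mulRight K (ρ g⁻¹))) ^ n) f =
      ρ (g ^ n) * (f * ρ (g ^ n)⁻¹) := by
  induction n with
  | zero => simp
  | succ n ih =>
    rw [pow_succ', Module.End.mul_apply, ih, LinearMap.comp_apply, LinearMap.mulLeft_apply,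
      LinearMap.mulRight_apply, pow_succ' g, mul_inv_rev, map_mul, map_mul]
    simp only [mul_assoc]

/-- The exact size of the commutant of a fixed-point-free element. -/
theorem finrank_comm_fpf (hirr : IsIrr (ρ.comp Q.subtype)) {s : Y} (hs : Normalizes Q Z s) {r : ℕ}
    (hr : r.Prime) (hsr : ρ s ^ r = 1)
    (hper : ∀ u ∈ Q, u⁻¹ * (s ^ r * u * (s ^ r)⁻¹) ∈ Z)
    (hfpf : ∀ u ∈ Q, u⁻¹ * (s * u * s⁻¹) ∈ Z → u ∈ Z) :
    ∃ o : ℕ, Module.finrank K W ^ 2 = 1 + o * r ∧ Module.finrank K (comm (ρ s)) = 1 + o := by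
  classical
  haveI : Fintype (Q ⧸ Z.subgroupOf Q) := Fintype.ofFinite _
  haveI := h.hnormal
  set π := classPerm h.hnormal hs with hπ
  obtain ⟨b, hb⟩ := h.exists_basis hirr
  have hcard := Module.finrank_eq_card_basis b
  rw [Module.finrank_linearMap, ← sq] at hcard
  set i₀ : Q ⧸ Z.subgroupOf Q := ((1 : Q) : Q ⧸ Z.subgroupOf Q) with hi₀
  have hπ0 : π i₀ = i₀ := by rw [hπ, hi₀, classPerm_mk, map_one]
  have hperm : ∀ i, (π ^ r) i = i := by
    intro i
    induction i using QuotientGroup.induction_on with | _ u => ?_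
    exact (classPerm_pow_eq_iff _ hs r u).2 (hper u u.2)
  have hfree : ∀ i, i ≠ i₀ → ∀ j, 0 < j → j < r → (π ^ j) i ≠ i := by
    intro i
    induction i using QuotientGroup.induction_on with | _ u => ?_
    intro hu j hj hjr e
    refine hu ?_
    obtain ⟨m, -, hm⟩ := Nat.exists_mul_mod_eq_one_of_coprime
      (Nat.Coprime.symm (hr.coprime_iff_not_dvd.2 fun hd => absurd (Nat.le_of_dvd hj hd) (by omega)))
      hr.one_lt
    have h1 : (π ^ (j * m)) (u : Q ⧸ Z.subgroupOf Q) = (u : Q ⧸ Z.subgroupOf Q) := by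
      rw [pow_mul]; exact Equiv.Perm.pow_apply_eq_self_of_apply_eq_self e m
    rw [← Nat.mod_add_div (j * m) r, hm, pow_add, pow_mul, Equiv.Perm.mul_apply,
      Equiv.Perm.pow_apply_eq_self_of_apply_eq_self (hperm _)] at h1
    have h2 := (classPerm_pow_eq_iff _ hs 1 u).1 h1
    rw [pow_one] at h2
    rw [hi₀, QuotientGroup.eq, mul_one]
    exact Subgroup.mem_subgroupOf.2 (Z.inv_mem (hfpf u u.2 h2))
  obtain ⟨R, hRS, hRc, hRcov, hRind⟩ := exists_reps π hr.pos (Finset.univ.erase i₀)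
    (fun i hi => Finset.mem_erase.2 ⟨fun e => (Finset.mem_erase.1 hi).1
      (π.injective (e.trans hπ0.symm)), Finset.mem_univ _⟩)
    (fun i _ => hperm i) (fun i hi => hfree i (Finset.mem_erase.1 hi).1)
  refine ⟨R.card, ?_, le_antisymm ?_ ?_⟩
  · rw [Finset.card_erase_of_mem (Finset.mem_univ _), Finset.card_univ, ← hcard] at hRc
    have : 0 < Module.finrank K W ^ 2 := pow_pos Module.finrank_pos 2
    rw [mul_comm R.card]
    omega
  · have h1 : (insert i₀ R).card = 1 + R.card := by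
      rw [Finset.card_insert_of_notMem fun hh => (Finset.mem_erase.1 (hRS hh)).1 rfl, add_comm]
    rw [← h1]
    refine h.finrank_comm_le hirr hs _ fun i => ?_
    by_cases hi : i = i₀
    · exact ⟨i₀, Finset.mem_insert_self _ _, 0, by simp [hi]⟩
    · obtain ⟨a, ha, j, -, e⟩ := hRcov i (Finset.mem_erase.2 ⟨hi, Finset.mem_univ _⟩)
      exact ⟨a, Finset.mem_insert_of_mem ha, j, e⟩
  · choose c hc0 hc using fun i => h.monomial hs b hb i
    rw [← h.eqLocus_conj s, add_comm]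
    refine card_le_finrank_fixed b _ π c hr.pos (fun i => by
      show ρ s * (b i * ρ s⁻¹) = _
      rw [← mul_assoc]; exact hc i) ?_ R i₀ ?_
      hπ0 (fun a ha => hfree a (Finset.mem_erase.1 (hRS ha)).1)
      (fun hh => (Finset.mem_erase.1 (hRS hh)).1 rfl) hRind
    · refine LinearMap.ext fun f => ?_
      rw [h.conj_iterate, Module.End.one_apply, map_pow, hsr, one_mul]
      have : ρ (s ^ r)⁻¹ = 1 := by
        have h1 : ρ (s ^ r)⁻¹ * ρ (s ^ r) = 1 := by rw [← map_mul, inv_mul_cancel, map_one]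
        rwa [map_pow, hsr, mul_one] at h1
      rw [this, mul_one]
    · show ρ s * (b i₀ * ρ s⁻¹) = b i₀
      have hz : (i₀.out : Y) ∈ Z := by
        have h1 : (1 : Q)⁻¹ * i₀.out ∈ Z.subgroupOf Q := by
          rw [← QuotientGroup.eq, QuotientGroup.out_eq']
        rw [inv_one, one_mul] at h1
        exact Subgroup.mem_subgroupOf.1 h1
      rw [hb, h.hlam _ hz, smul_mul_assoc, one_mul, mul_smul_comm, ← map_mul, mul_inv_cancel,
        map_one]

/-- The classes fixed by an operator form a block of the permutation. -/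
theorem mul_finrank_comm_le (hirr : IsIrr (ρ.comp Q.subtype)) {g : Y} (hg : Normalizes Q Z g)
    {F : Subgroup Y} (hZF : Z ≤ F) (hFQ : F ≤ Q)
    (hgF : ∀ u ∈ F, g * u * g⁻¹ ∈ F) {a b : ℕ} (ha : 0 < a) (hab : 0 < b)
    (hperF : ∀ u ∈ F, u⁻¹ * (g ^ a * u * (g ^ a)⁻¹) ∈ Z)
    (hperQ : ∀ u ∈ Q, u⁻¹ * (g ^ b * u * (g ^ b)⁻¹) ∈ Z)
    (hfreeF : ∀ u ∈ F, u ∉ Z → ∀ j, 0 < j → j < a → u⁻¹ * (g ^ j * u * (g ^ j)⁻¹) ∉ Z)
    (hfreeQ : ∀ u ∈ Q, u ∉ F → ∀ j, 0 < j → j < b → u⁻¹ * (g ^ j * u * (g ^ j)⁻¹) ∉ Z) :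
    ∃ x y : ℕ, a * x + 1 = Z.relIndex F ∧ b * y + Z.relIndex F = Z.relIndex Q ∧
      Module.finrank K (comm (ρ g)) ≤ 1 + x + y := by
  classical
  haveI : Fintype (Q ⧸ Z.subgroupOf Q) := Fintype.ofFinite _
  haveI := h.hnormal
  haveI : Finite F := inferInstance
  set π := classPerm h.hnormal hg with hπ
  set i₀ : Q ⧸ Z.subgroupOf Q := ((1 : Q) : Q ⧸ Z.subgroupOf Q) with hi₀
  set T : Finset (Q ⧸ Z.subgroupOf Q) := Finset.univ.filter fun i => (i.out : Y) ∈ F with hT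
  have hTmk : ∀ u : Q, ((u : Q ⧸ Z.subgroupOf Q) ∈ T) ↔ (u : Y) ∈ F := by
    intro u
    have hz : ((u : Q ⧸ Z.subgroupOf Q).out)⁻¹ * u ∈ Z.subgroupOf Q := by
      rw [← QuotientGroup.eq, QuotientGroup.out_eq']
    have hzF : ((((u : Q ⧸ Z.subgroupOf Q).out)⁻¹ * u : Q) : Y) ∈ F := hZF (Subgroup.mem_subgroupOf.1 hz)
    rw [Subgroup.coe_mul, Subgroup.coe_inv] at hzF
    rw [hT, Finset.mem_filter]
    refine ⟨fun hh => ?_, fun hu => ⟨Finset.mem_univ _, ?_⟩⟩
    · simpa using F.mul_mem hh.2 hzF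
    · simpa using F.mul_mem hu (F.inv_mem hzF)
  have hi0T : i₀ ∈ T := (hTmk 1).2 (by simpa using F.one_mem)
  have hTcard : T.card = Z.relIndex F := by
    rw [Subgroup.relIndex, Subgroup.index, ← Fintype.card_coe T, ← Nat.card_eq_fintype_card]
    refine (Nat.card_congr (Equiv.ofBijective
      (fun i : F ⧸ Z.subgroupOf F => (⟨((⟨(i.out : Y), hFQ i.out.2⟩ : Q) : Q ⧸ Z.subgroupOf Q),
        (hTmk _).2 i.out.2⟩ : T)) ⟨fun i j e => ?_, fun t => ?_⟩)).symm
    · rw [← QuotientGroup.out_eq' i, ← QuotientGroup.out_eq' j, QuotientGroup.eq, Subgroup.mem_subgroupOf]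
      simpa [Subgroup.mem_subgroupOf] using QuotientGroup.eq.1 (congrArg Subtype.val e)
    · obtain ⟨t, ht⟩ := t
      have hu : (t.out : Y) ∈ F := by rw [hT] at ht; exact (Finset.mem_filter.1 ht).2
      refine ⟨((⟨(t.out : Y), hu⟩ : F) : F ⧸ Z.subgroupOf F), Subtype.ext ?_⟩
      show ((⟨_, _⟩ : Q) : Q ⧸ Z.subgroupOf Q) = t
      conv_rhs => rw [← QuotientGroup.out_eq' t]
      rw [QuotientGroup.eq, Subgroup.mem_subgroupOf]
      have h1 : (((⟨(t.out : Y), hu⟩ : F) : F ⧸ Z.subgroupOf F).out)⁻¹ * ⟨(t.out : Y), hu⟩ ∈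
          Z.subgroupOf F := by rw [← QuotientGroup.eq, QuotientGroup.out_eq']
      simpa [Subgroup.mem_subgroupOf] using h1
  have hTπ : ∀ i ∈ T, π i ∈ T := by
    intro i
    induction i using QuotientGroup.induction_on with | _ u => ?_
    intro hu
    rw [hπ, classPerm_mk, hTmk, coe_autQ]
    exact hgF _ ((hTmk u).1 hu)
  have hπ0 : π i₀ = i₀ := by rw [hπ, hi₀, classPerm_mk, map_one]
  have hne0 : ∀ u : Q, (u : Q ⧸ Z.subgroupOf Q) ≠ i₀ → (u : Y) ∉ Z := fun u hu hz => hu (by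
    rw [hi₀, QuotientGroup.eq, mul_one]
    exact Subgroup.mem_subgroupOf.2 (Z.inv_mem hz))
  obtain ⟨R₁, hR₁S, hR₁c, hR₁cov, -⟩ := exists_reps π ha (T.erase i₀)
    (fun i hi => Finset.mem_erase.2 ⟨fun e => (Finset.mem_erase.1 hi).1
      (π.injective (e.trans hπ0.symm)), hTπ i (Finset.mem_erase.1 hi).2⟩)
    (fun i hi => by
      induction i using QuotientGroup.induction_on with | _ u => ?_
      exact (classPerm_pow_eq_iff _ hg a u).2 (hperF u ((hTmk u).1 (Finset.mem_erase.1 hi).2)))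
    (fun i hi j hj hja e => by
      induction i using QuotientGroup.induction_on with | _ u => ?_
      exact hfreeF u ((hTmk u).1 (Finset.mem_erase.1 hi).2) (hne0 u (Finset.mem_erase.1 hi).1) j hj hja
        ((classPerm_pow_eq_iff _ hg j u).1 e))
  have hTimg : T.image π = T :=
    Finset.eq_of_subset_of_card_le (Finset.image_subset_iff.2 hTπ)
      (by rw [Finset.card_image_of_injective _ π.injective])
  obtain ⟨R₂, hR₂S, hR₂c, hR₂cov, -⟩ := exists_reps π hab (Finset.univ \ T)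
    (fun i hi => Finset.mem_sdiff.2 ⟨Finset.mem_univ _, fun hh => (Finset.mem_sdiff.1 hi).2 (by
      rw [← hTimg, Finset.mem_image] at hh
      obtain ⟨k, hk, e⟩ := hh
      exact π.injective e ▸ hk)⟩)
    (fun i _ => by
      induction i using QuotientGroup.induction_on with | _ u => ?_
      exact (classPerm_pow_eq_iff _ hg b u).2 (hperQ u u.2))
    (fun i hi j hj hjb e => by
      induction i using QuotientGroup.induction_on with | _ u => ?_
      exact hfreeQ u u.2 (fun hu => (Finset.mem_sdiff.1 hi).2 ((hTmk u).2 hu)) j hj hjb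
        ((classPerm_pow_eq_iff _ hg j u).1 e))
  refine ⟨R₁.card, R₂.card, ?_, ?_, ?_⟩
  · rw [hR₁c, Finset.card_erase_of_mem hi0T, ← hTcard]
    exact Nat.sub_add_cancel (Finset.card_pos.2 ⟨i₀, hi0T⟩)
  · rw [hR₂c, Finset.card_sdiff_of_subset (Finset.subset_univ T), Finset.card_univ, ← hTcard,
      Nat.sub_add_cancel (Finset.card_le_univ T), Subgroup.relIndex, Subgroup.index,
      Nat.card_eq_fintype_card]
  · refine (h.finrank_comm_le hirr hg (insert i₀ (R₁ ∪ R₂)) fun i => ?_).trans ?_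
    · by_cases hi : i = i₀
      · exact ⟨i₀, Finset.mem_insert_self _ _, 0, by simp [hi]⟩
      by_cases hiT : i ∈ T
      · obtain ⟨c, hc, j, -, e⟩ := hR₁cov i (Finset.mem_erase.2 ⟨hi, hiT⟩)
        exact ⟨c, Finset.mem_insert_of_mem (Finset.mem_union_left _ hc), j, e⟩
      · obtain ⟨c, hc, j, -, e⟩ := hR₂cov i (Finset.mem_sdiff.2 ⟨Finset.mem_univ _, hiT⟩)
        exact ⟨c, Finset.mem_insert_of_mem (Finset.mem_union_right _ hc), j, e⟩
    · refine (Finset.card_insert_le _ _).trans ?_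
      have := Finset.card_union_le R₁ R₂
      omega

end Stable

end CfsgLib.FitTuran
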