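import Cfsg.Agent.Lib.FitTuran.Section
import Cfsg.Agent.Lib.FitLen.Residual
import Cfsg.Agent.Lib.Fitting.Basic
import Cfsg.Agent.Lib.HallHigman.SolubleBounds

/-!
Invariant towers of subgroups of prime power order witnessing the Fitting length.
-/

set_option autoImplicit false
set_option linter.style.haveILetI false
set_option linter.unusedSectionVars false

open scoped commutatorElement Pointwise

namespace CfsgLib.FitTuran

open CfsgLib.BG.FixedLine CfsgLib.FitLen

universe u

variable {X : Type u} [Group X] [Finite X]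

/-- A normal solvable subgroup with a coprime operator of prime order. -/
structure Ctx (G : Subgroup X) (s : X) (r : ℕ) : Prop where
  hG : G.Normal
  hr : r.Prime
  hsr : s ^ r = 1
  hsol : Group.IsSolvable G
  hcop : r.Coprime (Nat.card G)

namespace Ctx

variable {G : Subgroup X} {s : X} {r : ℕ} (c : Ctx G s r)

include c

theorem mem_normalizer : s ∈ Subgroup.normalizer (G : Set X) := by
  haveI := c.hG
  rw [Subgroup.normalizer_eq_top G]
  exact Subgroup.mem_top s

theorem coprime {H : Subgroup X} (hH : H ≤ G) :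
    (Nat.card (Subgroup.zpowers s)).Coprime (Nat.card H) := by
  rw [Nat.card_zpowers]
  exact (c.hcop.coprime_dvd_left (orderOf_dvd_of_pow_eq_one c.hsr)).coprime_dvd_right
    (Subgroup.card_dvd_of_le hH)

theorem ne_of_dvd {p : ℕ} (hp : p.Prime) {H : Subgroup X} (hH : H ≤ G) (hne : H ≠ ⊥)
    (hHp : IsPGroup p H) : r ≠ p := by
  haveI := Fact.mk hp
  rintro rfl
  obtain ⟨k, hk⟩ := IsPGroup.iff_card.1 hHp
  have hd : r ∣ Nat.card H := by
    rw [hk]
    refine dvd_pow_self r fun hk0 => hne (Subgroup.card_eq_one.1 ?_)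
    rw [hk, hk0, pow_zero]
  exact c.hr.ne_one (Nat.eq_one_of_dvd_coprimes c.hcop dvd_rfl (hd.trans (Subgroup.card_dvd_of_le hH)))

end Ctx

/-- A tower without the commutator condition. -/
structure PreTower (G : Subgroup X) (s : X) (h : ℕ) (P : ℕ → Subgroup X) (p : ℕ → ℕ) : Prop where
  hp : ∀ i, i < h → (p i).Prime
  hP : ∀ i, i < h → IsPGroup (p i) (P i)
  hG : ∀ i, i < h → P i ≤ G
  hs : ∀ i, i < h → s ∈ Subgroup.normalizer (P i : Set X)
  hnorm : ∀ i j, i < j → j < h → P i ≤ Subgroup.normalizer (P j : Set X)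
  hne : ∀ i, i + 1 < h → p i ≠ p (i + 1)

/-- A tower. -/
structure Tower (G : Subgroup X) (s : X) (h : ℕ) (P : ℕ → Subgroup X) (p : ℕ → ℕ) : Prop extends
    PreTower G s h P p where
  hcomm : ∀ i, i + 1 < h → ⁅P (i + 1), P i⁆ = P (i + 1)
  htop : P (h - 1) ≠ ⊥

/-- The tower generated by iterated commutators. -/
def repair (P : ℕ → Subgroup X) : ℕ → Subgroup X
  | 0 => P 0
  | i + 1 => ⁅P (i + 1), repair P i⁆

variable {G : Subgroup X} {s : X} {r h : ℕ} {P : ℕ → Subgroup X} {p : ℕ → ℕ}

theorem PreTower.repair_props (t : PreTower G s h P p) : ∀ i, i < h →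
    repair P i ≤ P i ∧ s ∈ Subgroup.normalizer (repair P i : Set X) ∧
      ∀ j, j < i → repair P j ≤ Subgroup.normalizer (repair P i : Set X) := by
  intro i
  induction i using Nat.strong_induction_on with
  | _ i ih =>
    intro hi
    cases i with
    | zero => exact ⟨le_rfl, t.hs 0 hi, fun j hj => absurd hj (Nat.not_lt_zero j)⟩
    | succ i =>
      obtain ⟨hle, hs', hn⟩ := ih i (Nat.lt_succ_self i) (by omega)
      have hN : repair P i ≤ Subgroup.normalizer (P (i + 1) : Set X) :=
        hle.trans (t.hnorm i (i + 1) (Nat.lt_succ_self i) hi)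
      refine ⟨CfsgLib.Coprime.commutator_le_left_of_le_normalizer hN, ?_, fun j hj => ?_⟩
      · exact CfsgLib.Coprime.le_normalizer_commutator (A := Subgroup.zpowers s)
          (Subgroup.zpowers_le.2 (t.hs (i + 1) hi)) (Subgroup.zpowers_le.2 hs') (Subgroup.mem_zpowers s)
      · have hjle := (ih j hj (by omega)).1
        refine CfsgLib.Coprime.le_normalizer_commutator (hjle.trans (t.hnorm j (i + 1) hj hi)) ?_
        rcases Nat.lt_succ_iff_lt_or_eq.1 hj with hj' | rfl
        · exact hn j hj'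
        · exact Subgroup.le_normalizer

theorem PreTower.repair_tower (t : PreTower G s h P p) (htop : repair P (h - 1) ≠ ⊥) :
    Tower G s h (repair P) p where
  hp := t.hp
  hP i hi := (t.hP i hi).to_le (t.repair_props i hi).1
  hG i hi := (t.repair_props i hi).1.trans (t.hG i hi)
  hs i hi := (t.repair_props i hi).2.1
  hnorm i j hij hj := (t.repair_props j hj).2.2 i hij
  hne := t.hne
  htop := htop
  hcomm i hi := by
    have hle := (t.repair_props i (by omega)).1
    have hN : repair P i ≤ Subgroup.normalizer (P (i + 1) : Set X) :=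
      hle.trans (t.hnorm i (i + 1) (Nat.lt_succ_self i) hi)
    haveI := Fact.mk (t.hp i (by omega))
    haveI := Fact.mk (t.hp (i + 1) hi)
    refine CfsgLib.Coprime.commutator_commutator_eq hN
      (IsPGroup.coprime_card_of_ne (p i) (p (i + 1)) (t.hne i hi) _ _ ((t.hP i (by omega)).to_le hle)
        (t.hP (i + 1) hi)) (Or.inr ?_)
    haveI := (t.hP (i + 1) hi).isNilpotent
    infer_instance

section Lift

variable {X' : Type*} [Group X'] [Finite X'] (f : X →* X')

/-- A tower of an image lifts. -/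
theorem exists_lift (c : Ctx G s r) (hh : 0 < h) {Q : ℕ → Subgroup X'}
    (t : Tower (G.map f) (f s) h Q p) :
    ∃ P, Tower G s h P p ∧ ∀ i, i < h → (P i).map f = Q i := by
  classical
  suffices hstep : ∀ d, d ≤ h → ∃ P : ℕ → Subgroup X,
      (∀ i, h - d ≤ i → i < h → IsPGroup (p i) (P i) ∧ P i ≤ G ∧ s ∈ Subgroup.normalizer (P i : Set X) ∧
        (P i).map f = Q i) ∧
      (∀ i j, h - d ≤ i → i < j → j < h → P i ≤ Subgroup.normalizer (P j : Set X)) ∧
      (∀ i, i < h - d → ∀ x ∈ Q i, ∃ u ∈ G, f u = x ∧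
        ∀ j, h - d ≤ j → j < h → u ∈ Subgroup.normalizer (P j : Set X)) by
    obtain ⟨P, h1, h2, -⟩ := hstep h le_rfl
    have hpre : PreTower G s h P p :=
      { hp := t.hp
        hP := fun i hi => (h1 i (by omega) hi).1
        hG := fun i hi => (h1 i (by omega) hi).2.1
        hs := fun i hi => (h1 i (by omega) hi).2.2.1
        hnorm := fun i j hij hj => h2 i j (by omega) hij hj
        hne := t.hne }
    have hmap : ∀ i, i < h → (repair P i).map f = Q i := by
      intro i
      induction i with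
      | zero => exact fun hi => (h1 0 (by omega) hi).2.2.2
      | succ i ih =>
        intro hi
        show (⁅P (i + 1), repair P i⁆).map f = Q (i + 1)
        rw [Subgroup.map_commutator, (h1 (i + 1) (by omega) hi).2.2.2, ih (by omega), t.hcomm i hi]
    exact ⟨repair P, hpre.repair_tower fun e => t.htop (by
      rw [← hmap (h - 1) (by omega), e, Subgroup.map_bot]), hmap⟩
  intro d
  induction d with
  | zero =>
    intro _
    refine ⟨fun _ => ⊥, fun i hi hi' => absurd hi' (by omega), fun i j hi hij hj => absurd hj (by omega),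
      fun i hi x hx => ?_⟩
    obtain ⟨u, hu, e⟩ := t.hG i (by omega) hx
    exact ⟨u, hu, e, fun j hj hj' => absurd hj' (by omega)⟩
  | succ d ih =>
    intro hd
    obtain ⟨P, h1, h2, h3⟩ := ih (by omega)
    obtain ⟨k, hk, hkd, hkh⟩ : ∃ k, k = h - (d + 1) ∧ h - d = k + 1 ∧ k < h :=
      ⟨_, rfl, by omega, by omega⟩
    rw [hkd] at h1 h2 h3
    let U : Subgroup X := G ⊓ ⨅ j : {j // k + 1 ≤ j ∧ j < h}, Subgroup.normalizer (P j : Set X)
    have hUmem : ∀ {u : X}, u ∈ U ↔ u ∈ G ∧
        ∀ j, k + 1 ≤ j → j < h → u ∈ Subgroup.normalizer (P j : Set X) := fun {u} => by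
      simp only [U, Subgroup.mem_inf, Subgroup.mem_iInf, Subtype.forall]
      exact ⟨fun hu => ⟨hu.1, fun j a b => hu.2 j ⟨a, b⟩⟩, fun hu => ⟨hu.1, fun j a => hu.2 j a.1 a.2⟩⟩
    have hsU : s ∈ Subgroup.normalizer (U : Set X) := by
      refine mem_normalizer_of_conj fun u hu => hUmem.2 ⟨(Subgroup.mem_normalizer_iff.1 c.mem_normalizer u).1
        (hUmem.1 hu).1, fun j a b => ?_⟩
      exact mul_mem (mul_mem (h1 j a b).2.2.1 ((hUmem.1 hu).2 j a b)) (inv_mem (h1 j a b).2.2.1)
    let T : Subgroup X := U ⊓ (Q k).comap f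
    have hTG : T ≤ G := inf_le_left.trans inf_le_left
    have hsT : s ∈ Subgroup.normalizer (T : Set X) := by
      refine mem_normalizer_of_conj fun u hu => ⟨(Subgroup.mem_normalizer_iff.1 hsU u).1 hu.1, ?_⟩
      show f (s * u * s⁻¹) ∈ Q k
      rw [map_mul, map_mul, map_inv]
      exact (Subgroup.mem_normalizer_iff.1 (t.hs k hkh) _).1 hu.2
    haveI := Fact.mk (t.hp k hkh)
    obtain ⟨S, hS⟩ := CfsgLib.Coprime.exists_invariant_sylow (Subgroup.zpowers_le.2 hsT) (c.coprime hTG)
      (Or.inl (CfsgLib.Coprime.isSolvable_of_isMulCommutative _)) (p k)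
    set S' := (S : Subgroup T).map T.subtype with hS'
    have hS'T : S' ≤ T := Subgroup.map_subtype_le _
    have hS'p : IsPGroup (p k) S' := S.2.map _
    -- the image of the Sylow subgroup
    let fT : T →* Q k := (f.comp T.subtype).codRestrict (Q k) fun u => u.2.2
    have hfT : Function.Surjective fT := fun x => by
      obtain ⟨u, hu, e, hu'⟩ := h3 k (Nat.lt_succ_self k) x x.2
      exact ⟨⟨u, hUmem.2 ⟨hu, hu'⟩, by show f u ∈ Q k; rw [e]; exact x.2⟩, Subtype.ext e⟩
    have hSmap : S'.map f = Q k := by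
      refine le_antisymm ?_ fun x hx => ?_
      · rintro _ ⟨u, hu, rfl⟩; exact (hS'T hu).2
      · have htop := (S.mapSurjective hfT).3 ((t.hP k hkh).to_subgroup ⊤) le_top
        obtain ⟨u, hu, e⟩ := (htop.le (Subgroup.mem_top (⟨x, hx⟩ : Q k)) :
          (⟨x, hx⟩ : Q k) ∈ (S : Subgroup T).map fT)
        exact ⟨u, ⟨u, hu, rfl⟩, congrArg Subtype.val e⟩
    have hnew : ∀ i, i < k → ∀ x ∈ Q i, ∃ u ∈ G, f u = x ∧
        ∀ j, k ≤ j → j < h → u ∈ Subgroup.normalizer ((Function.update P k S' j : Subgroup X) : Set X) := by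
      intro i hik x hx
      obtain ⟨u, hu, e, hu'⟩ := h3 i (by omega) x hx
      have huU : u ∈ U := hUmem.2 ⟨hu, hu'⟩
      have huT : u ∈ Subgroup.normalizer (T : Set X) := by
        refine mem_normalizer_of_conj fun w hw => ⟨U.mul_mem (U.mul_mem huU hw.1) (U.inv_mem huU), ?_⟩
        show f (u * w * u⁻¹) ∈ Q k
        rw [map_mul, map_mul, map_inv, e]
        exact (Subgroup.mem_normalizer_iff.1 (t.hnorm i k hik hkh hx) _).1 hw.2
      have hle : MulAut.conj u • S' ≤ T := by
        calc MulAut.conj u • S' ≤ MulAut.conj u • T := Subgroup.map_mono hS'T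
          _ = T := CfsgLib.Coprime.conj_smul_eq_self_of_mem_normalizer huT
      have hcard : Nat.card ((MulAut.conj u • S').subgroupOf T) = p k ^ (Nat.card T).factorization (p k) := by
        rw [Nat.card_congr (Subgroup.subgroupOfEquivOfLe hle).toEquiv, CfsgLib.Coprime.card_conj_smul, hS',
          Subgroup.card_map_of_injective T.subtype_injective, S.card_eq_multiplicity]
      obtain ⟨τ, hτ⟩ := MulAction.exists_smul_eq T S (Sylow.ofCard _ hcard)
      have hτ' : MulAut.conj (τ : X) • S' = MulAut.conj u • S' := by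
        rw [hS', ← CfsgLib.Coprime.map_subtype_conj_smul_sylow τ S, hτ, Sylow.coe_ofCard,
          Subgroup.map_subgroupOf_eq_of_le hle]
      obtain ⟨s₀, hs₀, es⟩ : f (τ : X) ∈ S'.map f := by rw [hSmap]; exact τ.2.2
      have hs₀' : MulAut.conj s₀ • S' = S' := CfsgLib.Coprime.conj_smul_eq_of_mem hs₀
      set k₀ := (τ : X) * s₀⁻¹ with hk₀
      have hk₀U : k₀ ∈ U := U.mul_mem τ.2.1 (U.inv_mem (hS'T hs₀).1)
      have hk₀S : MulAut.conj k₀ • S' = MulAut.conj u • S' := by
        rw [hk₀, map_mul, mul_smul, map_inv]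
        rw [show (MulAut.conj s₀)⁻¹ • S' = S' from inv_smul_eq_iff.2 hs₀'.symm, hτ']
      refine ⟨k₀⁻¹ * u, (U.mul_mem (U.inv_mem hk₀U) huU).1, ?_, fun j hj hj' => ?_⟩
      · rw [map_mul, map_inv, hk₀, map_mul, map_inv, es, mul_inv_cancel, inv_one, one_mul, e]
      · rcases Nat.eq_or_lt_of_le hj with rfl | hlt
        · rw [Function.update_self, CfsgLib.Coprime.mem_normalizer_iff_conj_smul, map_mul, mul_smul,
            map_inv, ← hk₀S, inv_smul_smul]
        · rw [Function.update_of_ne (by omega)]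
          exact (hUmem.1 (U.mul_mem (U.inv_mem hk₀U) huU)).2 j hlt hj'
    refine ⟨Function.update P k S', fun i hi hi' => ?_, fun i j hi hij hj => ?_, ?_⟩
    · rcases Nat.eq_or_lt_of_le (show k ≤ i by omega) with rfl | hlt
      · rw [Function.update_self]
        exact ⟨hS'p, hS'T.trans hTG, hS (Subgroup.mem_zpowers s), hSmap⟩
      · rw [Function.update_of_ne (by omega)]
        exact h1 i hlt hi'
    · rw [Function.update_of_ne (show j ≠ k by omega)]
      rcases Nat.eq_or_lt_of_le (show k ≤ i by omega) with rfl | hlt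
      · rw [Function.update_self]
        exact fun u hu => (hUmem.1 (hS'T hu).1).2 j (by omega) hj
      · rw [Function.update_of_ne (by omega)]
        exact h2 i j hlt hij hj
    · rw [show h - (d + 1) = k from hk.symm]
      exact hnew

end Lift

/-- The Sylow subgroups generate. -/
theorem le_of_sylow_le {F H : Subgroup X}
    (hF : ∀ q : ℕ, q.Prime → ∀ S : Sylow q F, (S : Subgroup F).map F.subtype ≤ H) : F ≤ H := by
  have htop : H.subgroupOf F = ⊤ := by
    rw [← Subgroup.index_eq_one]
    by_contra hne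
    obtain ⟨q, hq, hqd⟩ := Nat.exists_prime_and_dvd hne
    haveI := Fact.mk hq
    obtain ⟨S⟩ : Nonempty (Sylow q F) := inferInstance
    have hle : (S : Subgroup F) ≤ H.subgroupOf F := fun x hx =>
      Subgroup.mem_subgroupOf.2 (hF q hq S (Subgroup.mem_map_of_mem _ hx))
    exact S.not_dvd_index (hqd.trans (Subgroup.index_dvd_of_le hle))
  exact Subgroup.subgroupOf_eq_top.1 htop

/-- The Sylow subgroups of the Fitting part of a normal subgroup lie in the cores. -/
theorem sylow_fitting_le {G : Subgroup X} [G.Normal] {q : ℕ} [Fact q.Prime]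
    (S : Sylow q (Cfsg.fittingSubgroup X ⊓ G : Subgroup X)) :
    (S : Subgroup (Cfsg.fittingSubgroup X ⊓ G : Subgroup X)).map
      (Cfsg.fittingSubgroup X ⊓ G : Subgroup X).subtype ≤ Cfsg.pCore q X ⊓ G := by
  haveI := CfsgLib.Fitting.fittingSubgroup_normal (G := X)
  haveI : Group.IsNilpotent (Cfsg.fittingSubgroup X) := CfsgLib.Fitting.fittingSubgroup_isNilpotent (G := X)
  haveI : Group.IsNilpotent (Cfsg.fittingSubgroup X ⊓ G : Subgroup X) :=
    resid_eq_bot_iff.1 (le_bot_iff.1 ((resid_mono inf_le_left).trans (resid_eq_bot_iff.2 inferInstance).le))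
  haveI := CfsgLib.Layer.sylow_normal_of_nilpotent inferInstance S
  haveI := S.characteristic_of_normal inferInstance
  refine le_inf (CfsgLib.Fitting.le_pCore ?_ (S.2.map _)) ((Subgroup.map_subtype_le _).trans inf_le_right)
  exact CfsgLib.PSolvable.normal_map_of_characteristic _ _

theorem fitting_inf_resid {G : Subgroup X} : resid (Cfsg.fittingSubgroup X ⊓ G) = ⊥ := by
  haveI : Group.IsNilpotent (Cfsg.fittingSubgroup X) := CfsgLib.Fitting.fittingSubgroup_isNilpotent (G := X)
  exact le_bot_iff.1 ((resid_mono inf_le_left).trans (resid_eq_bot_iff.2 inferInstance).le)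

/-- A nontrivial solvable normal subgroup has a nontrivial core. -/
theorem exists_core_ne_bot {G : Subgroup X} [G.Normal] (hsol : Group.IsSolvable G) (hne : G ≠ ⊥) :
    ∃ q : ℕ, q.Prime ∧ Cfsg.pCore q X ⊓ G ≠ ⊥ := by
  haveI := hsol
  haveI : Nontrivial G := (Subgroup.nontrivial_iff_ne_bot G).2 hne
  obtain ⟨q, hq, -, hcore⟩ := CfsgLib.HallHigman.exists_pCore_ne_bot_of_solvable G inferInstance
  refine ⟨q, hq, fun e => hcore ?_⟩
  haveI : (Cfsg.pCore q G).Characteristic := by
    refine Subgroup.characteristic_iff_map_le.2 fun φ => ?_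
    refine CfsgLib.Fitting.le_pCore ?_ ((CfsgLib.Fitting.pCore_isPGroup q).map _)
    haveI := CfsgLib.Fitting.pCore_normal (G := G) q
    exact Subgroup.Normal.map inferInstance _ φ.surjective
  have h1 : (Cfsg.pCore q G).map G.subtype ≤ Cfsg.pCore q X ⊓ G :=
    le_inf (CfsgLib.Fitting.le_pCore (CfsgLib.PSolvable.normal_map_of_characteristic _ _)
      ((CfsgLib.Fitting.pCore_isPGroup q).map _)) (Subgroup.map_subtype_le _)
  rw [e, le_bot_iff, Subgroup.map_eq_bot_iff_of_injective _ G.subtype_injective] at h1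
  exact h1

/-- A group of `p`-elements over the Fitting part moves a core of another prime. -/
theorem exists_moved_core {G O : Subgroup X} (hG : G.Normal) {X' : Type*} [Group X'] [Finite X']
    (f : X →* X') (hker : f.ker ⊓ G = Cfsg.fittingSubgroup X ⊓ G) {p : ℕ} [Fact p.Prime]
    {Ob : Subgroup X'} (hOn : Ob.Normal) (hOp : IsPGroup p Ob)
    (hOG : O ≤ G) (hOmap : O.map f ≤ Ob) (hO : IsPGroup p O) (hOF : O.map f ≠ ⊥) :
    ∃ q : ℕ, q.Prime ∧ q ≠ p ∧ ⁅Cfsg.pCore q X ⊓ G, O⁆ ≠ ⊥ := by
  classical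
  by_contra hno
  push Not at hno
  haveI := hG
  haveI := hOn
  haveI := CfsgLib.Fitting.fittingSubgroup_normal (G := X)
  haveI hFn : (Cfsg.fittingSubgroup X ⊓ G : Subgroup X).Normal := inferInstance
  set F := Cfsg.fittingSubgroup X ⊓ G with hF
  have hcn : ∀ q, (Cfsg.pCore q X ⊓ G : Subgroup X).Normal := fun q => by
    haveI := CfsgLib.Fitting.pCore_normal (G := X) q
    infer_instance
  let Y0 : Subgroup X := (G ⊓ Ob.comap f) ⊓
    ⨅ q : {q : ℕ // q.Prime ∧ q ≠ p}, Subgroup.centralizer ((Cfsg.pCore q X ⊓ G : Subgroup X) : Set X)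
  have hY0G : Y0 ≤ G := inf_le_left.trans inf_le_left
  haveI hY0n : Y0.Normal := by
    haveI : (Ob.comap f).Normal := hOn.comap f
    haveI : ∀ q : {q : ℕ // q.Prime ∧ q ≠ p},
        (Subgroup.centralizer ((Cfsg.pCore q X ⊓ G : Subgroup X) : Set X)).Normal := fun q => by
      haveI := hcn q
      infer_instance
    haveI : (⨅ q : {q : ℕ // q.Prime ∧ q ≠ p},
        Subgroup.centralizer ((Cfsg.pCore q X ⊓ G : Subgroup X) : Set X)).Normal :=
      Subgroup.normal_iInf_normal fun q => inferInstance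
    infer_instance
  have hOY : O ≤ Y0 := le_inf (le_inf hOG (Subgroup.map_le_iff_le_comap.1 hOmap)) (le_iInf fun q => by
    refine Subgroup.le_centralizer_iff.1 (Subgroup.commutator_eq_bot_iff_le_centralizer.1 ?_)
    exact hno q q.2.1 q.2.2)
  obtain ⟨S⟩ : Nonempty (Sylow p Y0) := inferInstance
  set S₀ := (S : Subgroup Y0).map Y0.subtype with hS₀
  haveI := hcn p
  set S' := S₀ ⊔ (Cfsg.pCore p X ⊓ G) with hS'
  have hS'p : IsPGroup p S' := IsPGroup.to_sup_of_normal_right (S.2.map _)
    ((CfsgLib.Fitting.pCore_isPGroup p).to_le inf_le_left)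
  have hS₀Y : S₀ ≤ Y0 := Subgroup.map_subtype_le _
  -- the Fitting part normalizes `S'`
  have hFS : F ≤ Subgroup.normalizer (S' : Set X) := by
    refine le_of_sylow_le fun q hq T => ?_
    haveI := Fact.mk hq
    refine (sylow_fitting_le T).trans ?_
    by_cases hqp : q = p
    · subst hqp
      exact le_trans le_sup_right Subgroup.le_normalizer
    refine CfsgLib.Coprime.le_normalizer_sup_of_le ?_ (fun z _ => by
      rw [Subgroup.normalizer_eq_top]; exact Subgroup.mem_top z)
    refine fun z hz => Subgroup.centralizer_le_normalizer _ fun w hw => ?_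
    have h1 := (Subgroup.mem_iInf.1 (hS₀Y hw).2) ⟨q, hq, hqp⟩ z hz
    exact h1.symm
  have hY0le : Y0 ≤ S₀ ⊔ F := by
    let g : Y0 →* X' := f.comp Y0.subtype
    set H := (S : Subgroup Y0) ⊔ g.ker with hH
    have hkle : g.ker.map Y0.subtype ≤ F := by
      rintro _ ⟨z, hz, rfl⟩
      have h1 : (z : X) ∈ f.ker ⊓ G := ⟨hz, hY0G z.2⟩
      rwa [hker] at h1
    have hidx : H.index = 1 := by
      obtain ⟨k, hk⟩ := IsPGroup.iff_card.1 (hOp.to_le (show g.range ≤ Ob by
        rintro _ ⟨z, rfl⟩
        exact z.2.1.2))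
      rw [← Subgroup.index_ker] at hk
      have h1 : H.index ∣ p ^ k := hk ▸ Subgroup.index_dvd_of_le le_sup_right
      obtain ⟨j, -, hj⟩ := (Nat.dvd_prime_pow (Fact.out : p.Prime)).1 h1
      have h2 : H.index ∣ (S : Subgroup Y0).index := Subgroup.index_dvd_of_le le_sup_left
      rcases Nat.eq_zero_or_pos j with rfl | hj0
      · simpa using hj
      · exact absurd ((hj ▸ dvd_pow_self p hj0.ne').trans h2) S.not_dvd_index
    calc Y0 = (⊤ : Subgroup Y0).map Y0.subtype := by rw [← MonoidHom.range_eq_map, Subgroup.range_subtype]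
      _ = H.map Y0.subtype := by rw [Subgroup.index_eq_one.1 hidx]
      _ ≤ S₀ ⊔ F := by rw [hH, Subgroup.map_sup]; exact sup_le_sup le_rfl hkle
  have hY0S : Y0 ≤ Subgroup.normalizer (S' : Set X) :=
    hY0le.trans (sup_le (le_trans le_sup_left Subgroup.le_normalizer) hFS)
  have hSeq : (S : Subgroup Y0) = S'.subgroupOf Y0 :=
    (S.3 (hS'p.comap_of_injective Y0.subtype Y0.subtype_injective) fun z hz =>
      Subgroup.mem_subgroupOf.2 (Subgroup.mem_sup_left (Subgroup.mem_map_of_mem _ hz))).symm
  haveI : (S : Subgroup Y0).Normal := by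
    rw [hSeq]
    exact ⟨fun z hz g => Subgroup.mem_subgroupOf.2
      ((Subgroup.mem_normalizer_iff.1 (hY0S g.2) _).1 (Subgroup.mem_subgroupOf.1 hz))⟩
  haveI := S.characteristic_of_normal inferInstance
  have hS₀F : S₀ ≤ F := le_inf
    ((CfsgLib.Fitting.le_pCore (CfsgLib.PSolvable.normal_map_of_characteristic Y0 _) (S.2.map _)).trans
      (CfsgLib.Fitting.pCore_le_fittingSubgroup p)) (hS₀Y.trans hY0G)
  have hOS : O.subgroupOf Y0 ≤ (S : Subgroup Y0) := by
    obtain ⟨T, hT⟩ := (hO.comap_of_injective Y0.subtype Y0.subtype_injective).exists_le_sylow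
    obtain ⟨g, hg⟩ := MulAction.exists_smul_eq Y0 S T
    rw [Sylow.smul_eq_of_normal] at hg
    exact hg ▸ hT
  refine hOF ((Subgroup.map_eq_bot_iff O).2 fun z hz => ?_)
  have h1 : z ∈ f.ker ⊓ G := by
    rw [hker]
    exact hS₀F ⟨⟨z, hOY hz⟩, hOS (Subgroup.mem_subgroupOf.2 hz), rfl⟩
  exact h1.1

/-- Existence of towers. -/
theorem exists_tower : ∀ (m : ℕ) {X : Type u} [Group X] [Finite X] (G : Subgroup X) (s : X) (r : ℕ),
    Ctx G s r → iterResid m G ≠ ⊥ → ∃ P p, Tower G s (m + 1) P p ∧
      ∃ O : Subgroup X, O.Normal ∧ IsPGroup (p m) O ∧ P m ≤ O := by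
  intro m
  induction m with
  | zero =>
    intro X _ _ G s r c hne
    haveI := c.hG
    obtain ⟨q, hq, hcore⟩ := exists_core_ne_bot c.hsol (by simpa using hne)
    haveI := CfsgLib.Fitting.pCore_normal (G := X) q
    refine ⟨fun _ => Cfsg.pCore q X ⊓ G, fun _ => q,
      { hp := fun _ _ => hq
        hP := fun _ _ => (CfsgLib.Fitting.pCore_isPGroup q).to_le inf_le_left
        hG := fun _ _ => inf_le_right
        hs := fun _ _ => by rw [Subgroup.normalizer_eq_top]; exact Subgroup.mem_top s
        hnorm := fun i j hij hj => absurd hij (by omega)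
        hne := fun i hi => absurd hi (by omega)
        hcomm := fun i hi => absurd hi (by omega)
        htop := hcore }, Cfsg.pCore q X ⊓ G, inferInstance, (CfsgLib.Fitting.pCore_isPGroup q).to_le inf_le_left,
      le_rfl⟩
  | succ m ih =>
    intro X _ _ G s r c hne
    haveI := c.hG
    haveI := CfsgLib.Fitting.fittingSubgroup_normal (G := X)
    set F := Cfsg.fittingSubgroup X ⊓ G with hF
    haveI : F.Normal := inferInstance
    set f := QuotientGroup.mk' F with hf
    have hfker : f.ker ⊓ G = F := by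
      rw [hf, QuotientGroup.ker_mk']
      exact inf_eq_left.2 inf_le_right
    have c' : Ctx (G.map f) (f s) r :=
      { hG := c.hG.map f (QuotientGroup.mk'_surjective F)
        hr := c.hr
        hsr := by rw [← map_pow, c.hsr, map_one]
        hsol := CfsgLib.Coprime.isSolvable_map f c.hsol
        hcop := c.hcop.coprime_dvd_right (Subgroup.card_map_dvd (f := f) G) }
    have hne' : iterResid m (G.map f) ≠ ⊥ := by
      intro e
      refine hne (le_bot_iff.1 ?_)
      rw [← iterResid_map, Subgroup.map_eq_bot_iff, hf, QuotientGroup.ker_mk'] at e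
      rw [iterResid_succ]
      exact (resid_mono e).trans fitting_inf_resid.le
    obtain ⟨Q, p, tQ, Ob, hOn, hOp, hQO⟩ := ih (G.map f) (f s) r c' hne'
    obtain ⟨P, tP, hPQ⟩ := exists_lift f c (Nat.succ_pos m) tQ
    haveI := Fact.mk (tP.hp m (Nat.lt_succ_self m))
    have htopQ : (P m).map f ≠ ⊥ := by
      rw [hPQ m (Nat.lt_succ_self m)]
      simpa using tQ.htop
    obtain ⟨q, hq, hqp, hqc⟩ := exists_moved_core c.hG f hfker hOn hOp (tP.hG m (Nat.lt_succ_self m))
      (by rw [hPQ m (Nat.lt_succ_self m)]; exact hQO) (tP.hP m (Nat.lt_succ_self m)) htopQ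
    haveI := Fact.mk hq
    haveI := CfsgLib.Fitting.pCore_normal (G := X) q
    set O := Cfsg.pCore q X ⊓ G with hO
    have hOp' : IsPGroup q O := (CfsgLib.Fitting.pCore_isPGroup q).to_le inf_le_left
    have hON : ∀ z : X, z ∈ Subgroup.normalizer (O : Set X) := fun z => by
      rw [Subgroup.normalizer_eq_top]; exact Subgroup.mem_top z
    set T := ⁅O, P m⁆ with hT
    have hTO : T ≤ O := CfsgLib.Coprime.commutator_le_left_of_le_normalizer fun z _ => hON z
    refine ⟨fun i => if i ≤ m then P i else T, fun i => if i ≤ m then p i else q, ?_, O, inferInstance, ?_, ?_⟩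
    · refine
        { hp := fun i hi => ?_
          hP := fun i hi => ?_
          hG := fun i hi => ?_
          hs := fun i hi => ?_
          hnorm := fun i j hij hj => ?_
          hne := fun i hi => ?_
          hcomm := fun i hi => ?_
          htop := by simpa using hqc }
      · split_ifs with hm
        · exact tP.hp i (by omega)
        · exact hq
      · by_cases hm : i ≤ m
        · simp only [if_pos hm]; exact (tP.hP i (by omega)).to_le (if_pos hm).le
        · simp only [if_neg hm]; exact hOp'.to_le ((if_neg hm).trans_le hTO)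
      · split_ifs with hm
        · exact tP.hG i (by omega)
        · exact hTO.trans inf_le_right
      · split_ifs with hm
        · exact tP.hs i (by omega)
        · exact CfsgLib.Coprime.le_normalizer_commutator (A := Subgroup.zpowers s)
            (Subgroup.zpowers_le.2 (hON s)) (Subgroup.zpowers_le.2 (tP.hs m (by omega)))
            (Subgroup.mem_zpowers s)
      · rw [if_pos (show i ≤ m by omega)]
        split_ifs with hm
        · exact tP.hnorm i j hij (by omega)
        · refine CfsgLib.Coprime.le_normalizer_commutator (fun z _ => hON z) ?_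
          rcases Nat.eq_or_lt_of_le (show i ≤ m by omega) with rfl | hlt
          · exact Subgroup.le_normalizer
          · exact tP.hnorm i m hlt (by omega)
      · rw [if_pos (show i ≤ m by omega)]
        split_ifs with hm
        · exact tP.hne i (by omega)
        · rw [show i = m by omega]; exact hqp.symm
      · rw [if_pos (show i ≤ m by omega)]
        split_ifs with hm
        · exact tP.hcomm i (by omega)
        · rw [show i = m by omega]
          haveI := hOp'.isNilpotent
          exact CfsgLib.Coprime.commutator_commutator_eq (fun z _ => hON z)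
            (IsPGroup.coprime_card_of_ne (p m) q hqp.symm _ _ (tP.hP m (by omega)) hOp')
            (Or.inr inferInstance)
    · simpa using hOp'
    · simpa using hTO

/-- The kernels of a tower, counted from the top. -/
def kerAux (P : ℕ → Subgroup X) (h : ℕ) : ℕ → Subgroup X
  | 0 => ⊥
  | d + 1 => P (h - 1 - (d + 1)) ⊓ act (P (h - 1 - d)) (kerAux P h d)

/-- The kernels of a tower. -/
def ker (P : ℕ → Subgroup X) (h i : ℕ) : Subgroup X := kerAux P h (h - 1 - i)

theorem ker_top (P : ℕ → Subgroup X) (h : ℕ) : ker P h (h - 1) = ⊥ := by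
  rw [ker, Nat.sub_self]; rfl

theorem ker_eq (P : ℕ → Subgroup X) {h i : ℕ} (hi : i + 1 < h) :
    ker P h i = P i ⊓ act (P (i + 1)) (ker P h (i + 1)) := by
  rw [ker, ker, show h - 1 - i = h - 1 - (i + 1) + 1 by omega, kerAux,
    show h - 1 - (h - 1 - (i + 1) + 1) = i by omega, show h - 1 - (h - 1 - (i + 1)) = i + 1 by omega]

/-- Commutators modulo a normalized subgroup in a rotated triple. -/
theorem commutator_commutator_le_of_rotate {H₁ H₂ H₃ Kn : Subgroup X}
    (h₁ : H₁ ≤ Subgroup.normalizer (Kn : Set X)) (h₂ : H₂ ≤ Subgroup.normalizer (Kn : Set X))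
    (h₃ : H₃ ≤ Subgroup.normalizer (Kn : Set X)) (ha : ⁅⁅H₂, H₃⁆, H₁⁆ ≤ Kn)
    (hb : ⁅⁅H₃, H₁⁆, H₂⁆ ≤ Kn) : ⁅⁅H₁, H₂⁆, H₃⁆ ≤ Kn := by
  set M := Subgroup.normalizer (Kn : Set X) with hM
  haveI : (Kn.subgroupOf M).Normal := Subgroup.normal_in_normalizer
  set π := QuotientGroup.mk' (Kn.subgroupOf M) with hπ
  have hcm : ∀ A B : Subgroup X, A ≤ M → B ≤ M → ⁅A, B⁆ ≤ M := fun A B hA hB =>
    (Subgroup.commutator_mono hA hB).trans (Subgroup.commutator_le_self M)
  have hkey : ∀ A B C : Subgroup X, A ≤ M → B ≤ M → C ≤ M →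
      ((⁅⁅A.subgroupOf M, B.subgroupOf M⁆, C.subgroupOf M⁆).map π = ⊥ ↔ ⁅⁅A, B⁆, C⁆ ≤ Kn) := by
    intro A B C hA hB hC
    rw [Subgroup.map_eq_bot_iff, hπ, QuotientGroup.ker_mk',
      ← Subgroup.map_le_map_iff_of_injective M.subtype_injective, Subgroup.map_commutator,
      commutator_subgroupOf_map hA hB, Subgroup.map_subgroupOf_eq_of_le hC,
      Subgroup.map_subgroupOf_eq_of_le Subgroup.le_normalizer]
  rw [← hkey _ _ _ h₁ h₂ h₃, Subgroup.map_commutator, Subgroup.map_commutator]
  refine Subgroup.commutator_commutator_eq_bot_of_rotate ?_ ?_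
  · rw [← Subgroup.map_commutator, ← Subgroup.map_commutator, hkey _ _ _ h₂ h₃ h₁]; exact ha
  · rw [← Subgroup.map_commutator, ← Subgroup.map_commutator, hkey _ _ _ h₃ h₁ h₂]; exact hb

namespace Tower

theorem ker_props (t : Tower G s h P p) : ∀ i, i < h → ker P h i ≤ P i ∧
    s ∈ Subgroup.normalizer (ker P h i : Set X) ∧
    ∀ j, j ≤ i → P j ≤ Subgroup.normalizer (ker P h i : Set X) := by
  suffices ∀ d i, i + d + 1 = h → ker P h i ≤ P i ∧ s ∈ Subgroup.normalizer (ker P h i : Set X) ∧
      ∀ j, j ≤ i → P j ≤ Subgroup.normalizer (ker P h i : Set X) from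
    fun i hi => this (h - 1 - i) i (by omega)
  intro d
  induction d with
  | zero =>
    intro i hi
    rw [show ker P h i = ⊥ by rw [show i = h - 1 by omega, ker_top]]
    refine ⟨bot_le, ?_, fun j _ g _ => ?_⟩
    · rw [Subgroup.normalizer_eq_top]; exact Subgroup.mem_top s
    · rw [Subgroup.normalizer_eq_top]; exact Subgroup.mem_top g
  | succ d ih =>
    intro i hi
    obtain ⟨-, h2, h3⟩ := ih (i + 1) (by omega)
    rw [ker_eq P (by omega)]
    refine ⟨inf_le_left, ?_, fun j hj => ?_⟩
    · exact CfsgLib.Coprime.le_normalizer_inf_of_le (A := Subgroup.zpowers s)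
        (Subgroup.zpowers_le.2 (t.hs i (by omega)))
        (Subgroup.zpowers_le.2 (amb_le_normalizer_act _ _ ⟨t.hs (i + 1) (by omega), h2⟩))
        (Subgroup.mem_zpowers s)
    · refine CfsgLib.Coprime.le_normalizer_inf_of_le ?_
        ((le_inf (t.hnorm j (i + 1) (by omega) (by omega)) (h3 j (by omega))).trans (amb_le_normalizer_act _ _))
      rcases Nat.eq_or_lt_of_le hj with rfl | hlt
      · exact Subgroup.le_normalizer
      · exact t.hnorm j i hlt (by omega)

theorem ker_le (t : Tower G s h P p) {i : ℕ} (hi : i < h) : ker P h i ≤ P i := (t.ker_props i hi).1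

theorem secData (t : Tower G s h P p) {i : ℕ} (hi : i < h) : SecData (P i) (ker P h i) (p i) :=
  ⟨t.hP i hi, t.ker_le hi, (t.ker_props i hi).2.2 i le_rfl⟩

theorem le_amb (t : Tower G s h P p) {i j : ℕ} (hji : j ≤ i) (hi : i < h) :
    P j ≤ amb (P i) (ker P h i) := by
  refine le_inf ?_ ((t.ker_props i hi).2.2 j hji)
  rcases Nat.eq_or_lt_of_le hji with rfl | hlt
  · exact Subgroup.le_normalizer
  · exact t.hnorm j i hlt hi

theorem s_mem_amb (t : Tower G s h P p) {i : ℕ} (hi : i < h) : s ∈ amb (P i) (ker P h i) :=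
  ⟨t.hs i hi, (t.ker_props i hi).2.1⟩

theorem mem_ker_iff (t : Tower G s h P p) {i : ℕ} (hi : i + 1 < h) {x : X} (hx : x ∈ P i) :
    x ∈ ker P h i ↔ ∀ u ∈ P (i + 1), ⁅u, x⁆ ∈ ker P h (i + 1) := by
  rw [ker_eq P hi]
  exact ⟨fun hx' => hx'.2.2, fun hu => ⟨hx, t.le_amb (Nat.le_succ i) hi hx, hu⟩⟩

theorem not_le_ker (t : Tower G s h P p) : ∀ i, i < h → ¬ P i ≤ ker P h i := by
  suffices ∀ d i, i + d + 1 = h → ¬ P i ≤ ker P h i from fun i hi => this (h - 1 - i) i (by omega)
  intro d
  induction d with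
  | zero =>
    intro i hi hle
    rw [show i = h - 1 by omega, ker_top, le_bot_iff] at hle
    exact t.htop hle
  | succ d ih =>
    intro i hi hle
    refine ih (i + 1) (by omega) ?_
    rw [← t.hcomm i (by omega)]
    exact Subgroup.commutator_le.2 fun u hu x hx => (t.mem_ker_iff (by omega) hx).1 (hle hx) u hu

/-- A minimal tower. -/
def Minimal (G : Subgroup X) (s : X) (h : ℕ) (P : ℕ → Subgroup X) (p : ℕ → ℕ) : Prop :=
  ∀ P' : ℕ → Subgroup X, Tower G s h P' p → (∀ i, i < h → P' i ≤ P i) → ∀ i, i < h → P' i = P i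

theorem exists_minimal (t : Tower G s h P p) : ∃ P', Tower G s h P' p ∧ Minimal G s h P' p := by
  classical
  let size : (ℕ → Subgroup X) → ℕ := fun P => ∑ i ∈ Finset.range h, Nat.card (P i)
  have hex : ∃ n, ∃ P', Tower G s h P' p ∧ size P' = n := ⟨_, P, t, rfl⟩
  obtain ⟨P', t', hsize⟩ := Nat.find_spec hex
  refine ⟨P', t', fun P'' t'' hle i hi => ?_⟩
  by_contra hne
  refine Nat.find_min hex (lt_of_lt_of_eq ?_ hsize) ⟨P'', t'', rfl⟩
  refine Finset.sum_lt_sum (fun j hj => Nat.le_of_dvd Nat.card_pos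
    (Subgroup.card_dvd_of_le (hle j (Finset.mem_range.1 hj)))) ⟨i, Finset.mem_range.2 hi, ?_⟩
  exact lt_of_not_ge fun hge => hne (Subgroup.eq_of_le_of_card_ge (hle i hi) hge)

variable (t : Tower G s h P p) (hmin : Minimal G s h P p)

include t hmin

/-- In a minimal tower a proper invariant part lies in the kernel. -/
theorem eq_of_not_le {i : ℕ} (hi : i < h) {D : Subgroup X} (hD : D ≤ P i)
    (hDs : s ∈ Subgroup.normalizer (D : Set X))
    (hDn : ∀ j, j < i → P j ≤ Subgroup.normalizer (D : Set X))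
    (hDc : ∀ j, j + 1 = i → ⁅D, P j⁆ = D) (hDK : ¬ D ≤ ker P h i) : D = P i := by
  classical
  set Q := Function.update P i D with hQ
  have hQle : ∀ j, Q j ≤ P j := fun j => by
    by_cases hj : j = i
    · subst hj; rw [hQ, Function.update_self]; exact hD
    · rw [hQ, Function.update_of_ne hj]
  have hQt : PreTower G s h Q p :=
    { hp := t.hp
      hP := fun j hj => (t.hP j hj).to_le (hQle j)
      hG := fun j hj => (hQle j).trans (t.hG j hj)
      hs := fun j hj => by
        by_cases hji : j = i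
        · subst hji; rw [hQ, Function.update_self]; exact hDs
        · rw [hQ, Function.update_of_ne hji]; exact t.hs j hj
      hnorm := fun a b hab hb => by
        by_cases hbi : b = i
        · subst hbi
          rw [hQ, Function.update_self, Function.update_of_ne (by omega)]
          exact hDn a hab
        · refine (hQle a).trans ?_
          rw [hQ, Function.update_of_ne hbi]
          exact t.hnorm a b hab hb
      hne := t.hne }
  have hlow : ∀ j, j < i → repair Q j = P j := by
    intro j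
    induction j with
    | zero => intro hj; show Q 0 = P 0; rw [hQ, Function.update_of_ne (by omega)]
    | succ j ih =>
      intro hj
      show ⁅Q (j + 1), repair Q j⁆ = P (j + 1)
      rw [ih (by omega), hQ, Function.update_of_ne (by omega), t.hcomm j (by omega)]
  have hati : repair Q i = D := by
    cases i with
    | zero => show Q 0 = D; rw [hQ, Function.update_self]
    | succ j =>
      show ⁅Q (j + 1), repair Q j⁆ = D
      rw [hlow j (by omega), hQ, Function.update_self, hDc j rfl]
  have hup : ∀ d, i + d < h → ¬ repair Q (i + d) ≤ ker P h (i + d) := by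
    intro d
    induction d with
    | zero => intro _; rw [Nat.add_zero, hati]; exact hDK
    | succ d ih =>
      intro hd hle
      refine ih (by omega) fun x hx => ?_
      have hxP : x ∈ P (i + d) := hQle _ ((hQt.repair_props (i + d) (by omega)).1 hx)
      refine (t.mem_ker_iff (i := i + d) (by omega) hxP).2 fun u hu => hle ?_
      show ⁅u, x⁆ ∈ ⁅Q (i + d + 1), repair Q (i + d)⁆
      rw [hQ, Function.update_of_ne (by omega)]
      exact Subgroup.commutator_mem_commutator hu hx
  have htop : repair Q (h - 1) ≠ ⊥ := fun e => hup (h - 1 - i) (by omega) (by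
    rw [show i + (h - 1 - i) = h - 1 by omega, e]; exact bot_le)
  have := hmin _ (hQt.repair_tower htop) (fun j hj => ((hQt.repair_props j hj).1).trans (hQle j)) i hi
  rwa [hati] at this

/-- A proper invariant part is centralized by the group below. -/
theorem commutator_le_ker {i : ℕ} (hi : i + 1 < h) {D : Subgroup X} (hD : D < P (i + 1))
    (hDs : s ∈ Subgroup.normalizer (D : Set X))
    (hDn : ∀ j, j ≤ i → P j ≤ Subgroup.normalizer (D : Set X)) : ⁅D, P i⁆ ≤ ker P h (i + 1) := by
  by_contra hle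
  have hsub : ⁅D, P i⁆ ≤ D := CfsgLib.Coprime.commutator_le_left_of_le_normalizer (hDn i le_rfl)
  have hidem : ⁅⁅D, P i⁆, P i⁆ = ⁅D, P i⁆ := by
    haveI := Fact.mk (t.hp i (by omega))
    haveI := Fact.mk (t.hp (i + 1) hi)
    haveI := ((t.hP (i + 1) hi).to_le hD.le).isNilpotent
    exact CfsgLib.Coprime.commutator_commutator_eq (hDn i le_rfl)
      (IsPGroup.coprime_card_of_ne (p i) (p (i + 1)) (t.hne i hi) _ _ (t.hP i (by omega))
        ((t.hP (i + 1) hi).to_le hD.le)) (Or.inr inferInstance)
  have := t.eq_of_not_le hmin hi (hsub.trans hD.le)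
    (CfsgLib.Coprime.le_normalizer_commutator (A := Subgroup.zpowers s) (Subgroup.zpowers_le.2 hDs)
      (Subgroup.zpowers_le.2 (t.hs i (by omega))) (Subgroup.mem_zpowers s))
    (fun j hj => CfsgLib.Coprime.le_normalizer_commutator (hDn j (by omega)) (by
      rcases Nat.eq_or_lt_of_le (show j ≤ i by omega) with rfl | hlt
      · exact Subgroup.le_normalizer
      · exact t.hnorm j i hlt (by omega)))
    (fun j hj => by rw [show j = i by omega]; exact hidem) hle
  exact hD.ne (le_antisymm hD.le (this ▸ hsub))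

omit hmin in
theorem frattini_invariant {i : ℕ} {g : X} (hg : g ∈ Subgroup.normalizer (P i : Set X)) :
    g ∈ Subgroup.normalizer (((frattini (P i)).map (P i).subtype : Subgroup X) : Set X) := by
  refine mem_normalizer_of_conj ?_
  rintro _ ⟨u, hu, rfl⟩
  exact ⟨(P i).normalizerMonoidHom ⟨g, hg⟩ u,
    Subgroup.characteristic_iff_map_le.mp inferInstance ((P i).normalizerMonoidHom ⟨g, hg⟩)
      (Subgroup.mem_map_of_mem _ hu), rfl⟩

omit hmin in
theorem frattini_lt {i : ℕ} (hi : i < h) : (frattini (P i)).map (P i).subtype < P i := by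
  refine lt_of_le_of_ne (Subgroup.map_subtype_le _) fun e => t.not_le_ker i hi ?_
  have h1 : frattini (P i) = ⊤ := by
    apply Subgroup.map_injective (P i).subtype_injective
    rw [e, ← MonoidHom.range_eq_map, Subgroup.range_subtype]
  have h2 : (⊥ : Subgroup (P i)) = ⊤ := frattini_nongenerating (by rw [bot_sup_eq, h1])
  intro x hx
  have : (⟨x, hx⟩ : P i) = 1 := by
    have : (⟨x, hx⟩ : P i) ∈ (⊥ : Subgroup (P i)) := h2 ▸ Subgroup.mem_top _
    exact Subgroup.mem_bot.1 this
  rw [show x = 1 from congrArg Subtype.val this]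
  exact one_mem _

/-- The Frattini subgroup of the bottom lies in the kernel. -/
theorem frattini_le_ker (hh : 0 < h) : (frattini (P 0)).map (P 0).subtype ≤ ker P h 0 := by
  by_contra hle
  exact (t.frattini_lt hh).ne (t.eq_of_not_le hmin hh (Subgroup.map_subtype_le _)
    (t.frattini_invariant (t.hs 0 hh)) (fun j hj => absurd hj (Nat.not_lt_zero j))
    (fun j hj => absurd hj (by omega)) hle)

/-- The Frattini subgroups are centralized by the group below. -/
theorem frattini_comm {i : ℕ} (hi : i + 1 < h) :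
    ⁅(frattini (P (i + 1))).map (P (i + 1)).subtype, P i⁆ ≤ ker P h (i + 1) :=
  t.commutator_le_ker hmin hi (t.frattini_lt hi) (t.frattini_invariant (t.hs (i + 1) hi))
    fun j hj g hg => t.frattini_invariant (t.hnorm j (i + 1) (by omega) hi hg)

/-- The Frattini subgroups are central modulo the kernels. -/
theorem frattini_central {i : ℕ} (hi : i < h) :
    ⁅(frattini (P i)).map (P i).subtype, P i⁆ ≤ ker P h i := by
  have hKn := (t.ker_props i hi).2.2
  cases i with
  | zero =>
    refine (Subgroup.commutator_mono (t.frattini_le_ker hmin hi) le_rfl).trans ?_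
    exact CfsgLib.Coprime.commutator_le_left_of_le_normalizer (hKn 0 le_rfl)
  | succ i =>
    set Φ := (frattini (P (i + 1))).map (P (i + 1)).subtype with hΦ
    have hΦP : Φ ≤ P (i + 1) := Subgroup.map_subtype_le _
    have hΦn : P (i + 1) ≤ Subgroup.normalizer (Φ : Set X) := fun g hg =>
      t.frattini_invariant (Subgroup.le_normalizer hg)
    have h1 := t.frattini_comm hmin hi
    rw [Subgroup.commutator_comm]
    have key : ⁅⁅P (i + 1), P i⁆, Φ⁆ ≤ ker P h (i + 1) := by
      refine commutator_commutator_le_of_rotate (hKn _ le_rfl) (hKn i (Nat.le_succ i))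
        (hΦP.trans (hKn _ le_rfl)) ?_ ?_
      · rw [Subgroup.commutator_comm (P i) Φ]
        exact (Subgroup.commutator_mono h1 le_rfl).trans
          (CfsgLib.Coprime.commutator_le_left_of_le_normalizer (hKn _ le_rfl))
      · exact (Subgroup.commutator_mono (CfsgLib.Coprime.commutator_le_left_of_le_normalizer hΦn) le_rfl).trans h1
    rwa [t.hcomm i hi] at key

/-- Above the fixed levels the operator moves everything. -/
theorem le_commutator {k : ℕ} (hk : k < h) (hlow : ∀ j, j < k → ∀ a ∈ P j, a * s = s * a)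
    (hmove : ∃ u ∈ P k, u * s ≠ s * u) (c : Ctx G s r) : P k ≤ ⁅P k, Subgroup.zpowers s⁆ := by
  by_contra hlt
  have hsP : Subgroup.zpowers s ≤ Subgroup.normalizer (P k : Set X) := Subgroup.zpowers_le.2 (t.hs k hk)
  set D₁ := ⁅P k, Subgroup.zpowers s⁆ with hD₁
  set D₂ := P k ⊓ Subgroup.centralizer (Subgroup.zpowers s : Set X) with hD₂
  have hD₁lt : D₁ < P k := lt_of_le_of_ne (commutator_zpowers_le (t.hs k hk)) fun e => hlt e.ge
  have hD₂lt : D₂ < P k := by
    refine lt_of_le_of_ne inf_le_left fun e => ?_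
    obtain ⟨u, hu, hus⟩ := hmove
    rw [← e] at hu
    exact hus (hu.2 s (Subgroup.mem_zpowers s)).symm
  have hsD₁ : s ∈ Subgroup.normalizer (D₁ : Set X) := le_normalizer_commutator_zpowers (t.hs k hk)
  have hsD₂ : s ∈ Subgroup.normalizer (D₂ : Set X) := mem_normalizer_of_conj fun u hu => by
    rw [hu.2 s (Subgroup.mem_zpowers s), mul_inv_cancel_right]
    exact hu
  have hdec : D₁ ⊔ D₂ = P k := CfsgLib.Coprime.commutator_sup_centralizer hsP (c.coprime (t.hG k hk))
    (Or.inl (CfsgLib.Coprime.isSolvable_of_isMulCommutative _))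
  have hn : ∀ j, j < k → P j ≤ Subgroup.normalizer (D₁ : Set X) ∧ P j ≤ Subgroup.normalizer (D₂ : Set X) := by
    intro j hj
    refine ⟨fun a ha => normalizer_commutator_zpowers (t.hnorm j k hj hk ha) (hlow j hj a ha), fun a ha => ?_⟩
    refine mem_normalizer_of_conj fun u hu => ⟨(Subgroup.mem_normalizer_iff.1 (t.hnorm j k hj hk ha) u).1 hu.1,
      fun z hz => ?_⟩
    have hzs : Commute a z := by
      obtain ⟨n, rfl⟩ := Subgroup.mem_zpowers_iff.1 hz
      exact (show Commute a s from hlow j hj a ha).zpow_right n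
    have hzu : Commute z u := hu.2 z hz
    exact ((hzs.symm.mul_right hzu).mul_right hzs.symm.inv_right).eq
  refine t.not_le_ker k hk ?_
  cases k with
  | zero =>
    have hz : ∀ D : Subgroup X, D < P 0 → s ∈ Subgroup.normalizer (D : Set X) → D ≤ ker P h 0 :=
      fun D hD hDs => by
        by_contra hle
        exact hD.ne (t.eq_of_not_le hmin hk hD.le hDs (fun j hj => absurd hj (Nat.not_lt_zero j))
          (fun j hj => absurd hj (by omega)) hle)
    rw [← hdec]
    exact sup_le (hz _ hD₁lt hsD₁) (hz _ hD₂lt hsD₂)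
  | succ k =>
    rw [← t.hcomm k hk]
    refine Subgroup.commutator_le.2 fun u hu a ha => ?_
    let R : Subgroup X :=
      { carrier := {u | u ∈ P (k + 1) ∧ ∀ a ∈ P k, ⁅u, a⁆ ∈ ker P h (k + 1)}
        one_mem' := ⟨one_mem _, fun a _ => by simp⟩
        mul_mem' := fun {x y} hx hy => ⟨mul_mem hx.1 hy.1, fun a ha => by
          rw [show ⁅x * y, a⁆ = x * ⁅y, a⁆ * x⁻¹ * ⁅x, a⁆ by simp only [commutatorElement_def]; group]
          exact mul_mem ((Subgroup.mem_normalizer_iff.1 ((t.ker_props (k + 1) hk).2.2 (k + 1) le_rfl hx.1) _).1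
            (hy.2 a ha)) (hx.2 a ha)⟩
        inv_mem' := fun {x} hx => ⟨inv_mem hx.1, fun a ha => by
          rw [show ⁅x⁻¹, a⁆ = x⁻¹ * ⁅x, a⁆⁻¹ * x⁻¹⁻¹ by simp only [commutatorElement_def]; group]
          exact (Subgroup.mem_normalizer_iff.1 ((t.ker_props (k + 1) hk).2.2 (k + 1) le_rfl (inv_mem hx.1)) _).1
            (inv_mem (hx.2 a ha))⟩ }
    have hR : ∀ D : Subgroup X, D < P (k + 1) → s ∈ Subgroup.normalizer (D : Set X) →
        (∀ j, j < k + 1 → P j ≤ Subgroup.normalizer (D : Set X)) → D ≤ R := fun D hD hDs hDn x hx =>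
      ⟨hD.le hx, fun a ha => t.commutator_le_ker hmin hk hD hDs (fun j hj => hDn j (by omega))
        (Subgroup.commutator_mem_commutator hx ha)⟩
    exact ((hdec.ge.trans (sup_le (hR _ hD₁lt hsD₁ fun j hj => (hn j hj).1)
      (hR _ hD₂lt hsD₂ fun j hj => (hn j hj).2))) hu).2 a ha

end Tower

end CfsgLib.FitTuran
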